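import Cfsg.Agent.H57.TTDesign

/-!
# The affine case of S2213 (helper57)

`G` has a regular normal elementary abelian subgroup; then there are exactly two classes of involutions.
-/

set_option autoImplicit false

namespace Cfsg.Agent.H57.TTAffine

open MulAction Cfsg.Agent.H57.TTDesign

universe u v

variable {G : Type u} {Ω : Type v} [Group G] [MulAction G Ω]

/-- regular normal abelian subgroup -/
structure Reg (G : Type u) (Ω : Type v) [Group G] [MulAction G Ω] (N : Subgroup G) : Prop where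
  normal : N.Normal
  comm : ∀ x ∈ N, ∀ y ∈ N, x * y = y * x
  tr : ∀ x y : Ω, ∃ n ∈ N, n • x = y
  sr : ∀ x : Ω, ∀ n ∈ N, n • x = x → n = 1

namespace Reg

variable {N : Subgroup G} (R : Reg G Ω N)
include R

theorem conj_mem (g : G) {v : G} (hv : v ∈ N) : g * v * g⁻¹ ∈ N := R.normal.conj_mem v hv g

theorem eq_of_smul {o : Ω} {v w : G} (hv : v ∈ N) (hw : w ∈ N) (h : v • o = w • o) : v = w := by
  have h1 : w⁻¹ * v = 1 := R.sr o _ (N.mul_mem (N.inv_mem hw) hv) (by rw [mul_smul, h, inv_smul_smul])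
  exact (inv_mul_eq_one.1 h1).symm

omit R in
theorem smul_conj {o : Ω} {h v : G} (ho : h • o = o) : h • v • o = (h * v * h⁻¹) • o := by
  rw [mul_smul, mul_smul, inv_smul_eq_iff.2 ho.symm]

theorem fix_iff {o : Ω} {h v : G} (ho : h • o = o) (hv : v ∈ N) : h • v • o = v • o ↔ h * v * h⁻¹ = v := by
  constructor
  · intro h1
    rw [smul_conj ho] at h1
    exact R.eq_of_smul (R.conj_mem h hv) hv h1
  · intro h1
    rw [smul_conj ho, h1]

theorem card_eq (o : Ω) : Nat.card N = Nat.card Ω := by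
  refine Nat.card_congr (Equiv.ofBijective (fun v : N => (v : G) • o) ⟨?_, ?_⟩)
  · intro v w h
    exact Subtype.ext (R.eq_of_smul v.2 w.2 h)
  · intro x
    obtain ⟨n, hn, h⟩ := R.tr o x
    exact ⟨⟨n, hn⟩, h⟩

theorem card_fix {o : Ω} {h : G} (ho : h • o = o) :
    Nat.card {x : Ω // h • x = x} = Nat.card {v : N // h * v * h⁻¹ = v} := by
  refine (Nat.card_congr (Equiv.ofBijective (fun v : {v : N // h * v * h⁻¹ = v} =>
    (⟨(v.1 : G) • o, (R.fix_iff ho v.1.2).2 v.2⟩ : {x : Ω // h • x = x})) ⟨?_, ?_⟩)).symm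
  · intro v w h
    have h' : (v.1 : G) • o = (w.1 : G) • o := (Subtype.mk.injEq _ _ _ _).mp h
    exact Subtype.ext (Subtype.ext (R.eq_of_smul v.1.2 w.1.2 h'))
  · rintro ⟨x, hx⟩
    obtain ⟨n, hn, rfl⟩ := R.tr o x
    exact ⟨⟨⟨n, hn⟩, (R.fix_iff ho hn).1 hx⟩, rfl⟩

/-- an element of a point stabiliser that centralises `N` is trivial -/
theorem eq_one [FaithfulSMul G Ω] {o : Ω} {h : G} (ho : h • o = o) (hc : ∀ v ∈ N, h * v * h⁻¹ = v) : h = 1 := by
  apply FaithfulSMul.eq_of_smul_eq_smul (α := Ω)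
  intro x
  obtain ⟨n, hn, rfl⟩ := R.tr o x
  rw [one_smul]
  exact (R.fix_iff ho hn).2 (hc n hn)

/-- a point stabiliser is transitive on `N` minus 1 -/
theorem exists_conj (two : ∀ a b c d : Ω, a ≠ b → c ≠ d → ∃ g : G, g • a = c ∧ g • b = d) (o : Ω) {v w : G}
    (hv : v ∈ N) (hw : w ∈ N) (hv1 : v ≠ 1) (hw1 : w ≠ 1) : ∃ g : G, g • o = o ∧ g * v * g⁻¹ = w := by
  obtain ⟨g, h1, h2⟩ := two o (v • o) o (w • o) (fun h => hv1 (R.sr o v hv h.symm)) (fun h => hw1 (R.sr o w hw h.symm))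
  refine ⟨g, h1, ?_⟩
  rw [smul_conj h1] at h2
  exact R.eq_of_smul (R.conj_mem g hv) hw h2

/-- involution dichotomy -/
theorem inv_or [FaithfulSMul G Ω] {r : G} (hr : r * r = 1) :
    (∃ w ∈ N, w ≠ 1 ∧ r * w * r⁻¹ = w) ∨ ∀ v ∈ N, r * v * r⁻¹ = v⁻¹ := by
  by_cases h : ∃ w ∈ N, w ≠ 1 ∧ r * w * r⁻¹ = w
  · exact Or.inl h
  right
  push Not at h
  intro v hv
  by_contra hcon
  have hrv := R.conj_mem r hv
  have hri : r⁻¹ = r := inv_eq_of_mul_eq_one_right hr
  have h1 : r * (v * (r * v * r⁻¹)) * r⁻¹ = v * (r * v * r⁻¹) := by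
    have h2 : r * (v * (r * v * r⁻¹)) * r⁻¹ = (r * v * r⁻¹) * ((r * r) * v * (r * r)⁻¹) := by group
    rw [h2, hr, R.comm v hv _ hrv]; group
  apply h _ (N.mul_mem hv hrv) ?_ h1
  intro h3
  apply hcon
  exact (inv_eq_of_mul_eq_one_right h3).symm

end Reg

variable {N : Subgroup G} {t : G}

/-- line element of a nontrivial element of `N` -/
theorem line (R : Reg G Ω N) (H : UT G Ω t) (o : Ω) {w : G} (hw : w ∈ N) (hw1 : w ≠ 1) :
    ∃ s : G, UT G Ω s ∧ IsConj t s ∧ s • o = o ∧ s * w * s⁻¹ = w := by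
  obtain ⟨s, h1, h2, h3, h4, h5⟩ := H.exists_line' o (w • o) (fun h => hw1 (R.sr o w hw h.symm))
  exact ⟨s, h1, h2, h3, (R.fix_iff h3 hw).1 h4⟩

theorem exists_fix_of_odd [Finite Ω] (hn : Odd (Nat.card Ω)) {g : G} (hg : g * g = 1) : ∃ x : Ω, g • x = x := by
  classical
  have hfin : Fintype Ω := Fintype.ofFinite Ω
  have hn' : ¬ 2 ∣ Fintype.card Ω := by
    rw [← Nat.card_eq_fintype_card]
    exact hn.not_two_dvd_nat
  have : Fact (Nat.Prime 2) := ⟨Nat.prime_two⟩
  have h1 : (MulAction.toPermHom G Ω g) ^ 2 ^ 1 = 1 := by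
    rw [← map_pow, pow_one, pow_two, hg, map_one]
  exact Equiv.Perm.exists_fixed_point_of_prime hn' h1

section odd

variable [Finite Ω] [FaithfulSMul G Ω] (R : Reg G Ω N) (hodd : ∀ v ∈ N, v ≠ 1 → v * v ≠ 1)
include R hodd

omit [FaithfulSMul G Ω] in
/-- in odd characteristic the stabiliser of a point and a nontrivial element of `N` is generated by the line -/
theorem uniq_odd {s : G} (Hs : UT G Ω s) {o : Ω} (ho : s • o = o) {w : G} (hw : w ∈ N) (hw1 : w ≠ 1)
    (hs : s * w * s⁻¹ = w) {h : G} (hho : h • o = o) (hhw : h * w * h⁻¹ = w) : h = 1 ∨ h = s := by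
  by_cases h1 : h = 1
  · exact Or.inl h1
  right
  have hww : h * (w * w) * h⁻¹ = w * w := by
    calc h * (w * w) * h⁻¹ = (h * w * h⁻¹) * (h * w * h⁻¹) := by group
      _ = w * w := by rw [hhw]
  refine Hs.eq_of_three (c := o) (d := w • o) (e := (w * w) • o) ?_ ?_ ?_ ho ((R.fix_iff ho hw).2 hs) h1 hho
    ((R.fix_iff hho hw).2 hhw) ((R.fix_iff hho (N.mul_mem hw hw)).2 hww)
  · intro h; exact hw1 (R.sr o w hw h.symm)
  · intro h; exact hodd w hw hw1 (R.sr o _ (N.mul_mem hw hw) h.symm)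
  · intro h
    apply hw1
    have h2 := R.eq_of_smul hw (N.mul_mem hw hw) h
    exact (mul_left_cancel (a := w) (h2.symm.trans (mul_one w).symm))

/-- odd characteristic: `-1` is in the point stabiliser -/
theorem exists_neg (H : UT G Ω t) {o : Ω} (ho : t • o = o) : ∃ z : G, z • o = o ∧ z * z = 1 ∧
    ∀ v ∈ N, z * v * z⁻¹ = v⁻¹ := by
  have htt := H.mul_self
  have hti : t⁻¹ = t := H.inv_eq
  -- v : a fixed vector of t
  obtain ⟨v, hv, hv1, htv⟩ : ∃ v ∈ N, v ≠ 1 ∧ t * v * t⁻¹ = v := by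
    obtain ⟨c, hc, hco, -⟩ := H.exists_third o o
    obtain ⟨v, hv, rfl⟩ := R.tr o c
    exact ⟨v, hv, fun h => hco (by rw [h, one_smul]), (R.fix_iff ho hv).1 hc⟩
  -- u : an inverted vector
  obtain ⟨u, hu, hu1, htu⟩ : ∃ u ∈ N, u ≠ 1 ∧ t * u * t⁻¹ = u⁻¹ := by
    by_contra hcon
    push Not at hcon
    apply H.ne
    apply R.eq_one ho
    intro x hx
    by_contra hne
    apply hcon (x⁻¹ * (t * x * t⁻¹)) (N.mul_mem (N.inv_mem hx) (R.conj_mem t hx))
    · intro h; exact hne (inv_mul_eq_one.1 h).symm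
    · calc t * (x⁻¹ * (t * x * t⁻¹)) * t⁻¹ = (t * x * t⁻¹)⁻¹ * ((t * t) * x * (t * t)⁻¹) := by group
        _ = (t * x * t⁻¹)⁻¹ * x := by rw [htt]; group
        _ = (x⁻¹ * (t * x * t⁻¹))⁻¹ := by group
  -- the line of an inverted vector
  have key : ∀ u ∈ N, u ≠ 1 → t * u * t⁻¹ = u⁻¹ → ∀ s : G, UT G Ω s → s • o = o → s * u * s⁻¹ = u →
      s ≠ t ∧ t * s = s * t ∧ ∀ x ∈ N, t * x * t⁻¹ = x → s * x * s⁻¹ = x⁻¹ := by
    intro u hu hu1 htu s Hs hso hsu
    have hst : s ≠ t := by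
      rintro rfl
      rw [hsu] at htu
      apply hodd u hu hu1
      nth_rewrite 1 [htu]
      exact inv_mul_cancel u
    have hts : t * s = s * t := by
      have h1 : (t * s * t⁻¹) * u * (t * s * t⁻¹)⁻¹ = u := by
        have h2 : (t * s * t⁻¹) * u⁻¹ * (t * s * t⁻¹)⁻¹ = u⁻¹ := by
          calc (t * s * t⁻¹) * u⁻¹ * (t * s * t⁻¹)⁻¹ = t * (s * (t⁻¹ * u⁻¹ * t) * s⁻¹) * t⁻¹ := by group
            _ = t * (s * u * s⁻¹) * t⁻¹ := by
                have : t⁻¹ * u⁻¹ * t = u := by rw [← htu]; group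
                rw [this]
            _ = u⁻¹ := by rw [hsu, htu]
        have h3 : (t * s * t⁻¹) * u * (t * s * t⁻¹)⁻¹ = ((t * s * t⁻¹) * u⁻¹ * (t * s * t⁻¹)⁻¹)⁻¹ := by group
        rw [h3, h2, inv_inv]
      have h4 : (t * s * t⁻¹) • o = o := by
        rw [mul_smul, mul_smul, inv_smul_eq_iff.2 ho.symm, hso, ho]
      rcases uniq_odd R hodd Hs hso hu hu1 hsu h4 h1 with h5 | h5
      · exfalso
        apply Hs.ne
        have : s = t⁻¹ * (t * s * t⁻¹) * t := by group
        rw [this, h5]; group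
      · calc t * s = t * s * t⁻¹ * t := by group
          _ = s * t := by rw [h5]
    refine ⟨hst, hts, ?_⟩
    intro x hx htx
    by_contra hcon
    apply hst
    have hsx := R.conj_mem s hx
    set y := x * (s * x * s⁻¹) with hy
    have hyN : y ∈ N := N.mul_mem hx hsx
    have hy1 : y ≠ 1 := fun h => hcon (inv_eq_of_mul_eq_one_right h).symm
    have hsy : s * y * s⁻¹ = y := by
      calc s * y * s⁻¹ = (s * x * s⁻¹) * ((s * s) * x * (s * s)⁻¹) := by rw [hy]; group
        _ = (s * x * s⁻¹) * x := by rw [Hs.mul_self]; group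
        _ = y := by rw [hy, R.comm x hx _ hsx]
    have hty : t * y * t⁻¹ = y := by
      calc t * y * t⁻¹ = (t * x * t⁻¹) * ((t * s) * x * (t * s)⁻¹) := by rw [hy]; group
        _ = (t * x * t⁻¹) * ((s * t) * x * (s * t)⁻¹) := by rw [hts]
        _ = (t * x * t⁻¹) * (s * (t * x * t⁻¹) * s⁻¹) := by group
        _ = y := by rw [htx]
    exact H.eq_of_line Hs (c := o) (d := y • o) (fun h => hy1 (R.sr o y hyN h.symm)) ho ((R.fix_iff ho hyN).2 hty)
      hso ((R.fix_iff hso hyN).2 hsy)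
  obtain ⟨s, Hs, -, hso, hsu⟩ := line R H o hu hu1
  obtain ⟨hst, hts, hsinv⟩ := key u hu hu1 htu s Hs hso hsu
  have hss := Hs.mul_self
  have hsi : s⁻¹ = s := Hs.inv_eq
  have hrr : (s * t) * (s * t) = 1 := by
    calc (s * t) * (s * t) = s * (t * s) * t := by group
      _ = s * s * (t * t) := by rw [hts]; group
      _ = 1 := by rw [hss, htt, one_mul]
  have hr1 : s * t ≠ 1 := by
    intro h
    apply hst
    calc s = s * t * t⁻¹ := by group
      _ = t⁻¹ := by rw [h, one_mul]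
      _ = t := hti
  have hro : (s * t) • o = o := by rw [mul_smul, ho, hso]
  rcases R.inv_or hrr with ⟨x, hx, hx1, hrx⟩ | h
  swap
  · exact ⟨s * t, hro, hrr, h⟩
  exfalso
  -- x is inverted by t
  have htx : t * x * t⁻¹ = x⁻¹ := by
    by_contra hcon
    apply hst
    have htx' := R.conj_mem t hx
    set y := x * (t * x * t⁻¹) with hy
    have hyN : y ∈ N := N.mul_mem hx htx'
    have hy1 : y ≠ 1 := fun h => hcon (inv_eq_of_mul_eq_one_right h).symm
    have hty : t * y * t⁻¹ = y := by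
      calc t * y * t⁻¹ = (t * x * t⁻¹) * ((t * t) * x * (t * t)⁻¹) := by rw [hy]; group
        _ = (t * x * t⁻¹) * x := by rw [htt]; group
        _ = y := by rw [hy, R.comm x hx _ htx']
    have hry : (s * t) * y * (s * t)⁻¹ = y := by
      calc (s * t) * y * (s * t)⁻¹ = ((s * t) * x * (s * t)⁻¹) * ((s * t * t) * x * (s * t * t)⁻¹) := by
            rw [hy]; group
        _ = x * ((t * s * t) * x * (t * s * t)⁻¹) := by rw [hrx, hts]
        _ = x * (t * ((s * t) * x * (s * t)⁻¹) * t⁻¹) := by group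
        _ = y := by rw [hrx]
    have hsy : s * y * s⁻¹ = y := by
      calc s * y * s⁻¹ = s * (t * y * t⁻¹) * s⁻¹ := by rw [hty]
        _ = (s * t) * y * (s * t)⁻¹ := by group
        _ = y := hry
    exact H.eq_of_line Hs (c := o) (d := y • o) (fun h => hy1 (R.sr o y hyN h.symm)) ho ((R.fix_iff ho hyN).2 hty)
      hso ((R.fix_iff hso hyN).2 hsy)
  have hnt : ∀ y ∈ N, y ≠ 1 → t * y * t⁻¹ = y⁻¹ → ¬ (s * y * s⁻¹ = y ∧ (s * t) * y * (s * t)⁻¹ = y) := by
    rintro y hy hy1 hty ⟨h1, h2⟩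
    have h3 : s * (t * y * t⁻¹) * s⁻¹ = y := by
      calc s * (t * y * t⁻¹) * s⁻¹ = (s * t) * y * (s * t)⁻¹ := by group
        _ = y := h2
    rw [hty] at h3
    have h4 : s * y⁻¹ * s⁻¹ = y⁻¹ := by
      calc s * y⁻¹ * s⁻¹ = (s * y * s⁻¹)⁻¹ := by group
        _ = y⁻¹ := by rw [h1]
    rw [h4] at h3
    apply hodd y hy hy1
    nth_rewrite 1 [← h3]
    exact inv_mul_cancel y
  have hux1 : u * x ≠ 1 := by
    intro h
    have hxu : x = u⁻¹ := (inv_eq_of_mul_eq_one_right h).symm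
    apply hnt x hx hx1 htx
    refine ⟨?_, hrx⟩
    rw [hxu]
    calc s * u⁻¹ * s⁻¹ = (s * u * s⁻¹)⁻¹ := by group
      _ = u⁻¹ := by rw [hsu]
  have hux : u * x ∈ N := N.mul_mem hu hx
  have htux : t * (u * x) * t⁻¹ = (u * x)⁻¹ := by
    calc t * (u * x) * t⁻¹ = (t * u * t⁻¹) * (t * x * t⁻¹) := by group
      _ = u⁻¹ * x⁻¹ := by rw [htu, htx]
      _ = (x * u)⁻¹ := by group
      _ = (u * x)⁻¹ := by rw [R.comm x hx u hu]
  obtain ⟨s', Hs', -, hso', hsu'⟩ := line R H o hux hux1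
  obtain ⟨hst', hts', hsinv'⟩ := key (u * x) hux hux1 htux s' Hs' hso' hsu'
  have hssv : (s * s') * v * (s * s')⁻¹ = v := by
    calc (s * s') * v * (s * s')⁻¹ = s * (s' * v * s'⁻¹) * s⁻¹ := by group
      _ = s * v⁻¹ * s⁻¹ := by rw [hsinv' v hv htv]
      _ = (s * v * s⁻¹)⁻¹ := by group
      _ = v := by rw [hsinv v hv htv, inv_inv]
  have hsso : (s * s') • o = o := by rw [mul_smul, hso', hso]
  have hcase : s' = s ∨ s' = s * t := by
    rcases uniq_odd R hodd H ho hv hv1 htv hsso hssv with h | h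
    · left
      calc s' = s⁻¹ * (s * s') := by group
        _ = s := by rw [h, mul_one, hsi]
    · right
      calc s' = s⁻¹ * (s * s') := by group
        _ = s * t := by rw [h, hsi]
  rcases hcase with h | h
  · rw [h] at hsu'
    apply hnt x hx hx1 htx
    refine ⟨?_, hrx⟩
    calc s * x * s⁻¹ = (s * u * s⁻¹)⁻¹ * (s * (u * x) * s⁻¹) := by group
      _ = x := by rw [hsu, hsu']; group
  · rw [h] at hsu'
    apply hnt u hu hu1 htu
    refine ⟨hsu, ?_⟩
    calc (s * t) * u * (s * t)⁻¹ = ((s * t) * (u * x) * (s * t)⁻¹) * ((s * t) * x * (s * t)⁻¹)⁻¹ := by group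
      _ = u := by rw [hrx, hsu']; group

/-- the conclusion in odd characteristic -/
theorem classes_odd (H : UT G Ω t) (hn : Odd (Nat.card Ω)) :
    (ConjClasses.mk '' {g : G | orderOf g = 2}).ncard = 2 := by
  obtain ⟨o, b, hob, ho, hb⟩ := H.exists_pts
  obtain ⟨z, hzo, hzz, hz⟩ := exists_neg R hodd H ho
  obtain ⟨v, hv, rfl⟩ := R.tr o b
  have hv1 : v ≠ 1 := fun h => hob (by rw [h, one_smul])
  have hz1 : z ≠ 1 := by
    rintro rfl
    apply hodd v hv hv1
    have := hz v hv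
    rw [one_mul, inv_one, mul_one] at this
    nth_rewrite 1 [this]
    exact inv_mul_cancel v
  have hset : ConjClasses.mk '' {g : G | orderOf g = 2} = {ConjClasses.mk t, ConjClasses.mk z} := by
    ext c
    constructor
    · rintro ⟨g, hg, rfl⟩
      have hg2 : g * g = 1 := by
        have := pow_orderOf_eq_one g
        rwa [Set.mem_ofPred.1 hg, pow_two] at this
      have hg1 : g ≠ 1 := by
        rintro rfl
        rw [Set.mem_ofPred, orderOf_one] at hg
        omega
      obtain ⟨y, hy⟩ := exists_fix_of_odd (Ω := Ω) hn hg2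
      obtain ⟨n, hnN, rfl⟩ := R.tr o y
      -- conjugate into the stabiliser of `o`
      set h := n⁻¹ * g * n with hh
      have hho : h • o = o := by
        rw [hh, mul_smul, mul_smul, hy, inv_smul_smul]
      have hhh : h * h = 1 := by
        calc h * h = n⁻¹ * (g * g) * n := by rw [hh]; group
          _ = 1 := by rw [hg2]; group
      have hconj : IsConj h g := isConj_iff.2 ⟨n, by rw [hh]; group⟩
      have hh1 : h ≠ 1 := by
        intro h1
        apply hg1
        rw [h1] at hconj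
        exact isConj_one_right.1 hconj
      rcases R.inv_or hhh with ⟨w, hw, hw1, hhw⟩ | hinv
      · left
        obtain ⟨s, Hs, hsc, hso, hsw⟩ := line R H o hw hw1
        rcases uniq_odd R hodd Hs hso hw hw1 hsw hho hhw with h2 | h2
        · exact absurd h2 hh1
        · rw [ConjClasses.mk_eq_mk_iff_isConj]
          rw [h2] at hconj
          exact (hsc.trans hconj).symm
      · right
        have h2 : h * z = 1 := by
          apply R.eq_one (o := o)
          · rw [mul_smul, hzo, hho]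
          · intro v hv
            calc (h * z) * v * (h * z)⁻¹ = h * (z * v * z⁻¹) * h⁻¹ := by group
              _ = h * v⁻¹ * h⁻¹ := by rw [hz v hv]
              _ = v := by rw [hinv v⁻¹ (N.inv_mem hv), inv_inv]
        have h3 : h = z := by
          calc h = h * z * z⁻¹ := by group
            _ = z⁻¹ := by rw [h2, one_mul]
            _ = z := inv_eq_of_mul_eq_one_right hzz
        rw [Set.mem_singleton_iff, ConjClasses.mk_eq_mk_iff_isConj]
        rw [h3] at hconj
        exact hconj.symm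
    · rintro (rfl | h)
      · exact ⟨t, H.orderOf_eq, rfl⟩
      · rw [Set.mem_singleton_iff] at h
        exact ⟨z, orderOf_eq_prime (by rw [pow_two]; exact hzz) hz1, h.symm⟩
  rw [hset]
  apply Set.ncard_pair
  intro h
  rw [ConjClasses.mk_eq_mk_iff_isConj] at h
  obtain ⟨g, hg⟩ := isConj_iff.1 h
  have Hz : UT G Ω z := hg ▸ H.conj g
  obtain ⟨c, hc, hco, -⟩ := Hz.exists_third o o
  obtain ⟨w, hw, rfl⟩ := R.tr o c
  have hw1 : w ≠ 1 := fun h => hco (by rw [h, one_smul])
  have h1 := (R.fix_iff hzo hw).1 hc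
  rw [hz w hw] at h1
  apply hodd w hw hw1
  nth_rewrite 1 [← h1]
  exact inv_mul_cancel w

end odd

section even

variable (R : Reg G Ω N) (hev : ∀ v ∈ N, v * v = 1)
include R hev

/-- the commutator map of an involution -/
theorem exists_comm_map {h : G} (hh : h * h = 1) :
    ∃ C I : Subgroup N, (∀ v : N, v ∈ C ↔ h * v * h⁻¹ = v) ∧ (∀ v : N, v ∈ I ↔ ∃ x ∈ N, x⁻¹ * (h * x * h⁻¹) = v) ∧
      I ≤ C ∧ Nat.card C * Nat.card I = Nat.card N := by
  have := R.normal
  let φ : N →* N :=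
    { toFun := fun x => ⟨(x : G)⁻¹ * (h * x * h⁻¹), N.mul_mem (N.inv_mem x.2) (R.conj_mem h x.2)⟩
      map_one' := by apply Subtype.ext; simp
      map_mul' := by
        intro x y
        apply Subtype.ext
        change ((x : G) * y)⁻¹ * (h * (x * y) * h⁻¹) = ((x : G)⁻¹ * (h * x * h⁻¹)) * ((y : G)⁻¹ * (h * y * h⁻¹))
        have h1 : (y : G)⁻¹ * ((x : G)⁻¹ * (h * x * h⁻¹)) = ((x : G)⁻¹ * (h * x * h⁻¹)) * (y : G)⁻¹ :=
          R.comm _ (N.inv_mem y.2) _ (N.mul_mem (N.inv_mem x.2) (R.conj_mem h x.2))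
        calc ((x : G) * y)⁻¹ * (h * (x * y) * h⁻¹) = ((y : G)⁻¹ * ((x : G)⁻¹ * (h * x * h⁻¹))) * (h * y * h⁻¹) := by
              group
          _ = (((x : G)⁻¹ * (h * x * h⁻¹)) * (y : G)⁻¹) * (h * y * h⁻¹) := by rw [h1]
          _ = _ := by group }
  refine ⟨φ.ker, φ.range, ?_, ?_, ?_, ?_⟩
  · intro v
    rw [MonoidHom.mem_ker, Subtype.ext_iff]
    change (v : G)⁻¹ * (h * v * h⁻¹) = 1 ↔ _
    rw [inv_mul_eq_one]
    exact eq_comm
  · intro v
    constructor
    · rintro ⟨x, rfl⟩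
      exact ⟨x.1, x.2, rfl⟩
    · rintro ⟨x, hx, h1⟩
      exact ⟨⟨x, hx⟩, Subtype.ext h1⟩
  · rintro _ ⟨x, rfl⟩
    rw [MonoidHom.mem_ker, Subtype.ext_iff]
    change ((x : G)⁻¹ * (h * x * h⁻¹))⁻¹ * (h * ((x : G)⁻¹ * (h * x * h⁻¹)) * h⁻¹) = 1
    have h2 : h * ((x : G)⁻¹ * (h * x * h⁻¹)) * h⁻¹ = ((x : G)⁻¹ * (h * x * h⁻¹))⁻¹ := by
      calc h * ((x : G)⁻¹ * (h * x * h⁻¹)) * h⁻¹ = (h * x * h⁻¹)⁻¹ * ((h * h) * x * (h * h)⁻¹) := by group
        _ = (h * x * h⁻¹)⁻¹ * x := by rw [hh]; group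
        _ = _ := by group
    rw [h2]
    set w := (x : G)⁻¹ * (h * x * h⁻¹) with hw
    have hwN : w ∈ N := N.mul_mem (N.inv_mem x.2) (R.conj_mem h x.2)
    have := hev w⁻¹ (N.inv_mem hwN)
    exact this
  · have h1 := Subgroup.card_mul_index φ.ker
    rw [Subgroup.index_ker] at h1
    exact h1

/-- the conclusion in characteristic 2 -/
theorem classes_even [Finite Ω] [FaithfulSMul G Ω] (H : UT G Ω t) :
    (ConjClasses.mk '' {g : G | orderOf g = 2}).ncard = 2 := by
  classical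
  obtain ⟨o, b, hob, ho, hb⟩ := H.exists_pts
  obtain ⟨n0, hn0, hn0b⟩ := R.tr o b
  have hn01 : n0 ≠ 1 := fun h => hob (by rw [← hn0b, h, one_smul])
  have hNfin : Finite N := Nat.finite_of_card_ne_zero (by
    rw [R.card_eq o]
    have : Nonempty Ω := ⟨o⟩
    exact Nat.card_pos.ne')
  have hcard : ∀ {h : G}, h • o = o → ∀ C : Subgroup N, (∀ v : N, v ∈ C ↔ h * v * h⁻¹ = v) →
      Nat.card C = Nat.card {x : Ω // h • x = x} := by
    intro h hho C hC
    rw [R.card_fix hho]
    exact Nat.card_congr (Equiv.subtypeEquivRight hC)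
  -- size of Fix(t)
  obtain ⟨C0, I0, hC0, hI0, hle0, hmul0⟩ := exists_comm_map R hev H.mul_self
  have hk := hcard ho C0 hC0
  have hn := R.card_eq o
  have h1 := H.pairs_le
  have h3 := H.three
  rw [← hn, ← hmul0, ← hk] at h1
  rw [← hk] at h3
  have hdvd : Nat.card I0 ∣ Nat.card C0 := Subgroup.card_dvd_of_le hle0
  have hI0C0 : Nat.card I0 = Nat.card C0 := by
    obtain ⟨c, hc⟩ := hdvd
    have hIpos : 0 < Nat.card I0 := Nat.card_pos
    rcases Nat.lt_or_ge c 2 with h | h
    · interval_cases c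
      · omega
      · omega
    · exfalso
      set i := Nat.card I0
      set k := Nat.card C0
      have h4 : 2 * i ≤ k := by rw [hc]; nlinarith
      have h5 : 2 * (k * i) ≤ k * k := by nlinarith
      have h6 : k * (k - 1) + 1 ≤ k * i := by
        have : 0 < k * i := by positivity
        omega
      have h7 : k * (k - 1) = k * k - k := by rw [Nat.mul_sub, mul_one]
      have h8 : 3 * k ≤ k * k := Nat.mul_le_mul_right k (by omega)
      rw [h7] at h6
      omega
  -- every involution of the stabiliser of `o` is a line element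
  have hinvo : ∀ h : G, h • o = o → h * h = 1 → h ≠ 1 → UT G Ω h ∧ IsConj t h := by
    intro h hho hhh hh1
    obtain ⟨C, I, hC, hI, hle, hmul⟩ := exists_comm_map R hev hhh
    have hkC := hcard hho C hC
    have hIC : Nat.card I ≤ Nat.card C := Nat.le_of_dvd Nat.card_pos (Subgroup.card_dvd_of_le hle)
    have hlow : Nat.card C0 ≤ Nat.card C := by
      rw [← hmul0, hI0C0] at hmul
      by_contra hcon
      push Not at hcon
      have : Nat.card C * Nat.card I < Nat.card C0 * Nat.card C0 :=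
        Nat.mul_lt_mul_of_lt_of_le hcon (hIC.trans hcon.le) (by omega)
      omega
    have h3' : 2 < Nat.card {x : Ω // h • x = x} := by rw [← hkC]; omega
    obtain ⟨w, hw⟩ : ∃ w : C, w ≠ 1 := by
      have : Nontrivial C := Finite.one_lt_card_iff_nontrivial.1 (by omega)
      exact exists_ne 1
    have hww : h * w * h⁻¹ = w := (hC w).1 w.2
    have hw1 : ((w : N) : G) ≠ 1 := fun h => hw (Subtype.ext (Subtype.ext h))
    obtain ⟨s, Hs, hsc, hso, hsw⟩ := line R H o w.1.2 hw1
    have heq : h = s := by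
      apply Hs.uniq o ((w : N) • o) (fun h => hw1 (R.sr o _ w.1.2 h.symm)) hso ((R.fix_iff hso w.1.2).2 hsw) h hho
        ((R.fix_iff hho w.1.2).2 hww) hh1 h3'
    rw [heq]
    exact ⟨Hs, hsc⟩
  have hset : ConjClasses.mk '' {g : G | orderOf g = 2} = {ConjClasses.mk t, ConjClasses.mk n0} := by
    ext c
    constructor
    · rintro ⟨g, hg, rfl⟩
      have hg2 : g * g = 1 := by
        have := pow_orderOf_eq_one g
        rwa [Set.mem_ofPred.1 hg, pow_two] at this
      have hg1 : g ≠ 1 := by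
        rintro rfl
        rw [Set.mem_ofPred, orderOf_one] at hg
        omega
      by_cases hgN : g ∈ N
      · right
        obtain ⟨x, hx, hxg⟩ := R.exists_conj H.two o hn0 hgN hn01 hg1
        rw [Set.mem_singleton_iff, ConjClasses.mk_eq_mk_iff_isConj]
        exact (isConj_iff.2 ⟨x, hxg⟩).symm
      · left
        obtain ⟨v, hv, hvg⟩ := R.tr o (g • o)
        set h := v⁻¹ * g with hh
        have hho : h • o = o := by rw [hh, mul_smul, ← hvg, inv_smul_smul]
        have hgvh : g = v * h := by rw [hh]; group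
        have hh1 : h ≠ 1 := by
          intro h1
          apply hgN
          rw [hgvh, h1, mul_one]
          exact hv
        have hvh := R.conj_mem h hv
        have h4 : (v * (h * v * h⁻¹)) * (h * h) = 1 := by
          rw [← hg2, hgvh]; group
        have h5 : h * h = (v * (h * v * h⁻¹))⁻¹ := (inv_eq_of_mul_eq_one_right h4).symm
        have h6 : h * h = 1 := by
          apply R.sr o
          · rw [h5]; exact N.inv_mem (N.mul_mem hv hvh)
          · rw [mul_smul, hho, hho]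
        have h7 : h * v * h⁻¹ = v := by
          rw [h6, mul_one] at h4
          calc h * v * h⁻¹ = v⁻¹ * (v * (h * v * h⁻¹)) := by group
            _ = v⁻¹ := by rw [h4, mul_one]
            _ = v := inv_eq_of_mul_eq_one_right (hev v hv)
        obtain ⟨Hh, hconj⟩ := hinvo h hho h6 hh1
        obtain ⟨C, I, hC, hI, hle, hmul⟩ := exists_comm_map R hev h6
        have hkC := hcard hho C hC
        have hkt : Nat.card {x : Ω // h • x = x} = Nat.card {x : Ω // t • x = x} := by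
          obtain ⟨y, hy⟩ := isConj_iff.1 hconj
          rw [← hy]
          exact card_fix_conj y t
        have hCC : Nat.card C = Nat.card C0 := by rw [hkC, hkt, hk]
        have hIC : Nat.card I = Nat.card C := by
          rw [← hmul0, hCC, hI0C0] at hmul
          rw [hCC]
          exact Nat.eq_of_mul_eq_mul_left (by omega) hmul
        have hIeq : I = C := Subgroup.eq_of_le_of_card_ge hle hIC.ge
        have hvI : (⟨v, hv⟩ : N) ∈ I := by rw [hIeq]; exact (hC ⟨v, hv⟩).2 h7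
        obtain ⟨x, hx, hxv⟩ := (hI ⟨v, hv⟩).1 hvI
        have h8 : g = x⁻¹ * h * x⁻¹⁻¹ := by
          change x⁻¹ * (h * x * h⁻¹) = v at hxv
          rw [hgvh, ← hxv]; group
        rw [ConjClasses.mk_eq_mk_iff_isConj]
        exact (hconj.trans (isConj_iff.2 ⟨x⁻¹, h8.symm⟩)).symm
    · rintro (rfl | h)
      · exact ⟨t, H.orderOf_eq, rfl⟩
      · rw [Set.mem_singleton_iff] at h
        exact ⟨n0, orderOf_eq_prime (by rw [pow_two]; exact hev n0 hn0) hn01, h.symm⟩
  rw [hset]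
  apply Set.ncard_pair
  intro h
  rw [ConjClasses.mk_eq_mk_iff_isConj] at h
  obtain ⟨g, hg⟩ := isConj_iff.1 h.symm
  apply H.ne
  apply R.sr o t _ ho
  rw [← hg]
  exact R.conj_mem g hn0

end even

/-- **Affine case of S2213.** -/
theorem classes [Finite Ω] [FaithfulSMul G Ω] (R : Reg G Ω N) {p : ℕ} (hp : p.Prime) (hexp : ∀ n ∈ N, n ^ p = 1)
    (H : UT G Ω t) : (ConjClasses.mk '' {g : G | orderOf g = 2}).ncard = 2 := by
  rcases hp.eq_two_or_odd' with rfl | hpo
  · exact classes_even R (fun v hv => by rw [← pow_two]; exact hexp v hv) H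
  · refine classes_odd R ?_ H ?_
    · intro v hv hv1 h
      apply hv1
      obtain ⟨m, rfl⟩ := hpo
      have := hexp v hv
      rwa [pow_succ, pow_mul, pow_two, h, one_pow, one_mul] at this
    · obtain ⟨o, b, hob, ho, hb⟩ := H.exists_pts
      rw [← R.card_eq o]
      have hNfin : Finite N := Nat.finite_of_card_ne_zero (by
        rw [R.card_eq o]
        have : Nonempty Ω := ⟨o⟩
        exact Nat.card_pos.ne')
      have hpg : IsPGroup p N := fun x => ⟨1, by
        apply Subtype.ext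
        rw [pow_one]
        exact hexp x x.2⟩
      have : Fact p.Prime := ⟨hp⟩
      obtain ⟨k, hk⟩ := IsPGroup.iff_card.1 hpg
      rw [hk]
      exact hpo.pow

end Cfsg.Agent.H57.TTAffine
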