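import Cfsg.Agent.H57.TTAffine
import Cfsg.Agent.H57.TTRee
import Cfsg.Agent.MonsterU.Gasch
import Cfsg.Agent.H478.KleinEven
import Cfsg.Agent.S2302
import Cfsg.Agent.S0228
import Cfsg.Agent.S0251

/-!
# The row `PΓL₂(8)` on 28 points of S2213 (helper57)
-/

set_option autoImplicit false

namespace Cfsg.Agent.H57.TTL28

open Subgroup MulAction Cfsg.Agent.H57.TTDesign Cfsg.Agent.H57.TTRee

universe u v

/-- in `SL₂(F)`, characteristic 2, the centraliser of an involution has exponent 2 -/
theorem sl_cent {F : Type*} [Field F] [CharP F 2] (g h : Matrix.SpecialLinearGroup (Fin 2) F) (hg : orderOf g = 2)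
    (hc : g * h = h * g) : h * h = 1 := by
  have h2 : (2 : F) = 0 := CharTwo.two_eq_zero
  obtain ⟨hg1, hgg⟩ := orderOf_two_iff.1 hg
  have hM : (g : Matrix (Fin 2) (Fin 2) F) * g = 1 := by
    have := congrArg (fun x : Matrix.SpecialLinearGroup (Fin 2) F => (x : Matrix (Fin 2) (Fin 2) F)) hgg
    simpa using this
  have hMc : (g : Matrix (Fin 2) (Fin 2) F) * h = h * g := by
    have := congrArg (fun x : Matrix.SpecialLinearGroup (Fin 2) F => (x : Matrix (Fin 2) (Fin 2) F)) hc
    simpa using this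
  have hdg : (g : Matrix (Fin 2) (Fin 2) F).det = 1 := g.2
  have hdh : (h : Matrix (Fin 2) (Fin 2) F).det = 1 := h.2
  have hne : (g : Matrix (Fin 2) (Fin 2) F) ≠ 1 := by
    intro h1
    apply hg1
    exact Subtype.ext (by rw [h1]; rfl)
  apply Subtype.ext
  change (h : Matrix (Fin 2) (Fin 2) F) * h = 1
  generalize (g : Matrix (Fin 2) (Fin 2) F) = A at *
  generalize (h : Matrix (Fin 2) (Fin 2) F) = B at *
  rw [Matrix.det_fin_two] at hdg hdh
  have e00 := congrFun (congrFun hM 0) 0
  have e01 := congrFun (congrFun hM 0) 1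
  have e10 := congrFun (congrFun hM 1) 0
  have e11 := congrFun (congrFun hM 1) 1
  have c00 := congrFun (congrFun hMc 0) 0
  have c01 := congrFun (congrFun hMc 0) 1
  have c10 := congrFun (congrFun hMc 1) 0
  have c11 := congrFun (congrFun hMc 1) 1
  simp only [Matrix.mul_apply, Fin.sum_univ_two, Matrix.one_apply_eq, Matrix.one_apply_ne, ne_eq, zero_ne_one,
    one_ne_zero, not_false_eq_true] at e00 e01 e10 e11 c00 c01 c10 c11
  -- trace of A is zero
  have htr : A 0 0 + A 1 1 = 0 := by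
    by_contra hcon
    have h01 : A 0 1 = 0 := by
      have : A 0 1 * (A 0 0 + A 1 1) = 0 := by linear_combination e01
      exact (mul_eq_zero.1 this).resolve_right hcon
    have h10 : A 1 0 = 0 := by
      have : A 1 0 * (A 0 0 + A 1 1) = 0 := by linear_combination e10
      exact (mul_eq_zero.1 this).resolve_right hcon
    rw [h01, h10] at e00 e11
    have h00 : A 0 0 = 1 := by
      have : (A 0 0 - 1) * (A 0 0 - 1) = 0 := by linear_combination e00 - (A 0 0 - 1) * h2
      exact sub_eq_zero.1 (mul_self_eq_zero.1 this)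
    have h11 : A 1 1 = 1 := by
      have : (A 1 1 - 1) * (A 1 1 - 1) = 0 := by linear_combination e11 - (A 1 1 - 1) * h2
      exact sub_eq_zero.1 (mul_self_eq_zero.1 this)
    apply hcon
    rw [h00, h11]
    linear_combination h2
  have hBtr : B 0 0 = B 1 1 := by
    by_contra hcon
    have hcon' : B 1 1 - B 0 0 ≠ 0 := fun h => hcon (sub_eq_zero.1 h).symm
    have hA11 : A 1 1 = A 0 0 := by linear_combination htr - A 0 0 * h2
    have h01 : A 0 1 = 0 := by
      have : A 0 1 * (B 1 1 - B 0 0) = 0 := by rw [hA11] at c01; linear_combination c01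
      exact (mul_eq_zero.1 this).resolve_right hcon'
    have h10 : A 1 0 = 0 := by
      have : A 1 0 * (B 1 1 - B 0 0) = 0 := by rw [hA11] at c10; linear_combination -c10
      exact (mul_eq_zero.1 this).resolve_right hcon'
    apply hne
    rw [h01, h10] at e00 e11
    have h00 : A 0 0 = 1 := by
      have : (A 0 0 - 1) * (A 0 0 - 1) = 0 := by linear_combination e00 - (A 0 0 - 1) * h2
      exact sub_eq_zero.1 (mul_self_eq_zero.1 this)
    have h11 : A 1 1 = 1 := hA11.trans h00
    ext i j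
    fin_cases i <;> fin_cases j <;> simp [h00, h11, h01, h10]
  ext i j
  fin_cases i <;> fin_cases j <;>
    simp only [Fin.zero_eta, Fin.mk_one, Fin.isValue, Matrix.mul_apply, Fin.sum_univ_two, Matrix.one_apply_eq,
      Matrix.one_apply_ne, ne_eq, zero_ne_one, one_ne_zero, not_false_eq_true]
  · linear_combination hdh + B 0 0 * hBtr + B 0 1 * B 1 0 * h2
  · linear_combination B 0 1 * hBtr + B 0 1 * B 1 1 * h2
  · linear_combination B 1 0 * hBtr + B 1 0 * B 1 1 * h2
  · linear_combination hdh - B 1 1 * hBtr + B 0 1 * B 1 0 * h2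

/-- a homomorphism to a group of order 2 separating a nontrivial element of an elementary abelian 2-group -/
theorem exists_chi {E : Type*} [Group E] (hE : ∀ x : E, x * x = 1) {z : E} (hz : z ≠ 1) :
    ∃ χ : E →* Multiplicative (ZMod 2), χ z ≠ 1 := by
  have hcomm : ∀ x y : E, x * y = y * x := by
    intro x y
    have h1 : x⁻¹ = x := inv_eq_of_mul_eq_one_right (hE x)
    have h2 : y⁻¹ = y := inv_eq_of_mul_eq_one_right (hE y)
    have h3 : (x * y)⁻¹ = x * y := inv_eq_of_mul_eq_one_right (hE _)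
    rw [← h3, mul_inv_rev, h1, h2]
  let _ : CommGroup E := { (inferInstance : Group E) with mul_comm := hcomm }
  let _ : Module (ZMod 2) (Additive E) := AddCommGroup.zmodModule (n := 2) (fun x => by
    rw [two_nsmul]
    exact congrArg Additive.ofMul (hE (Additive.toMul x)))
  have hz' : (Additive.ofMul z : Additive E) ≠ 0 := fun h => hz h
  have h1 : ¬ ∀ φ : Module.Dual (ZMod 2) (Additive E), φ (Additive.ofMul z) = 0 := by
    rw [Module.forall_dual_apply_eq_zero_iff]
    exact hz'
  push Not at h1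
  obtain ⟨φ, hφ⟩ := h1
  exact ⟨AddMonoidHom.toMultiplicativeRight φ.toAddMonoidHom, fun h => hφ h⟩

/-- facts on `PSL₂(8)` -/
theorem psl_facts {X F : Type*} [Group X] [Finite X] [Field F] [Fintype F] (hF : Fintype.card F = 8)
    (e : X ≃* Matrix.ProjectiveSpecialLinearGroup (Fin 2) F) :
    Nat.card X = 504 ∧ (∀ u v : X, orderOf u = 2 → orderOf v = 2 → IsConj u v) ∧
      ∀ u : X, orderOf u = 2 → Nat.card (centralizer ({u} : Set X)) = 8 ∧ ∀ h : X, u * h = h * u → h * h = 1 := by
  have hch : CharP F 2 := by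
    have : Fact (Nat.Prime 2) := ⟨Nat.prime_two⟩
    exact charP_of_card_eq_prime_pow (f := 3) (by rw [hF]; norm_num)
  let f : X ≃* Matrix.SpecialLinearGroup (Fin 2) F := e.trans Cfsg.Agent.H478.KleinEven.pslEquiv
  have hcX : Nat.card X = 504 := by
    have h1 := Cfsg.Agent.ClassicalGeometry.PSL2Basic.card_PSL2_even (F := F) (by rw [hF]; decide)
    rw [Nat.card_congr e.toEquiv, h1, hF]
    norm_num
  have hconj : ∀ u v : X, orderOf u = 2 → orderOf v = 2 → IsConj u v := by
    intro u v hu hv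
    have h1 := (Cfsg.Agent.S2302.result (f u) (f v) (by rw [MulEquiv.orderOf_eq]; exact hu)
      (by rw [MulEquiv.orderOf_eq]; exact hv)).1
    obtain ⟨c, hc⟩ := isConj_iff.1 h1
    rw [isConj_iff]
    refine ⟨f.symm c, f.injective ?_⟩
    rw [map_mul, map_mul, map_inv, f.apply_symm_apply, hc]
  refine ⟨hcX, hconj, ?_⟩
  intro u hu
  have hfu : orderOf (f u) = 2 := by rw [MulEquiv.orderOf_eq]; exact hu
  refine ⟨?_, ?_⟩
  · have h1 := (Cfsg.Agent.S2302.result (f u) (f u) hfu hfu).2
    have h2 := card_conj u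
    have h3 : Nat.card {y : X // IsConj u y} = 63 := by
      have h4 : Nat.card (ConjClasses.mk (f u)).carrier = Nat.card {y : X // IsConj u y} := by
        refine Nat.card_congr (Equiv.ofBijective (fun y => (⟨f.symm y.1, ?_⟩ : {y : X // IsConj u y})) ⟨?_, ?_⟩)
        · have hy := ConjClasses.mem_carrier_iff_mk_eq.1 y.2
          rw [ConjClasses.mk_eq_mk_iff_isConj] at hy
          obtain ⟨c, hc⟩ := isConj_iff.1 hy.symm
          rw [isConj_iff]
          refine ⟨f.symm c, f.injective ?_⟩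
          rw [map_mul, map_mul, map_inv, f.apply_symm_apply, f.apply_symm_apply, hc]
        · intro y y' h
          have h' : f.symm y.1 = f.symm y'.1 := (Subtype.mk.injEq _ _ _ _).mp h
          exact Subtype.ext (f.symm.injective h')
        · rintro ⟨y, hy⟩
          obtain ⟨c, hc⟩ := isConj_iff.1 hy
          refine ⟨⟨f y, ?_⟩, Subtype.ext (f.symm_apply_apply y)⟩
          rw [ConjClasses.mem_carrier_iff_mk_eq, ConjClasses.mk_eq_mk_iff_isConj]
          refine (isConj_iff.2 ⟨f c, ?_⟩).symm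
          rw [← hc, map_mul, map_mul, map_inv]
      rw [← h4, h1, hF]
      norm_num
    rw [hcX, h3] at h2
    omega
  · intro h hc
    apply f.injective
    rw [map_mul, map_one]
    exact sl_cent (f u) (f h) hfu (by rw [← map_mul, hc, map_mul])

variable {G : Type u} {Ω : Type v} [Group G] [MulAction G Ω] {t : G}

/-- the centraliser of `t` in the case of four fixed points -/
theorem cent_four [Finite G] [Finite Ω] (H : UT G Ω t) (h4 : Nat.card {x : Ω // t • x = x} = 4)
    (C : Subgroup G) (hCdef : C = centralizer ({t} : Set G)) (hC : Nat.card C = 24) (E : Subgroup C)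
    (hE : Nat.card E = 8) (hE2 : ∀ x ∈ E, x * x = 1) (htC : t ∈ C) (htE : (⟨t, htC⟩ : C) ∈ E) :
    ∃ (K : Type) (_ : Field K) (_ : Fintype K), Odd (Fintype.card K) ∧
      Nonempty (↥C ≃* Matrix.ProjectiveSpecialLinearGroup (Fin 2) K × Multiplicative (ZMod 2)) := by
  classical
  have memC : ∀ {g : G}, g ∈ C ↔ g * t = t * g := by
    intro g; rw [hCdef, mem_centralizer_singleton_iff]
  set z : C := ⟨t, htC⟩ with hz
  have hz1 : z ≠ 1 := fun h => H.ne (congrArg Subtype.val h)
  have hzz : z * z = 1 := Subtype.ext H.mul_self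
  have hzc : ∀ g : C, g * z = z * g := fun g => Subtype.ext (memC.1 g.2)
  have hidx : E.index = 3 := by
    have := E.card_mul_index
    rw [hE, hC] at this
    omega
  obtain ⟨χ, hχ⟩ := exists_chi (E := E) (fun x => Subtype.ext (hE2 x.1 x.2)) (z := ⟨z, htE⟩)
    (fun h => hz1 (congrArg Subtype.val h))
  have : E.FiniteIndex := ⟨by rw [hidx]; norm_num⟩
  obtain ⟨ψ, -, hψ⟩ := Cfsg.Agent.MonsterU.Gasch.exists_hom χ hzz hzc (by rw [hidx]; decide) htE hχ
  -- the action on the fixed points of `t`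
  have hinv : ∀ (g : C) (x : Ω), t • x = x → t • (g : G) • x = (g : G) • x := by
    intro g x hx
    rw [← mul_smul, ← memC.1 g.2, mul_smul, hx]
  let Y := {x : Ω // t • x = x}
  let act : MulAction C Y :=
    { smul := fun g x => ⟨(g : G) • x.1, hinv g x.1 x.2⟩
      one_smul := fun x => Subtype.ext (one_smul G x.1)
      mul_smul := fun g h x => Subtype.ext (mul_smul (g : G) (h : G) x.1) }
  let ρ : C →* Equiv.Perm Y := MulAction.toPermHom C Y
  have hρ : ∀ (g : C) (x : Y), ((ρ g x : Y) : Ω) = (g : G) • x.1 := fun g x => rfl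
  obtain ⟨a, b, hab, ha, hb⟩ := H.exists_pts
  obtain ⟨c, hc, hca, hcb⟩ := H.exists_third a b
  have hker : ∀ g : C, ρ g = 1 → g = 1 ∨ g = z := by
    intro g hg
    by_cases hg1 : g = 1
    · exact Or.inl hg1
    right
    have hfix : ∀ x : Ω, t • x = x → (g : G) • x = x := by
      intro x hx
      have h1 := hρ g ⟨x, hx⟩
      rw [hg] at h1
      exact h1.symm
    apply Subtype.ext
    exact H.eq_of_three hab hca.symm hcb.symm ha hb (fun h => hg1 (Subtype.ext h)) (hfix a ha) (hfix b hb) (hfix c hc)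
  have hρz : ρ z = 1 := by
    ext x
    have h1 := hρ z x
    rw [h1]
    exact x.2
  -- ρ.range has order 12
  have hkerρ : Nat.card ρ.ker = 2 := by
    have h1 : (ρ.ker : Set C) = {1, z} := by
      ext g
      constructor
      · intro hg; exact hker g hg
      · rintro (rfl | h)
        · exact map_one ρ
        · rw [Set.mem_singleton_iff] at h
          rw [h]; exact hρz
    have h2 : Nat.card ρ.ker = (ρ.ker : Set C).ncard := rfl
    rw [h2, h1, Set.ncard_pair hz1.symm]
  have hR : Nat.card ρ.range = 12 := by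
    have h1 := Subgroup.card_mul_index ρ.ker
    rw [Subgroup.index_ker, hkerρ, hC] at h1
    omega
  -- 2-transitivity
  have htwo : ∀ x y : Y, x ≠ ⟨a, ha⟩ → y ≠ ⟨a, ha⟩ → ∃ r : ρ.range, (r : Equiv.Perm Y) ⟨a, ha⟩ = ⟨a, ha⟩ ∧
      (r : Equiv.Perm Y) x = y := by
    rintro ⟨x, hx⟩ ⟨y, hy⟩ hxa hya
    have hxa' : a ≠ x := fun h => hxa (Subtype.ext h.symm)
    have hya' : a ≠ y := fun h => hya (Subtype.ext h.symm)
    obtain ⟨g, h1, h2⟩ := H.two a x a y hxa' hya'
    have hgC : g ∈ C := memC.2 (H.commute' hxa' ha hx (by rw [h1]; exact ha)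
      (by rw [h2]; exact hy))
    exact ⟨⟨ρ ⟨g, hgC⟩, ⟨⟨g, hgC⟩, rfl⟩⟩, Subtype.ext h1, Subtype.ext h2⟩
  have htr : ∀ x : Y, ∃ r : ρ.range, (r : Equiv.Perm Y) ⟨a, ha⟩ = x := by
    rintro ⟨x, hx⟩
    obtain ⟨d, hd, hdx, -⟩ := H.exists_third x x
    obtain ⟨g, h1, h2⟩ := H.two a b x d hab (Ne.symm hdx)
    have hgC : g ∈ C := memC.2 (H.commute' hab ha hb (by rw [h1]; exact hx)
      (by rw [h2]; exact hd))
    exact ⟨⟨ρ ⟨g, hgC⟩, ⟨⟨g, hgC⟩, rfl⟩⟩, Subtype.ext h1⟩
  obtain ⟨e1⟩ := Cfsg.Agent.S0228.result (G := ρ.range) hR (by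
    intro w hw hwc
    obtain ⟨hw1, -⟩ := orderOf_two_iff.1 hw
    rw [Subgroup.mem_center_iff] at hwc
    have hwa : (w : Equiv.Perm Y) ⟨a, ha⟩ ≠ ⟨a, ha⟩ := by
      intro h
      apply hw1
      apply Subtype.ext
      ext x
      obtain ⟨r, rfl⟩ := htr x
      have h1 : (w : Equiv.Perm Y) * (r : Equiv.Perm Y) = (r : Equiv.Perm Y) * w :=
        (congrArg Subtype.val (hwc r)).symm
      have h2 := Equiv.ext_iff.1 h1 ⟨a, ha⟩
      rw [Equiv.Perm.mul_apply, Equiv.Perm.mul_apply, h] at h2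
      rw [h2]
      rfl
    -- a fourth point
    have hfin : Finite Y := inferInstance
    obtain ⟨y, hy⟩ : ∃ y : Y, y ∉ ({(⟨a, ha⟩ : Y), (w : Equiv.Perm Y) ⟨a, ha⟩} : Set Y) := by
      by_contra hcon
      push Not at hcon
      have h1 : (Set.univ : Set Y).ncard ≤ ({(⟨a, ha⟩ : Y), (w : Equiv.Perm Y) ⟨a, ha⟩} : Set Y).ncard :=
        Set.ncard_le_ncard (fun y _ => hcon y) (Set.toFinite _)
      rw [Set.ncard_univ] at h1
      have h2 := Set.ncard_insert_le (⟨a, ha⟩ : Y) ({(w : Equiv.Perm Y) ⟨a, ha⟩} : Set Y)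
      rw [Set.ncard_singleton] at h2
      have h3 : Nat.card Y = 4 := h4
      omega
    have hya : y ≠ ⟨a, ha⟩ := fun h => hy (Or.inl h)
    have hyw : y ≠ (w : Equiv.Perm Y) ⟨a, ha⟩ := fun h => hy (Or.inr h)
    obtain ⟨r, hr1, hr2⟩ := htwo _ y hwa hya
    apply hyw
    have h1 : (w : Equiv.Perm Y) * (r : Equiv.Perm Y) = (r : Equiv.Perm Y) * w :=
      (congrArg Subtype.val (hwc r)).symm
    have h2 := Equiv.ext_iff.1 h1 ⟨a, ha⟩
    rw [Equiv.Perm.mul_apply, Equiv.Perm.mul_apply, hr1, hr2] at h2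
    exact h2.symm)
  -- the isomorphism
  let f : C →* ρ.range × Multiplicative (ZMod 2) := ρ.rangeRestrict.prod ψ
  have hf : Function.Injective f := by
    rw [injective_iff_map_eq_one]
    intro g hg
    have h1 : ρ g = 1 := congrArg (fun p : ρ.range × Multiplicative (ZMod 2) => (p.1 : Equiv.Perm Y)) hg
    have h2 : ψ g = 1 := congrArg Prod.snd hg
    rcases hker g h1 with h | h
    · exact h
    · rw [h] at h2
      exact absurd h2 hψ
  have hbij : Function.Bijective f := by
    rw [Nat.bijective_iff_injective_and_card]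
    refine ⟨hf, ?_⟩
    rw [Nat.card_prod, hR, hC, Nat.card_congr Multiplicative.toAdd, Nat.card_zmod]
  obtain ⟨e2⟩ := Cfsg.Agent.S0251.result (F := ZMod 3) (by rw [ZMod.card])
  refine ⟨ZMod 3, inferInstance, inferInstance, by rw [ZMod.card]; decide, ⟨?_⟩⟩
  exact (MulEquiv.ofBijective f hbij).trans (MulEquiv.prodCongr (e1.trans e2.symm) (MulEquiv.refl _))

/-- **the row `PΓL₂(8)`** -/
theorem row28 [Finite G] [Finite Ω] (H : UT G Ω t) {T : Subgroup G} [T.Normal] {F : Type*} [Field F] [Fintype F]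
    (hF : Fintype.card F = 8) (e : T ≃* Matrix.ProjectiveSpecialLinearGroup (Fin 2) F) (hG : Nat.card G = 1512)
    (h4 : Nat.card {x : Ω // t • x = x} = 4) (hC : Nat.card (centralizer ({t} : Set G)) = 24) :
    (∀ u v : G, orderOf u = 2 → orderOf v = 2 → IsConj u v) ∧ ∃ (K : Type) (_ : Field K) (_ : Fintype K),
      Odd (Fintype.card K) ∧ Nonempty (↥(centralizer ({t} : Set G)) ≃*
        Matrix.ProjectiveSpecialLinearGroup (Fin 2) K × Multiplicative (ZMod 2)) := by
  obtain ⟨hT, hconj, hcent⟩ := psl_facts hF e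
  have hidx : T.index = 3 := by
    have := T.card_mul_index
    rw [hT, hG] at this
    omega
  have hmem : ∀ u : G, orderOf u = 2 → u ∈ T := by
    intro u hu
    obtain ⟨-, huu⟩ := orderOf_two_iff.1 hu
    rw [← QuotientGroup.eq_one_iff]
    have h1 : orderOf (u : G ⧸ T) ∣ 2 := by
      apply orderOf_dvd_of_pow_eq_one
      rw [← QuotientGroup.mk_pow, pow_two, huu, QuotientGroup.mk_one]
    have h2 : orderOf (u : G ⧸ T) ∣ 3 := by
      rw [← hidx]
      exact orderOf_dvd_natCard _
    have h3 : orderOf (u : G ⧸ T) ∣ 1 := by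
      have := Nat.dvd_gcd h1 h2
      exact this
    rw [← orderOf_eq_one_iff]
    exact Nat.dvd_one.1 h3
  refine ⟨?_, ?_⟩
  · intro u v hu hv
    obtain ⟨c, hc⟩ := isConj_iff.1 (hconj ⟨u, hmem u hu⟩ ⟨v, hmem v hv⟩ (by rw [Subgroup.orderOf_mk]; exact hu)
      (by rw [Subgroup.orderOf_mk]; exact hv))
    exact isConj_iff.2 ⟨c, congrArg Subtype.val hc⟩
  · have htT := hmem t H.orderOf_eq
    obtain ⟨h8, hsq⟩ := hcent ⟨t, htT⟩ (by rw [Subgroup.orderOf_mk]; exact H.orderOf_eq)
    refine cent_four H h4 _ rfl hC (T.subgroupOf (centralizer ({t} : Set G))) ?_ ?_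
      (mem_centralizer_singleton_iff.2 rfl) ?_
    · rw [← h8]
      refine Nat.card_congr
        { toFun := fun x => ⟨⟨x.1.1, x.2⟩, mem_centralizer_singleton_iff.2 (Subtype.ext
            (mem_centralizer_singleton_iff.1 x.1.2))⟩
          invFun := fun x => ⟨⟨x.1.1, mem_centralizer_singleton_iff.2
            (congrArg Subtype.val (mem_centralizer_singleton_iff.1 x.2))⟩, x.1.2⟩
          left_inv := fun x => rfl
          right_inv := fun x => rfl }
    · intro x hx
      have h1 := hsq ⟨x.1, hx⟩ (Subtype.ext (mem_centralizer_singleton_iff.1 x.2).symm)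
      have h2 : (x.1 * x.1 : G) = 1 := congrArg (fun y : T => (y : G)) h1
      exact Subtype.ext h2
    · exact htT

end Cfsg.Agent.H57.TTL28
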