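import Cfsg.Agent.KFacts.HS.DFour
import Cfsg.Agent.KFacts.HS.Trans

/-!
# `HS` has no element of order 16 (helper57)
-/

set_option autoImplicit false

namespace Cfsg.Agent.H57.TTHSOrder

open Cfsg.Agent.HN Cfsg.Agent.HN.Pres Cfsg.Agent.HN.HS100 Cfsg.Agent.HN.P1408 Cfsg.Agent.HN.H0Basic
open Cfsg.Agent.HN.XMat Cfsg.Agent.HN.WMask Cfsg.Agent.KFacts.HS.Cent
open Cfsg.Agent.SporadicA.PermTab (band band_eq_true allB allB_iff)

/-- `(h R a) ^ 4 = h ^ 4 R (nrm f a)` up to sign -/
def nrm (f : ℕ → ℕ) (a : ℕ) : ℕ := f (f (f a)) ^^^ (f (f a) ^^^ (f a ^^^ a))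

/-- for an even mask fixed by `f` -/
def chkM (w : List ℕ) (m : ℕ) : Bool :=
  bif par (rmw m) then true else
    bif Nat.beq (fw w m) m then
      bif eqw (rmw m ++ rmw m) [] then true else
        !(allB (fun a => bif par (rmw a) then true else
          !(Nat.beq (m ^^^ nrm (fw w) a) 28 || Nat.beq (m ^^^ nrm (fw w) a) 29)) 128)
    else true

def chk16 (w : List ℕ) : Bool :=
  bif allB (fun i => Nat.beq (fw w (fw w (2 ^ i))) (2 ^ i)) 7 then true else
    bif allB (fun i => Nat.beq (fw w (fw w (fw w (fw w (2 ^ i))))) (2 ^ i)) 7 then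
      bif evw w then false else allB (chkM w) 128
    else
      (allB (fun i => Nat.beq ((fw w)^[5] (2 ^ i)) (2 ^ i)) 7 ||
        allB (fun i => Nat.beq ((fun m => fw w (fw w m))^[3] (2 ^ i)) (2 ^ i)) 7)

theorem chk16_all : S5W.all chk16 = true := by decide +kernel

theorem R_act (a : ℕ) : Act (R a) (fun m => m) := by
  refine ⟨R_b a, fun _ h => h, fun m _ => ?_⟩
  obtain ⟨e1, h1⟩ := R_mul m a
  obtain ⟨e2, h2⟩ := R_mul a m
  refine ⟨e2 ^^ e1, ?_⟩
  calc R m * R a = R (m ^^^ a) * sg e1 := h1
    _ = R (a ^^^ m) * sg e2 * sg (e2 ^^ e1) := by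
        rw [Nat.xor_comm m a, mul_assoc, sg_mul]
        congr 2
        cases e1 <;> cases e2 <;> rfl
    _ = R a * R m * sg (e2 ^^ e1) := by rw [h2]
    _ = _ := by rw [mul_assoc]

section

variable {h : H0} {f : ℕ → ℕ}

/-- powers of `h R a` -/
theorem pow_mask (hf : Act h f) (a : ℕ) (ha : a < 128) :
    ∃ e, (h * R a) * (h * R a) * ((h * R a) * (h * R a)) = h * h * (h * h) * (R (nrm f a) * sg e) := by
  obtain ⟨e1, h1⟩ := hf.eq a ha
  have l1 := hf.lt a ha
  obtain ⟨e2, h2⟩ := R_mul (f a) a
  -- `(h R a)² = h² R (f a + a)`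
  set c := f a ^^^ a with hc
  have lc : c < 128 := xor_lt l1 ha
  have hs : ∀ e, sg e * h = h * sg e := sg_comm hf.cb
  have sq : (h * R a) * (h * R a) = h * h * (R c * sg (e2 ^^ e1)) := by
    calc (h * R a) * (h * R a) = h * (R a * h) * R a := by group
      _ = h * h * (R (f a) * (sg e1 * R a)) := by rw [h1]; group
      _ = h * h * ((R (f a) * R a) * sg e1) := by rw [R_sg]; group
      _ = h * h * (R c * (sg e2 * sg e1)) := by rw [h2]; group
      _ = _ := by rw [sg_mul]
  obtain ⟨e3, h3⟩ := (hf.mul hf).eq c lc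
  obtain ⟨e4, h4⟩ := R_mul (f (f c)) c
  have hn : f (f c) ^^^ c = nrm f a := by
    rw [hc, hf.xor l1 ha, hf.xor (hf.lt _ l1) l1]
    unfold nrm
    rw [Nat.xor_assoc]
  refine ⟨e4 ^^ e3, ?_⟩
  set s := e2 ^^ e1 with hs'
  have hss : sg s * sg s = 1 := by rw [sg_mul, Bool.xor_self]; rfl
  have hs2 : sg s * (h * h) = h * h * sg s := by rw [← mul_assoc, hs, mul_assoc, hs, mul_assoc]
  calc (h * R a) * (h * R a) * ((h * R a) * (h * R a)) = h * h * (R c * sg s) * (h * h * (R c * sg s)) := by rw [sq]
    _ = h * h * R c * (sg s * (h * h)) * (R c * sg s) := by group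
    _ = h * h * (R c * (h * h)) * ((sg s * R c) * sg s) := by rw [hs2]; group
    _ = h * h * (h * h) * (R (f (f c)) * sg e3) * (R c * (sg s * sg s)) := by rw [h3, R_sg]; group
    _ = h * h * (h * h) * (R (f (f c)) * (sg e3 * R c)) := by rw [hss]; group
    _ = h * h * (h * h) * ((R (f (f c)) * R c) * sg e3) := by rw [R_sg]; group
    _ = h * h * (h * h) * (R (nrm f a) * (sg e4 * sg e3)) := by rw [h4, hn]; group
    _ = _ := by rw [sg_mul]

theorem sq_R {m : ℕ} {e : Bool} : R m * sg e * (R m * sg e) = R m * R m := by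
  calc R m * sg e * (R m * sg e) = R m * (sg e * R m) * sg e := by group
    _ = R m * R m * (sg e * sg e) := by rw [R_sg]; group
    _ = R m * R m := by rw [sg_mul, Bool.xor_self]; exact mul_one _

theorem sg_sq (e : Bool) : sg e * sg e = 1 := by rw [sg_mul, Bool.xor_self]; rfl

theorem R_mem_Pt {a : ℕ} (ha : a < 128) (hp : par (rmw a) = false) : R a ∈ Pt := by
  refine mem_Pt.2 ⟨(R_b a).symm, (R_mem_K_iff ha).2 hp⟩

/-- **the computation** -/
theorem pow_eight {h : H0} (hh : h ∈ Pt) {k : ℕ} (hk : h ^ 2 ^ k = 1) : h ^ 8 = 1 := by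
  obtain ⟨m0, hm0, -, w, hw1, e0, he0⟩ := exists_of_mem_Pt hh
  have hf : Act h (fw w) := by rw [he0]; exact Act.el m0 hw1 e0
  have hcb := hf.cb
  have h1 := List.all_eq_true.1 chk16_all w hw1
  unfold chk16 at h1
  have e8 : h ^ 8 = (h * h) * (h * h) * ((h * h) * (h * h)) := by
    rw [show (8 : ℕ) = 2 * 2 * 2 from rfl, pow_mul, pow_mul, pow_two, pow_two, pow_two]
  cases c1 : allB (fun i => Nat.beq (fw w (fw w (2 ^ i))) (2 ^ i)) 7
  · rw [c1, cond_false] at h1
    cases c2 : allB (fun i => Nat.beq (fw w (fw w (fw w (fw w (2 ^ i))))) (2 ^ i)) 7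
    · exfalso
      rw [c2, cond_false, Bool.or_eq_true] at h1
      have key : ∀ i < 7, fw w (fw w (2 ^ i)) = 2 ^ i := by
        rcases h1 with h1 | h1
        · have h2 := hf.trivial_of hk (n := 5) (by decide) (allB_beq.1 h1)
          intro i hi
          rw [h2 i hi, h2 i hi]
        · have h3 : (h * h) ^ 2 ^ k = 1 := by
            rw [← pow_two, ← pow_mul, mul_comm, pow_mul, hk, one_pow]
          exact (hf.mul hf).trivial_of h3 (n := 3) (by decide) (allB_beq.1 h1)
      rw [← allB_beq] at key
      rw [key] at c1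
      exact absurd c1 (by decide)
    · rw [c2, cond_true] at h1
      cases hev : evw w
      · rw [hev, cond_false] at h1
        -- `h ^ 4 = R m e`
        have hf2 := hf.mul hf
        have hf4 := hf2.mul hf2
        obtain ⟨m, hm, e, hR⟩ := hf4.mem_W (allB_beq.1 c2)
        have hsg : ∀ e, sg e * h = h * sg e := sg_comm hcb
        have hcomm : R m * h = h * R m := by
          have h2 : h * (h * h * (h * h)) = h * h * (h * h) * h := by group
          rw [hR] at h2
          have h3 : h * R m * sg e = R m * h * sg e := by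
            calc h * R m * sg e = h * (R m * sg e) := by rw [mul_assoc]
              _ = R m * (sg e * h) := by rw [h2, mul_assoc]
              _ = _ := by rw [hsg, mul_assoc]
          exact (mul_right_cancel h3).symm
        have hfix : fw w m = m := by
          obtain ⟨e', h2⟩ := hf.eq m hm
          rw [hcomm] at h2
          have h3 : R m * sg false = R (fw w m) * sg e' := by
            rw [← mul_left_cancel h2]; exact mul_one _
          exact (R_inj hm (hf.lt m hm) h3).1.symm
        have hhK : h ∈ K := (mem_Pt.1 hh).2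
        have hpar : par (rmw m) = false := by
          rw [← R_mem_K_iff hm, ← K.mul_mem_cancel_right (sg_mem_K e), ← hR]
          exact K.mul_mem (K.mul_mem hhK hhK) (K.mul_mem hhK hhK)
        have h2 := (allB_iff _ _).1 h1 m hm
        unfold chkM at h2
        rw [hpar, cond_false, hfix, Nat.beq_refl, cond_true] at h2
        cases c3 : eqw (rmw m ++ rmw m) []
        · exfalso
          rw [c3, cond_false, Bool.not_eq_true'] at h2
          -- a mask `a`
          obtain ⟨a, ha, hpa, hka⟩ : ∃ a < 128, par (rmw a) = false ∧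
              (m ^^^ nrm (fw w) a = 28 ∨ m ^^^ nrm (fw w) a = 29) := by
            by_contra hcon
            push Not at hcon
            have h3 : allB (fun a => bif par (rmw a) then true else
                !(Nat.beq (m ^^^ nrm (fw w) a) 28 || Nat.beq (m ^^^ nrm (fw w) a) 29)) 128 = true := by
              rw [allB_iff]
              intro a ha
              cases hpa : par (rmw a)
              · rw [cond_false, Bool.not_eq_true', Bool.or_eq_false_iff]
                obtain ⟨h4, h5⟩ := hcon a ha hpa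
                refine ⟨?_, ?_⟩
                · rw [Bool.eq_false_iff]
                  exact fun h6 => h4 (Nat.eq_of_beq_eq_true h6)
                · rw [Bool.eq_false_iff]
                  exact fun h6 => h5 (Nat.eq_of_beq_eq_true h6)
              · rfl
            rw [h3] at h2
            exact absurd h2 (by decide)
          obtain ⟨e1, h3⟩ := pow_mask hf a ha
          set g := h * R a with hg
          obtain ⟨e2, h4⟩ := R_mul m (nrm (fw w) a)
          have hgR : g * g * (g * g) = R (m ^^^ nrm (fw w) a) * sg (e2 ^^ (e ^^ e1)) := by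
            calc g * g * (g * g) = (R m * sg e) * (R (nrm (fw w) a) * sg e1) := by rw [h3, hR]
              _ = R m * (sg e * R (nrm (fw w) a)) * sg e1 := by group
              _ = (R m * R (nrm (fw w) a)) * (sg e * sg e1) := by rw [R_sg]; group
              _ = R (m ^^^ nrm (fw w) a) * (sg e2 * (sg e * sg e1)) := by rw [h4]; group
              _ = _ := by rw [sg_mul, sg_mul]
          have hga : Act g (fun x => fw w x) := hf.mul (R_act a)
          have hgb : b * g = g * b := hga.cb
          have hgg : g * (g * g * (g * g)) = g * g * (g * g) * g := by group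
          have hgK : g ∈ K := K.mul_mem hhK ((R_mem_K_iff ha).2 hpa)
          clear_value g
          have hgU : g * KFacts.HS.Cent.U = KFacts.HS.Cent.U * g := by
            have hsg' : ∀ e, sg e * g = g * sg e := sg_comm hgb
            rw [hgR] at hgg
            set s := e2 ^^ (e ^^ e1)
            have h5 : ∀ r : H0, g * (r * sg s) = r * sg s * g → g * r = r * g := by
              intro r hr
              have h6 : g * r * sg s = r * g * sg s := by
                calc g * r * sg s = g * (r * sg s) := by rw [mul_assoc]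
                  _ = r * (sg s * g) := by rw [hr, mul_assoc]
                  _ = _ := by rw [hsg', mul_assoc]
              exact mul_right_cancel h6
            have h6 := h5 _ hgg
            rcases hka with hk1 | hk1
            · rw [hk1] at h6
              exact h6
            · rw [hk1] at h6
              obtain ⟨e3, h7⟩ := R29_eq
              rw [h7] at h6
              have h8 : g * KFacts.HS.Cent.U * (τ * sg e3) = KFacts.HS.Cent.U * g * (τ * sg e3) := by
                calc g * KFacts.HS.Cent.U * (τ * sg e3) = g * (KFacts.HS.Cent.U * τ * sg e3) := by group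
                  _ = KFacts.HS.Cent.U * τ * sg e3 * g := h6
                  _ = KFacts.HS.Cent.U * τ * (sg e3 * g) := by rw [mul_assoc]
                  _ = KFacts.HS.Cent.U * (τ * g) * sg e3 := by rw [hsg']; group
                  _ = KFacts.HS.Cent.U * (g * τ) * sg e3 := by rw [τ_comm g]
                  _ = _ := by group
              exact mul_right_cancel h8
          obtain ⟨m', hm', hp', w', hw', hev', e', he'⟩ := exists_of_mem_P0t (mem_P0t.2 ⟨hgU, hgK⟩)
          have hga' : Act g (fw w') := by rw [he']; exact Act.el m' hw' e'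
          have hww : w = w' := by
            apply key_inj hw1 hw'
            apply key_congr
            intro i hi
            exact hga.uniq hga' (two_pow_lt hi)
          rw [← hww, hev] at hev'
          exact absurd hev' (by decide)
        · have h3 := hw_eq c3
          rw [hw_append, hw_nil] at h3
          have h4 : R m * R m = 1 := h3
          rw [e8, hR, sq_R, h4]
      · rw [hev, cond_true] at h1
        exact absurd h1 (by decide)
  · -- `h ^ 2` is in `W`
    obtain ⟨m, hm, e, hR⟩ := (hf.mul hf).mem_W (allB_beq.1 c1)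
    obtain ⟨e1, h2⟩ := R_sq m
    rw [e8, hR, sq_R, h2, sg_sq]

end

section L

open Cfsg.Agent.KFacts.HS Cfsg.Agent.KFacts.HS.DFour

variable {L : Type*} [Group L] (D : Cfsg.Agent.KFacts.HS.Mod L)

theorem zA_eq' : zA D = D.z := by
  unfold zA Cfsg.Agent.KFacts.HS.Mod.z
  rw [pi_eq]
  exact φ_b.symm

include D in
theorem no_zA {y : L} (hy : y ^ 8 = zA D) : False := by
  rw [zA_eq'] at hy
  obtain ⟨h, hk, rfl⟩ := surj' D y
  have hpow : ∀ n : ℕ, (D.π ⟨h, hk⟩) ^ n = D.π ⟨h ^ n, K.pow_mem hk n⟩ := by
    intro n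
    rw [← map_pow]; rfl
  have hc : D.π ⟨h, hk⟩ * D.z = D.z * D.π ⟨h, hk⟩ := by
    rw [← hy, ← pow_succ', pow_succ]
  have hPt := (D.comm_z hk).1 hc
  rw [hpow] at hy
  unfold Cfsg.Agent.KFacts.HS.Mod.z at hy
  have h8 := (D.π_eq (K.pow_mem hk 8) b_mem_K).1 hy
  have h16 : h ^ 2 ^ 4 = 1 := by
    have e : h ^ 2 ^ 4 = h ^ 8 * h ^ 8 := by rw [← pow_add]; rfl
    rw [e]
    rcases h8 with h8 | h8
    · rw [h8, b_sq]
    · rw [h8, sa_sq]
  have h1 := pow_eight hPt h16
  rcases h8 with h8 | h8
  · exact b_ne (h8.symm.trans h1)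
  · exact bτ_ne (h8.symm.trans h1)

include D in
theorem no_wB {y : L} (hy : y ^ 8 = wB D) : False := by
  have := fin D
  set C := Subgroup.centralizer ({wB D} : Set L) with hC
  have hyC : y ∈ C := by
    rw [hC, Subgroup.mem_centralizer_singleton_iff, ← hy, ← pow_succ', pow_succ]
  have hle : LA D ≤ C := fun l hl => Subgroup.mem_centralizer_singleton_iff.2 (LA_comm D hl)
  set N := (LA D).subgroupOf C with hN
  have hNn : N.Normal := by
    refine ⟨fun n hn g => ?_⟩
    rw [hN, Subgroup.mem_subgroupOf] at hn ⊢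
    exact norm_LA D (Subgroup.mem_centralizer_singleton_iff.1 g.2) hn
  have hcard : Nat.card N = 360 := by
    rw [← card_LA D]
    exact Nat.card_congr (Subgroup.subgroupOfEquivOfLe hle).toEquiv
  have hidx : N.index ≤ 8 := by
    have h1 := N.card_mul_index
    have h2 : Nat.card C ≤ 2880 := card_C D
    rw [hcard] at h1
    omega
  have hwC : wB D ∈ C := by rw [hC, Subgroup.mem_centralizer_singleton_iff]
  have e8 : ((⟨y, hyC⟩ : C) : C ⧸ N) ^ 8 = ((⟨wB D, hwC⟩ : C) : C ⧸ N) := by
    rw [← QuotientGroup.mk_pow]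
    congr 1
    exact Subtype.ext hy
  have h1 : orderOf ((⟨y, hyC⟩ : C) : C ⧸ N) = 2 ^ (3 + 1) := by
    apply orderOf_eq_prime_pow
    · have : (2 : ℕ) ^ 3 = 8 := by norm_num
      rw [this, e8, QuotientGroup.eq_one_iff, hN, Subgroup.mem_subgroupOf]
      exact wB_not_mem_LA D
    · have : (2 : ℕ) ^ (3 + 1) = 8 * 2 := by norm_num
      rw [this, pow_mul, e8, ← QuotientGroup.mk_pow, pow_two]
      have h2 : (⟨wB D, hwC⟩ : C) * ⟨wB D, hwC⟩ = 1 := Subtype.ext (wB_sq D)
      rw [h2, QuotientGroup.mk_one]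
  have h2 : orderOf ((⟨y, hyC⟩ : C) : C ⧸ N) ∣ N.index := orderOf_dvd_natCard _
  have h3 := Nat.le_of_dvd (Nat.pos_of_ne_zero Subgroup.index_ne_zero_of_finite) h2
  rw [h1] at h3
  omega

include D in
theorem pow_eight_eq_one {x : L} {k : ℕ} (hk : x ^ 2 ^ k = 1) : x ^ 8 = 1 := by
  induction k with
  | zero =>
    have : x = 1 := by simpa using hk
    rw [this, one_pow]
  | succ k ih =>
    by_cases h1 : x ^ 2 ^ k = 1
    · exact ih h1
    by_cases h3 : k < 3
    · have e : (8 : ℕ) = 2 ^ (k + 1) * 2 ^ (2 - k) := by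
        rw [← pow_add]
        have : k + 1 + (2 - k) = 3 := by omega
        rw [this]; norm_num
      rw [e, pow_mul, hk, one_pow]
    exfalso
    obtain ⟨j, rfl⟩ : ∃ j, k = j + 3 := ⟨k - 3, by omega⟩
    set y := x ^ 2 ^ j with hy
    have e8 : y ^ 8 = x ^ 2 ^ (j + 3) := by
      rw [hy, ← pow_mul, pow_add]; norm_num
    have hs : y ^ 8 * y ^ 8 = 1 := by
      rw [e8, ← pow_add, ← two_mul, ← pow_succ']
      exact hk
    have hn : y ^ 8 ≠ 1 := by rw [e8]; exact h1
    rcases inv_cases D (y ^ 8) hs hn with ⟨c, hc⟩ | ⟨c, hc⟩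
    · apply no_zA D (y := c⁻¹ * y * c)
      have h4 : (c⁻¹ * y * c) ^ 8 = c⁻¹ * y ^ 8 * c := by
        have := conj_pow (a := c⁻¹) (b := y) (i := 8)
        rwa [inv_inv] at this
      rw [h4, ← hc]; group
    · apply no_wB D (y := c⁻¹ * y * c)
      have h4 : (c⁻¹ * y * c) ^ 8 = c⁻¹ * y ^ 8 * c := by
        have := conj_pow (a := c⁻¹) (b := y) (i := 8)
        rwa [inv_inv] at this
      rw [h4, ← hc]; group

end L

/-- **`HS` has no element of order 16** -/
theorem hs_order {L : Type*} [Group L] (h : Cfsg.Spor.IsoHS L) {x : L} {k : ℕ} (hx : orderOf x = 2 ^ k) : k ≤ 3 := by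
  obtain ⟨D⟩ := Cfsg.Agent.KFacts.HS.exists_mod h
  have h1 : x ^ 8 = 1 := pow_eight_eq_one D (k := k) (by rw [← hx]; exact pow_orderOf_eq_one x)
  have h2 := orderOf_dvd_of_pow_eq_one h1
  rw [hx] at h2
  have h3 : (8 : ℕ) = 2 ^ 3 := by norm_num
  rw [h3] at h2
  exact (Nat.pow_dvd_pow_iff_le_right (by norm_num)).1 h2

end Cfsg.Agent.H57.TTHSOrder
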