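import Cfsg.Agent.H211.GoldFree
import Cfsg.Agent.S0283
import Cfsg.Agent.S1162
import Cfsg.Agent.TwoFusion.SLTwoFacts
import Cfsg.Agent.ClassicalGeometry.PSL2Basic
import Cfsg.Agent.ThreePrime.OrderThree
import Cfsg.Agent.H438.ConstFixFour
import Cfsg.Agent.H438.SzMax
import Cfsg.Agent.LieClassical.Order72
import Cfsg.Agent.Schreier.Basic
import Cfsg.Agent.H183.OutPSL
import Cfsg.Agent.H57.TTOut

/-!
# The groups `PSL₂(2^m)`, `Sz(2^m)`, `PSU₃(2^m)`, `m ≥ 2` (helper57)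

`BN N` : the hypothesis of S2208 on `N`.  Facts: simplicity, orders, no section `S₄`.
-/

set_option autoImplicit false

namespace Cfsg.Agent.H57.TTBend

open Cfsg.Agent.Lib.Involves

/-- `N` is `PSL₂(q)`, `Sz(q)` or `PSU₃(q)`, `q = 2 ^ m ≥ 4`. -/
def BN (N : Type*) [Group N] : Prop :=
  ∃ (F : Type) (_ : Field F) (_ : Fintype F) (m : ℕ), Fintype.card F = 2 ^ m ∧ 2 ≤ m ∧
      (Nonempty (N ≃* Matrix.ProjectiveSpecialLinearGroup (Fin 2) F) ∨
       (Odd m ∧ Nonempty (N ≃* ↥(Cfsg.Lie.Sz F (2 ^ ((m + 1) / 2))))) ∨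
       (∃ (K : Type) (_ : Field K) (_ : Fintype K), Fintype.card K = (2 ^ m) ^ 2 ∧ Nonempty (N ≃* Cfsg.PSU 3 K (2 ^ m))))

/-- the orders -/
def BC (c m : ℕ) : Prop :=
  c = 2 ^ m * (4 ^ m - 1) ∨ (3 ≤ m ∧ Odd m ∧ c = 4 ^ m * (2 ^ m - 1) * (4 ^ m + 1)) ∨
    ∃ d, (d = 1 ∨ d = 3) ∧ d * c = 8 ^ m * ((8 ^ m + 1) * (4 ^ m - 1)) ∧ 3 ∣ c

variable {N : Type*} [Group N]

theorem pow4 (m : ℕ) : (2 ^ m) ^ 2 = 4 ^ m := by rw [← pow_mul, mul_comm, pow_mul]; norm_num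

theorem pow8 (m : ℕ) : (2 ^ m) ^ 3 = 8 ^ m := by rw [← pow_mul, mul_comm, pow_mul]; norm_num

theorem card_psl {F : Type} [Field F] [Fintype F] {m : ℕ} (hF : Fintype.card F = 2 ^ m) (hm : 2 ≤ m) :
    Nat.card (Matrix.ProjectiveSpecialLinearGroup (Fin 2) F) = 2 ^ m * (4 ^ m - 1) := by
  rw [Cfsg.Agent.ClassicalGeometry.PSL2Basic.card_PSL2_even F (by
    rw [hF]; exact (Nat.even_pow.2 ⟨even_two, by omega⟩)), hF, pow4]

theorem BN.cases (h : BN N) : ∃ m, 2 ≤ m ∧ BC (Nat.card N) m ∧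
    (Nat.card N = 2 ^ m * (4 ^ m - 1) → Nat.card N < 4 ^ m * (4 ^ m - 1) →
      ∃ (F : Type) (_ : Field F) (_ : Fintype F), Fintype.card F = 2 ^ m ∧
        Nonempty (N ≃* Matrix.ProjectiveSpecialLinearGroup (Fin 2) F)) := by
  obtain ⟨F, _, _, m, hF, hm, h⟩ := h
  refine ⟨m, hm, ?_, ?_⟩
  · rcases h with ⟨⟨e⟩⟩ | ⟨hodd, ⟨e⟩⟩ | ⟨K, _, _, hK, ⟨e⟩⟩
    · left
      rw [Nat.card_congr e.toEquiv, card_psl hF hm]
    · right; left
      obtain ⟨k, rfl⟩ := hodd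
      refine ⟨by omega, ⟨k, rfl⟩, ?_⟩
      have hk : (2 * k + 1 + 1) / 2 = k + 1 := by omega
      rw [hk] at e
      rw [Nat.card_congr e.toEquiv, Cfsg.Agent.H438.SzMax.card_sz hF, pow4]
    · right; right
      have h1 := Cfsg.Agent.H438.ConstFix.psu_card hK Nat.one_le_two_pow
      have h3 := Cfsg.Agent.ThreePrime.OrderThree.three_dvd_card_psu K (2 ^ m) hK
        (by calc 2 = 2 ^ 1 := by norm_num
              _ ≤ 2 ^ m := Nat.pow_le_pow_right (by norm_num) (by omega))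
      rw [← Nat.card_congr e.toEquiv] at h1 h3
      rw [pow8, pow4] at h1
      refine ⟨Nat.gcd 3 (2 ^ m + 1), ?_, h1, h3⟩
      have h2 : Nat.gcd 3 (2 ^ m + 1) ∣ 3 := Nat.gcd_dvd_left _ _
      exact (Nat.dvd_prime Nat.prime_three).1 h2
  · intro hc hlt
    rcases h with ⟨⟨e⟩⟩ | ⟨hodd, ⟨e⟩⟩ | ⟨K, _, _, hK, ⟨e⟩⟩
    · exact ⟨F, _, _, hF, ⟨e⟩⟩
    · exfalso
      obtain ⟨k, rfl⟩ := hodd
      have hk : (2 * k + 1 + 1) / 2 = k + 1 := by omega
      rw [hk] at e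
      have h1 := Cfsg.Agent.H438.SzMax.card_sz hF
      rw [← Nat.card_congr e.toEquiv, pow4] at h1
      have h2 : 1 ≤ 2 ^ (2 * k + 1) - 1 := by
        have : 2 ^ 1 ≤ 2 ^ (2 * k + 1) := Nat.pow_le_pow_right (by norm_num) (by omega)
        omega
      have h3 : 4 ^ (2 * k + 1) * (4 ^ (2 * k + 1) - 1) ≤ Nat.card N := by
        rw [h1]
        have h4 : 4 ^ (2 * k + 1) * 1 ≤ 4 ^ (2 * k + 1) * (2 ^ (2 * k + 1) - 1) := Nat.mul_le_mul_left _ h2
        rw [mul_one] at h4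
        have h5 : 4 ^ (2 * k + 1) - 1 ≤ 4 ^ (2 * k + 1) + 1 := (Nat.sub_le _ _).trans (Nat.le_succ _)
        exact Nat.mul_le_mul h4 h5
      exact absurd hlt (not_lt.2 h3)
    · exfalso
      have h1 := Cfsg.Agent.H438.ConstFix.psu_card hK Nat.one_le_two_pow
      rw [← Nat.card_congr e.toEquiv, pow8, pow4] at h1
      have h2 : Nat.gcd 3 (2 ^ m + 1) ≤ 3 := Nat.gcd_le_left _ (by norm_num)
      have h8 : 4 ^ m ≤ 8 ^ m := Nat.pow_le_pow_left (by norm_num) m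
      have h16 : 3 ≤ 8 ^ m + 1 := by
        have : 8 ^ 1 ≤ 8 ^ m := Nat.pow_le_pow_right (by norm_num) (by omega)
        omega
      have h3 : 3 * (4 ^ m * (4 ^ m - 1)) ≤ 3 * Nat.card N := by
        calc 3 * (4 ^ m * (4 ^ m - 1)) = 4 ^ m * (3 * (4 ^ m - 1)) := by ring
          _ ≤ 8 ^ m * ((8 ^ m + 1) * (4 ^ m - 1)) :=
            Nat.mul_le_mul h8 (Nat.mul_le_mul_right _ h16)
          _ = Nat.gcd 3 (2 ^ m + 1) * Nat.card N := h1.symm
          _ ≤ 3 * Nat.card N := Nat.mul_le_mul_right _ h2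
      omega

theorem BN.simple (h : BN N) : IsSimpleGroup N := by
  obtain ⟨F, _, _, m, hF, hm, h⟩ := h
  have h4 : 2 ^ 2 ≤ 2 ^ m := Nat.pow_le_pow_right (by norm_num) hm
  rcases h with ⟨⟨e⟩⟩ | ⟨hodd, ⟨e⟩⟩ | ⟨K, _, _, hK, ⟨e⟩⟩
  · have h1 := Cfsg.Agent.TwoFusion.SLTwoFacts.isSimpleGroup_psl (F := F) (by rw [hF]; omega)
    have : Nontrivial N := e.symm.injective.nontrivial
    exact IsSimpleGroup.isSimpleGroup_of_surjective e.symm.toMonoidHom e.symm.surjective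
  · obtain ⟨k, rfl⟩ := hodd
    have hk : (2 * k + 1 + 1) / 2 = k + 1 := by omega
    rw [hk] at e
    have h1 := Cfsg.Agent.S1162.result (by omega) hF
    have : Nontrivial N := e.symm.injective.nontrivial
    exact IsSimpleGroup.isSimpleGroup_of_surjective e.symm.toMonoidHom e.symm.surjective
  · have h1 := Cfsg.Agent.S0283.result hK 3 le_rfl (by omega)
    have : Nontrivial N := e.symm.injective.nontrivial
    exact IsSimpleGroup.isSimpleGroup_of_surjective e.symm.toMonoidHom e.symm.surjective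

theorem BC.two_pow_dvd {c m : ℕ} (h : BC c m) : 2 ^ m ∣ c := by
  rcases h with h | ⟨-, -, h⟩ | ⟨d, hd, h, -⟩
  · rw [h]; exact dvd_mul_right _ _
  · rw [h, mul_assoc]; exact Dvd.dvd.mul_right (pow_dvd_pow_of_dvd (by norm_num) m) _
  · have h1 : 2 ^ m ∣ d * c := by
      rw [h]; exact Dvd.dvd.mul_right (pow_dvd_pow_of_dvd (by norm_num) m) _
    refine Nat.Coprime.dvd_of_dvd_mul_left ?_ h1
    rcases hd with rfl | rfl
    · exact Nat.coprime_one_right _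
    · exact Nat.Coprime.pow_left m (by norm_num)

theorem BC.four_dvd {c m : ℕ} (h : BC c m) (hm : 2 ≤ m) : 4 ∣ c :=
  (pow_dvd_pow 2 hm).trans h.two_pow_dvd

theorem BC.three_dvd {c m : ℕ} (h : BC c m) : 3 ∣ c ∨ (3 ≤ m ∧ Odd m ∧ c = 4 ^ m * (2 ^ m - 1) * (4 ^ m + 1)) := by
  rcases h with h | h | ⟨d, hd, h, h3⟩
  · left
    rw [h]
    apply Dvd.dvd.mul_left
    have : (4 : ℕ) ^ m ≡ 1 ^ m [MOD 3] := Nat.ModEq.pow m rfl
    rw [one_pow] at this
    exact (Nat.modEq_iff_dvd' (Nat.one_le_pow _ _ (by norm_num))).1 this.symm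
  · exact Or.inr h
  · exact Or.inl h3

theorem BN.nonab [Finite N] (h : BN N) : ¬ IsMulCommutative N := by
  intro hc
  have := h.simple
  obtain ⟨m, hm, hB, -⟩ := h.cases
  let _ : CommGroup N := { (inferInstance : Group N) with mul_comm := hc.is_comm.comm }
  have h1 : (Nat.card N).Prime := IsSimpleGroup.prime_card
  have h4 := hB.four_dvd hm
  have h5 : 2 ∣ Nat.card N := dvd_trans (by norm_num) h4
  have h6 := (Nat.prime_dvd_prime_iff_eq Nat.prime_two h1).1 h5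
  rw [← h6] at h4
  norm_num at h4

theorem BN.free (h : BN N) : ¬ Lib.Involves.Involves N (Equiv.Perm (Fin 4)) := by
  obtain ⟨F, _, _, m, hF, hm, h⟩ := h
  rcases h with ⟨⟨e⟩⟩ | ⟨hodd, ⟨e⟩⟩ | ⟨K, _, _, hK, ⟨e⟩⟩
  · rw [congr_left e]
    exact Cfsg.Agent.H211.GoldFree.psl_even_free hF
  · obtain ⟨k, rfl⟩ := hodd
    have hk : (2 * k + 1 + 1) / 2 = k + 1 := by omega
    rw [hk] at e
    rw [congr_left e]
    apply Cfsg.Agent.H211.TIFree.not_involves_sfour_of_not_three_dvd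
    rw [Cfsg.Agent.H438.SzMax.card_sz hF]
    intro h3
    have e2 : 2 ^ (2 * k + 1) % 3 = 2 := by
      rw [pow_succ, pow_mul, Nat.mul_mod, Nat.pow_mod]; norm_num
    rw [Nat.prime_three.dvd_mul, Nat.prime_three.dvd_mul] at h3
    generalize 2 ^ (2 * k + 1) = x at h3 e2
    rcases h3 with (h3 | h3) | h3
    · have := Nat.prime_three.dvd_of_dvd_pow h3
      omega
    · omega
    · have h5 : x ^ 2 % 3 = 1 := by rw [Nat.pow_mod, e2]
      omega
  · rw [congr_left e]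
    exact Cfsg.Agent.H211.GoldFree.psu_free (by rw [hK, pow4])

open scoped commutatorElement in
theorem BN.perfect [Finite N] (h : BN N) : ⁅(⊤ : Subgroup N), (⊤ : Subgroup N)⁆ = ⊤ := by
  have := h.simple
  rcases (inferInstance : (⁅(⊤ : Subgroup N), (⊤ : Subgroup N)⁆).Normal).eq_bot_or_eq_top with h1 | h1
  · exfalso
    apply h.nonab
    refine ⟨⟨fun a b => ?_⟩⟩
    have h2 : ⁅a, b⁆ ∈ ⁅(⊤ : Subgroup N), (⊤ : Subgroup N)⁆ :=
      Subgroup.commutator_mem_commutator (Subgroup.mem_top a) (Subgroup.mem_top b)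
    rw [h1, Subgroup.mem_bot, commutatorElement_eq_one_iff_commute] at h2
    exact h2
  · exact h1

theorem BN.not_dvd_72 [Finite N] (h : BN N) : ¬ Nat.card N ∣ 72 := by
  intro hd
  have := h.simple
  exact h.nonab ⟨⟨IsSimpleGroup.comm_iff_isSolvable.2 (Cfsg.Agent.LieClassical.Order72.isSolvable_of_card_dvd hd)⟩⟩

theorem BC.sixty {m : ℕ} (hm : 2 ≤ m) (h : BC 60 m) : m = 2 := by
  have h1 := h.two_pow_dvd
  have h2 : m < 3 := by
    by_contra hcon
    push Not at hcon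
    exact absurd ((pow_dvd_pow 2 hcon).trans h1) (by norm_num)
  omega

theorem BC.c504 {m : ℕ} (hm : 2 ≤ m) (h : BC 504 m) : m = 3 := by
  have h1 := h.two_pow_dvd
  have h2 : m < 4 := by
    by_contra hcon
    push Not at hcon
    exact absurd ((pow_dvd_pow 2 hcon).trans h1) (by norm_num)
  interval_cases m
  · exfalso
    rcases h with h | ⟨h, -, -⟩ | ⟨d, hd, h, -⟩
    · norm_num at h
    · omega
    · norm_num at h; omega
  · rfl

theorem BN.psl_of_sixty (h : BN N) (hc : Nat.card N = 60) : ∃ (F : Type) (_ : Field F) (_ : Fintype F),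
    Fintype.card F = 4 ∧ Nonempty (N ≃* Matrix.ProjectiveSpecialLinearGroup (Fin 2) F) := by
  obtain ⟨m, hm, h1, h2⟩ := h.cases
  rw [hc] at h1 h2
  obtain rfl := h1.sixty hm
  exact h2 (by norm_num) (by norm_num)

theorem BN.psl_of_504 (h : BN N) (hc : Nat.card N = 504) : ∃ (F : Type) (_ : Field F) (_ : Fintype F),
    Fintype.card F = 8 ∧ Nonempty (N ≃* Matrix.ProjectiveSpecialLinearGroup (Fin 2) F) := by
  obtain ⟨m, hm, h1, h2⟩ := h.cases
  rw [hc] at h1 h2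
  obtain rfl := h1.c504 hm
  exact h2 (by norm_num) (by norm_num)

theorem card_mulAut_psl [Finite N] (h : BN N) {F : Type} [Field F] [Fintype F] {f : ℕ} (hf : 2 ≤ f)
    (hF : Fintype.card F = 2 ^ f) (e : N ≃* Matrix.ProjectiveSpecialLinearGroup (Fin 2) F) :
    Nat.card (MulAut N) = Nat.card N * f := by
  have hs := h.simple
  have hz : Subgroup.center N = ⊥ := by
    rcases (inferInstance : (Subgroup.center N).Normal).eq_bot_or_eq_top with h1 | h1
    · exact h1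
    · exfalso
      apply h.nonab
      refine ⟨⟨fun a b => ?_⟩⟩
      have h2 : a ∈ Subgroup.center N := by rw [h1]; exact Subgroup.mem_top a
      exact (Subgroup.mem_center_iff.1 h2 b).symm
  rw [TTOut.card_mulAut hz, Cfsg.Agent.H55.OutGen.card_out_congr e]
  congr 1
  have h2 : Fact (Nat.Prime 2) := ⟨Nat.prime_two⟩
  have h4 : 2 ^ 2 ≤ 2 ^ f := Nat.pow_le_pow_right (by norm_num) hf
  obtain ⟨φ, hφ, -, hker⟩ := Cfsg.Agent.H183.OutPSL.out_two (F := F) (p := 2) (f := f) (by omega) hF (by omega)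
  have h1 := Subgroup.card_mul_index φ.ker
  have h3 : Nat.gcd 2 (2 ^ f - 1) = 1 := by
    have h5 : (2 ^ f - 1) % 2 = 1 := by
      have h6 : 2 ∣ 2 ^ f := dvd_pow_self 2 (by omega)
      omega
    rw [Nat.gcd_rec, h5]
    rfl
  rw [Subgroup.index_ker, MonoidHom.range_eq_top.2 hφ, Subgroup.card_top, hker, h3,
    Nat.card_congr Multiplicative.toAdd, Nat.card_zmod, one_mul] at h1
  exact h1.symm

theorem BN.card_mulAut_sixty [Finite N] (h : BN N) (hc : Nat.card N = 60) : Nat.card (MulAut N) = 120 := by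
  obtain ⟨F, _, _, hF, ⟨e⟩⟩ := h.psl_of_sixty hc
  rw [card_mulAut_psl h (f := 2) le_rfl (by rw [hF]; norm_num) e, hc]

theorem BN.card_mulAut_504 [Finite N] (h : BN N) (hc : Nat.card N = 504) : Nat.card (MulAut N) = 1512 := by
  obtain ⟨F, _, _, hF, ⟨e⟩⟩ := h.psl_of_504 hc
  rw [card_mulAut_psl h (f := 3) (by norm_num) (by rw [hF]; norm_num) e, hc]

end Cfsg.Agent.H57.TTBend
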