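import Cfsg.Agent.H57.TTBend

/-!
# Numerical eliminations for S2208 (helper57)
-/

set_option autoImplicit false

namespace Cfsg.Agent.H57.TTBend

theorem BC.le_of_dvd {c m M v : ℕ} (h : BC c m) (hd : c ∣ M) (hv : ¬ 2 ^ (v + 1) ∣ M) : m ≤ v := by
  by_contra hcon
  push Not at hcon
  exact hv ((pow_dvd_pow 2 (show v + 1 ≤ m from hcon)).trans (h.two_pow_dvd.trans hd))

/-- the possible orders -/
theorem BC.step {c m M : ℕ} (h : BC c m) (hd : c ∣ M) :
    (c = 2 ^ m * (4 ^ m - 1) ∧ 2 ^ m * (4 ^ m - 1) ∣ M) ∨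
    (3 ≤ m ∧ m % 2 = 1 ∧ 4 ^ m * (2 ^ m - 1) * (4 ^ m + 1) ∣ M) ∨
    (8 ^ m * ((8 ^ m + 1) * (4 ^ m - 1)) ∣ 3 * M) := by
  rcases h with h | ⟨h1, h2, h⟩ | ⟨d, hd', h, -⟩
  · left; exact ⟨h, h ▸ hd⟩
  · right; left; exact ⟨h1, Nat.odd_iff.1 h2, h ▸ hd⟩
  · right; right
    rw [← h]
    refine Nat.mul_dvd_mul ?_ hd
    rcases hd' with rfl | rfl <;> norm_num

theorem BC.d168 {c m : ℕ} (hm : 2 ≤ m) (h : BC c m) : ¬ c ∣ 168 := by
  intro hd
  have hv := h.le_of_dvd (v := 3) hd (by norm_num)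
  have := h.step hd
  interval_cases m <;> norm_num at this

theorem BC.d720 {c m : ℕ} (hm : 2 ≤ m) (h : BC c m) (hd : c ∣ 720) : c = 60 := by
  have hv := h.le_of_dvd (v := 4) hd (by norm_num)
  have := h.step hd
  interval_cases m <;> norm_num at this
  exact this

theorem BC.d660 {c m : ℕ} (hm : 2 ≤ m) (h : BC c m) (hd : c ∣ 660) : c = 60 := by
  have hv := h.le_of_dvd (v := 2) hd (by norm_num)
  have := h.step hd
  interval_cases m
  norm_num at this
  exact this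

theorem BC.d7920 {c m : ℕ} (hm : 2 ≤ m) (h : BC c m) (hd : c ∣ 7920) : c = 60 := by
  have hv := h.le_of_dvd (v := 4) hd (by norm_num)
  have := h.step hd
  interval_cases m <;> norm_num at this
  exact this

theorem BC.d20160 {c m : ℕ} (hm : 2 ≤ m) (h : BC c m) (hd : c ∣ 20160) : c = 60 ∨ c = 504 := by
  have hv := h.le_of_dvd (v := 6) hd (by norm_num)
  have := h.step hd
  interval_cases m <;> norm_num at this <;> simp [this]

theorem BC.d443520 {c m : ℕ} (hm : 2 ≤ m) (h : BC c m) (hd : c ∣ 443520) : c = 60 ∨ c = 504 := by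
  have hv := h.le_of_dvd (v := 7) hd (by norm_num)
  have := h.step hd
  interval_cases m <;> norm_num at this <;> simp [this]

theorem BC.d10200960 {c m : ℕ} (hm : 2 ≤ m) (h : BC c m) (hd : c ∣ 10200960) : c = 60 ∨ c = 504 := by
  have hv := h.le_of_dvd (v := 7) hd (by norm_num)
  have := h.step hd
  interval_cases m <;> norm_num at this <;> simp [this]

theorem BC.d252000 {c m : ℕ} (hm : 2 ≤ m) (h : BC c m) (hd : c ∣ 252000) : c = 60 ∨ c = 504 := by
  have hv := h.le_of_dvd (v := 5) hd (by norm_num)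
  have := h.step hd
  interval_cases m <;> norm_num at this <;> simp [this]

theorem BC.d1796256000 {c m : ℕ} (hm : 2 ≤ m) (h : BC c m) (hd : c ∣ 1796256000) : c = 60 ∨ c = 504 := by
  have hv := h.le_of_dvd (v := 8) hd (by norm_num)
  have := h.step hd
  interval_cases m <;> norm_num at this <;> simp [this]

theorem BC.d60 {c m : ℕ} (hm : 2 ≤ m) (h : BC c m) (hd : c ∣ 60) : c = 60 := by
  have hv := h.le_of_dvd (v := 2) hd (by norm_num)
  have := h.step hd
  interval_cases m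
  norm_num at this
  exact this

/-- the order of a Suzuki group is divisible by 5 -/
theorem five_dvd_sz {m : ℕ} (hm : m % 2 = 1) : 5 ∣ 4 ^ m * (2 ^ m - 1) * (4 ^ m + 1) := by
  apply Dvd.dvd.mul_left
  obtain ⟨k, rfl⟩ := Nat.odd_iff.2 hm
  have h1 : (4 : ℕ) ^ (2 * k + 1) = 16 ^ k * 4 := by rw [pow_succ, pow_mul]; norm_num
  have h2 : (16 : ℕ) ^ k % 5 = 1 := by rw [Nat.pow_mod]; norm_num
  rw [h1]
  omega

theorem four_pow_mod (k : ℕ) : 4 ^ k % 5 = 1 ∨ 4 ^ k % 5 = 4 := by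
  induction k with
  | zero => left; rfl
  | succ k ih => rw [pow_succ, Nat.mul_mod]; rcases ih with h | h <;> rw [h] <;> simp

/-- the row of the Suzuki groups -/
theorem BC.sz {c m k : ℕ} (h : BC c m) (h3 : ¬ 3 ∣ c) :
    ¬ c ∣ (2 ^ (2 * k + 1)) ^ 2 * (2 ^ (2 * k + 1) - 1) := by
  intro hd
  rcases h.three_dvd with h' | ⟨-, hodd, hc⟩
  · exact h3 h'
  have h5 : 5 ∣ c := by rw [hc]; exact five_dvd_sz (Nat.odd_iff.1 hodd)
  have h6 := h5.trans hd
  have hp5 : Nat.Prime 5 := by norm_num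
  have e1 : 2 ^ (2 * k + 1) = 4 ^ k * 2 := by rw [pow_succ, pow_mul]; norm_num
  have e2 := four_pow_mod k
  have e3 : 1 ≤ 4 ^ k := Nat.one_le_pow _ _ (by norm_num)
  rw [e1] at h6
  generalize 4 ^ k = x at h6 e2 e3
  rcases (hp5.dvd_mul).1 h6 with h7 | h7
  · have := hp5.dvd_of_dvd_pow h7
    omega
  · omega

end Cfsg.Agent.H57.TTBend
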