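import Mathlib

/-!
# The design of a 2-transitive group whose two-point stabiliser has a unique element with many fixed points

Counting lemmas (helper57) for S2213 and its neighbours.
-/

set_option autoImplicit false

namespace Cfsg.Agent.H57.TTDesign

open MulAction

universe u v

variable {G : Type u} {Ω : Type v} [Group G] [MulAction G Ω]

/-- two-transitive subgroup `K` on an invariant subset `S`: order -/
theorem card_two [Finite G] [Finite Ω] (K : Subgroup G) (S : Set Ω) {a b : Ω} (ha : a ∈ S) (hb : b ∈ S) (hab : a ≠ b)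
    (hst : ∀ g ∈ K, ∀ x ∈ S, g • x ∈ S)
    (htr : ∀ c ∈ S, ∀ d ∈ S, c ≠ d → ∃ g ∈ K, g • a = c ∧ g • b = d) :
    Nat.card K = S.ncard * (S.ncard - 1) * Nat.card ↥(K ⊓ (stabilizer G a ⊓ stabilizer G b)) := by
  classical
  have hfin : Finite K := inferInstance
  have h1 : orbit K ((a, b) : Ω × Ω) = {p : Ω × Ω | p.1 ∈ S ∧ p.2 ∈ S ∧ p.1 ≠ p.2} := by
    ext ⟨c, d⟩
    constructor
    · rintro ⟨⟨g, hg⟩, h⟩
      have h' : ((g • a, g • b) : Ω × Ω) = (c, d) := h
      rw [Prod.mk.injEq] at h'
      obtain ⟨rfl, rfl⟩ := h'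
      exact ⟨hst g hg a ha, hst g hg b hb, fun h => hab (smul_left_cancel g h)⟩
    · rintro ⟨hc, hd, hcd⟩
      obtain ⟨g, hg, h1, h2⟩ := htr c hc d hd hcd
      exact ⟨⟨g, hg⟩, Prod.ext h1 h2⟩
  have h2 : Nat.card (orbit K ((a, b) : Ω × Ω)) = S.ncard * (S.ncard - 1) := by
    rw [h1, Nat.card_coe_set_eq]
    have hS : S.Finite := Set.toFinite S
    have h3 : {p : Ω × Ω | p.1 ∈ S ∧ p.2 ∈ S ∧ p.1 ≠ p.2} = ↑(hS.toFinset.offDiag) := by
      ext ⟨c, d⟩
      simp
    rw [h3, Set.ncard_coe_finset, Finset.offDiag_card, Set.ncard_eq_toFinset_card S hS]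
    rw [Nat.mul_sub, mul_one]
  have h4 : Nat.card (stabilizer K ((a, b) : Ω × Ω)) = Nat.card ↥(K ⊓ (stabilizer G a ⊓ stabilizer G b)) := by
    refine Nat.card_congr
      { toFun := fun g => ⟨g.1.1, g.1.2, ?_, ?_⟩
        invFun := fun g => ⟨⟨g.1, g.2.1⟩, ?_⟩
        left_inv := ?_
        right_inv := ?_ }
    · have := g.2
      rw [mem_stabilizer_iff] at this
      exact congrArg Prod.fst this
    · have := g.2
      rw [mem_stabilizer_iff] at this
      exact congrArg Prod.snd this
    · rw [mem_stabilizer_iff]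
      exact Prod.ext g.2.2.1 g.2.2.2
    · intro g; rfl
    · intro g; rfl
  rw [← h2, ← h4, ← Nat.card_prod]
  exact Nat.card_congr (orbitProdStabilizerEquivGroup K ((a, b) : Ω × Ω)).symm

/-- transitive subgroup `K` on an invariant subset `S`: order -/
theorem card_one [Finite G] [Finite Ω] (K : Subgroup G) (S : Set Ω) {b : Ω} (hb : b ∈ S)
    (hst : ∀ g ∈ K, ∀ x ∈ S, g • x ∈ S)
    (htr : ∀ d ∈ S, ∃ g ∈ K, g • b = d) :
    Nat.card K = S.ncard * Nat.card ↥(K ⊓ stabilizer G b) := by
  classical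
  have hfin : Finite K := inferInstance
  have h1 : orbit K b = S := by
    ext d
    constructor
    · rintro ⟨⟨g, hg⟩, rfl⟩
      exact hst g hg b hb
    · intro hd
      obtain ⟨g, hg, h2⟩ := htr d hd
      exact ⟨⟨g, hg⟩, h2⟩
  have h2 : Nat.card (orbit K b) = S.ncard := by
    rw [h1, Nat.card_coe_set_eq]
  have h4 : Nat.card (stabilizer K b) = Nat.card ↥(K ⊓ stabilizer G b) := by
    refine Nat.card_congr
      { toFun := fun g => ⟨g.1.1, g.1.2, g.2⟩
        invFun := fun g => ⟨⟨g.1, g.2.1⟩, g.2.2⟩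
        left_inv := fun g => rfl
        right_inv := fun g => rfl }
  rw [← h2, ← h4, ← Nat.card_prod]
  exact Nat.card_congr (orbitProdStabilizerEquivGroup K b).symm

theorem card_group [Finite G] [Finite Ω] {a b : Ω} (hab : a ≠ b)
    (htr : ∀ c d : Ω, c ≠ d → ∃ g : G, g • a = c ∧ g • b = d) :
    Nat.card G = Nat.card Ω * (Nat.card Ω - 1) * Nat.card ↥(stabilizer G a ⊓ stabilizer G b) := by
  have h := card_two (⊤ : Subgroup G) (Set.univ : Set Ω) (a := a) (b := b) trivial trivial hab
    (fun _ _ _ _ => trivial) (fun c _ d _ hcd => by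
      obtain ⟨g, h1, h2⟩ := htr c d hcd
      exact ⟨g, trivial, h1, h2⟩)
  rw [Subgroup.card_top, Set.ncard_univ, top_inf_eq] at h
  exact h

/-- number of fixed points is a class function -/
theorem card_fix_conj (g s : G) : Nat.card {x : Ω // (g * s * g⁻¹) • x = x} = Nat.card {x : Ω // s • x = x} := by
  refine Nat.card_congr
    { toFun := fun x => ⟨g⁻¹ • x.1, ?_⟩
      invFun := fun x => ⟨g • x.1, ?_⟩
      left_inv := fun x => Subtype.ext (smul_inv_smul g _)
      right_inv := fun x => Subtype.ext (inv_smul_smul g _) }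
  · have h := x.2
    rw [mul_smul, mul_smul] at h
    rw [eq_inv_smul_iff]
    exact h
  · rw [mul_smul, mul_smul, inv_smul_smul, x.2]

theorem card_fix_inv (s : G) : Nat.card {x : Ω // s⁻¹ • x = x} = Nat.card {x : Ω // s • x = x} := by
  refine Nat.card_congr (Equiv.subtypeEquivRight fun x => ?_)
  rw [inv_smul_eq_iff]
  exact eq_comm

/-- The hypotheses of S2213 (without faithfulness). -/
structure UT (G : Type u) (Ω : Type v) [Group G] [MulAction G Ω] (t : G) : Prop where
  two : ∀ a b c d : Ω, a ≠ b → c ≠ d → ∃ g : G, g • a = c ∧ g • b = d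
  ne : t ≠ 1
  three : 2 < Nat.card {x : Ω // t • x = x}
  uniq : ∀ c d : Ω, c ≠ d → t • c = c → t • d = d → ∀ s : G, s • c = c → s • d = d → s ≠ 1 →
    2 < Nat.card {x : Ω // s • x = x} → s = t

theorem UT.mk' (h2 : ∀ a b c d : Ω, a ≠ b → c ≠ d → ∃ g : G, g • a = c ∧ g • b = d) (a b : Ω) (hab : a ≠ b) (t : G)
    (ht : t ∈ (stabilizer G a ⊓ stabilizer G b) ∧ t ≠ 1 ∧ 2 < Nat.card {x : Ω // t • x = x})
    (huniq : ∀ s ∈ (stabilizer G a ⊓ stabilizer G b), s ≠ 1 → 2 < Nat.card {x : Ω // s • x = x} → s = t) :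
    UT G Ω t := by
  refine ⟨h2, ht.2.1, ht.2.2, ?_⟩
  intro c d hcd htc htd s hsc hsd hs hs2
  obtain ⟨g, rfl, rfl⟩ := h2 a b c d hab hcd
  have key : ∀ r : G, r • g • a = g • a → r • g • b = g • b → r ≠ 1 → 2 < Nat.card {x : Ω // r • x = x} →
      r = g * t * g⁻¹ := by
    intro r hra hrb hr hr2
    have h3 : g⁻¹ * r * g = t := by
      apply huniq
      · constructor
        · change (g⁻¹ * r * g) • a = a
          rw [mul_smul, mul_smul, hra, inv_smul_smul]
        · change (g⁻¹ * r * g) • b = b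
          rw [mul_smul, mul_smul, hrb, inv_smul_smul]
      · intro h
        apply hr
        have : r = g * (g⁻¹ * r * g) * g⁻¹ := by group
        rw [this, h]; group
      · have h := card_fix_conj (Ω := Ω) g⁻¹ r
        rw [inv_inv] at h
        rw [h]; exact hr2
    rw [← h3]; group
  rw [key s hsc hsd hs hs2, ← key t htc htd ht.2.1 ht.2.2]

namespace UT

variable {t : G} (H : UT G Ω t)
include H

theorem finΩ' : Finite {x : Ω // t • x = x} :=
  Nat.finite_of_card_ne_zero (by have := H.three; omega)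

/-- there are two fixed points -/
theorem exists_pts : ∃ a b : Ω, a ≠ b ∧ t • a = a ∧ t • b = b := by
  have := H.finΩ'
  have h : 1 < Nat.card {x : Ω // t • x = x} := by have := H.three; omega
  rw [Finite.one_lt_card_iff_nontrivial] at h
  obtain ⟨⟨a, ha⟩, ⟨b, hb⟩, hab⟩ := h
  exact ⟨a, b, fun h => hab (Subtype.ext h), ha, hb⟩

/-- a third fixed point -/
theorem exists_third (a b : Ω) : ∃ c : Ω, t • c = c ∧ c ≠ a ∧ c ≠ b := by
  have := H.finΩ'
  by_contra hcon
  push Not at hcon
  have h : Nat.card {x : Ω // t • x = x} ≤ ({a, b} : Set Ω).ncard := by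
    have h1 : Nat.card {x : Ω // t • x = x} = ({x : Ω | t • x = x} : Set Ω).ncard := rfl
    rw [h1]
    apply Set.ncard_le_ncard _ (Set.toFinite _)
    intro x hx
    by_cases hxa : x = a
    · left; exact hxa
    · right; exact hcon x hx hxa
  have h2 := Set.ncard_insert_le a ({b} : Set Ω)
  rw [Set.ncard_singleton] at h2
  have := H.three
  omega

theorem inv_eq : t⁻¹ = t := by
  obtain ⟨a, b, hab, ha, hb⟩ := H.exists_pts
  apply H.uniq a b hab ha hb
  · rw [inv_smul_eq_iff]; exact ha.symm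
  · rw [inv_smul_eq_iff]; exact hb.symm
  · intro h; exact H.ne (inv_eq_one.1 h)
  · rw [card_fix_inv]; exact H.three

theorem mul_self : t * t = 1 := by
  have := H.inv_eq
  nth_rewrite 1 [← this]
  exact inv_mul_cancel t

theorem orderOf_eq : orderOf t = 2 := orderOf_eq_prime (by rw [pow_two]; exact H.mul_self) H.ne

/-- elements fixing two fixed points of `t` commute with `t` -/
theorem commute {c d : Ω} (hcd : c ≠ d) (hc : t • c = c) (hd : t • d = d) {s : G} (hsc : s • c = c) (hsd : s • d = d) :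
    s * t = t * s := by
  have h : s * t * s⁻¹ = t := by
    apply H.uniq c d hcd hc hd
    · rw [mul_smul, mul_smul, inv_smul_eq_iff.2 hsc.symm, hc, hsc]
    · rw [mul_smul, mul_smul, inv_smul_eq_iff.2 hsd.symm, hd, hsd]
    · intro h
      apply H.ne
      have : t = s⁻¹ * (s * t * s⁻¹) * s := by group
      rw [this, h]; group
    · rw [card_fix_conj]; exact H.three
  calc s * t = s * t * s⁻¹ * s := by group
    _ = t * s := by rw [h]

/-- an element carrying two fixed points of `t` to fixed points of `t` commutes with `t` -/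
theorem commute' {c d : Ω} (hcd : c ≠ d) (hc : t • c = c) (hd : t • d = d) {g : G} (hgc : t • g • c = g • c)
    (hgd : t • g • d = g • d) : g * t = t * g := by
  have h : g⁻¹ * t * g = t := by
    apply H.uniq c d hcd hc hd
    · rw [mul_smul, mul_smul, hgc, inv_smul_smul]
    · rw [mul_smul, mul_smul, hgd, inv_smul_smul]
    · intro h
      apply H.ne
      have : t = g * (g⁻¹ * t * g) * g⁻¹ := by group
      rw [this, h]; group
    · have := card_fix_conj (Ω := Ω) g⁻¹ t
      rw [inv_inv] at this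
      rw [this]; exact H.three
  calc g * t = g * (g⁻¹ * t * g) := by rw [h]
    _ = t * g := by group

/-- conjugates of `t` satisfy the same hypotheses -/
theorem conj (g : G) : UT G Ω (g * t * g⁻¹) where
  two := H.two
  ne := by
    intro h
    apply H.ne
    have : t = g⁻¹ * (g * t * g⁻¹) * g := by group
    rw [this, h]; group
  three := by rw [card_fix_conj]; exact H.three
  uniq := by
    intro c d hcd hc hd s hsc hsd hs hs2
    rw [mul_smul, mul_smul, ← eq_inv_smul_iff] at hc hd
    have h : g⁻¹ * s * g = t := by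
      apply H.uniq (g⁻¹ • c) (g⁻¹ • d) (fun h => hcd (smul_left_cancel _ h)) hc hd
      · rw [mul_smul, mul_smul, smul_inv_smul, hsc]
      · rw [mul_smul, mul_smul, smul_inv_smul, hsd]
      · intro h
        apply hs
        have : s = g * (g⁻¹ * s * g) * g⁻¹ := by group
        rw [this, h]; group
      · have := card_fix_conj (Ω := Ω) g⁻¹ s
        rw [inv_inv] at this
        rw [this]; exact hs2
    rw [← h]; group

/-- every pair of points lies on a unique line -/
theorem exists_line (c d : Ω) (hcd : c ≠ d) : ∃ g : G, (g * t * g⁻¹) • c = c ∧ (g * t * g⁻¹) • d = d := by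
  obtain ⟨a, b, hab, ha, hb⟩ := H.exists_pts
  obtain ⟨g, rfl, rfl⟩ := H.two a b c d hab hcd
  refine ⟨g, ?_, ?_⟩
  · rw [mul_smul, mul_smul, inv_smul_smul, ha]
  · rw [mul_smul, mul_smul, inv_smul_smul, hb]

/-- two lines with two common points are equal -/
theorem eq_of_line {s : G} (H' : UT G Ω s) {c d : Ω} (hcd : c ≠ d) (hc : t • c = c) (hd : t • d = d)
    (hc' : s • c = c) (hd' : s • d = d) : s = t :=
  H.uniq c d hcd hc hd s hc' hd' H'.ne H'.three

/-- an element fixing three points of a line is `1` or `t` -/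
theorem eq_of_three [Finite Ω] {c d e : Ω} (hcd : c ≠ d) (hce : c ≠ e) (hde : d ≠ e) (hc : t • c = c) (hd : t • d = d)
    {s : G} (hs : s ≠ 1) (hsc : s • c = c) (hsd : s • d = d) (hse : s • e = e) : s = t := by
  apply H.uniq c d hcd hc hd s hsc hsd hs
  have h1 : ({c, d, e} : Set Ω).ncard = 3 := Set.ncard_eq_three.2 ⟨c, d, e, hcd, hce, hde, rfl⟩
  have h2 : ({c, d, e} : Set Ω).ncard ≤ ({x : Ω | s • x = x} : Set Ω).ncard := by
    apply Set.ncard_le_ncard _ (Set.toFinite _)
    rintro x (rfl | rfl | rfl)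
    · exact hsc
    · exact hsd
    · exact hse
  have h3 : Nat.card {x : Ω // s • x = x} = ({x : Ω | s • x = x} : Set Ω).ncard := rfl
  omega

/-- the line through `c` and `d`: a conjugate of `t` -/
theorem exists_line' (c d : Ω) (hcd : c ≠ d) : ∃ s : G, UT G Ω s ∧ IsConj t s ∧ s • c = c ∧ s • d = d ∧
    Nat.card {x : Ω // s • x = x} = Nat.card {x : Ω // t • x = x} := by
  obtain ⟨g, h1, h2⟩ := H.exists_line c d hcd
  exact ⟨_, H.conj g, isConj_iff.2 ⟨g, rfl⟩, h1, h2, card_fix_conj g t⟩

theorem stab_inf_le {a b : Ω} (hab : a ≠ b) (ha : t • a = a) (hb : t • b = b) :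
    stabilizer G a ⊓ stabilizer G b ≤ Subgroup.centralizer {t} := by
  rintro s ⟨h1, h2⟩
  rw [Subgroup.mem_centralizer_singleton_iff]
  exact H.commute hab ha hb h1 h2

theorem card_centralizer [Finite G] [Finite Ω] {a b : Ω} (hab : a ≠ b) (ha : t • a = a) (hb : t • b = b) :
    Nat.card (Subgroup.centralizer ({t} : Set G)) =
      Nat.card {x : Ω // t • x = x} * (Nat.card {x : Ω // t • x = x} - 1) *
        Nat.card ↥(stabilizer G a ⊓ stabilizer G b) := by
  have h := card_two (Subgroup.centralizer ({t} : Set G)) {x : Ω | t • x = x} (a := a) (b := b) ha hb hab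
    (by
      intro g hg x hx
      rw [Subgroup.mem_centralizer_singleton_iff] at hg
      change t • g • x = g • x
      rw [← mul_smul, ← hg, mul_smul, hx])
    (by
      intro c hc d hd hcd
      obtain ⟨g, rfl, rfl⟩ := H.two a b c d hab hcd
      exact ⟨g, Subgroup.mem_centralizer_singleton_iff.2 (H.commute' hab ha hb hc hd), rfl, rfl⟩)
  rw [inf_eq_right.2 (H.stab_inf_le hab ha hb)] at h
  exact h

theorem card_group' [Finite G] [Finite Ω] {a b : Ω} (hab : a ≠ b) :
    Nat.card G = Nat.card Ω * (Nat.card Ω - 1) * Nat.card ↥(stabilizer G a ⊓ stabilizer G b) :=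
  card_group hab fun c d hcd => H.two a b c d hab hcd

theorem card_stab [Finite G] [Finite Ω] {a b : Ω} (hab : a ≠ b) :
    Nat.card (stabilizer G a) = (Nat.card Ω - 1) * Nat.card ↥(stabilizer G a ⊓ stabilizer G b) := by
  have h := card_one (stabilizer G a) {x : Ω | x ≠ a} (b := b) hab.symm (by
    intro g hg x hx h
    apply hx
    rw [← smul_left_cancel_iff g, h]
    exact hg.symm) (by
    intro d hd
    obtain ⟨g, h1, h2⟩ := H.two a b a d hab (Ne.symm hd)
    exact ⟨g, h1, h2⟩)
  rw [h]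
  congr 1
  have h2 : ({x : Ω | x ≠ a} : Set Ω) = ({a} : Set Ω)ᶜ := by
    ext x; simp
  rw [h2, Set.ncard_compl, Set.ncard_singleton]

theorem pairs_dvd [Finite G] [Finite Ω] :
    Nat.card {x : Ω // t • x = x} * (Nat.card {x : Ω // t • x = x} - 1) ∣ Nat.card Ω * (Nat.card Ω - 1) := by
  obtain ⟨a, b, hab, ha, hb⟩ := H.exists_pts
  have h1 := H.card_centralizer hab ha hb
  have h2 := H.card_group' hab
  have h3 : Nat.card (Subgroup.centralizer ({t} : Set G)) ∣ Nat.card G := Subgroup.card_subgroup_dvd_card _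
  rw [h1, h2] at h3
  exact Nat.dvd_of_mul_dvd_mul_right Nat.card_pos h3

theorem pred_dvd [Finite G] [Finite Ω] : Nat.card {x : Ω // t • x = x} - 1 ∣ Nat.card Ω - 1 := by
  obtain ⟨a, b, hab, ha, hb⟩ := H.exists_pts
  have h1 := card_one (Subgroup.centralizer ({t} : Set G) ⊓ stabilizer G a) ({x : Ω | t • x = x} \ {a}) (b := b)
    ⟨hb, hab.symm⟩
    (by
      rintro g ⟨hg, hga⟩ x ⟨hx, hxa⟩
      replace hg : g * t = t * g := Subgroup.mem_centralizer_singleton_iff.1 hg
      refine ⟨?_, ?_⟩
      · change t • g • x = g • x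
        rw [← mul_smul, ← hg, mul_smul, hx]
      · intro h
        apply hxa
        have h' : g • x = g • a := h.trans hga.symm
        exact smul_left_cancel g h')
    (by
      rintro d ⟨hd, hda⟩
      obtain ⟨g, h1, h2⟩ := H.two a b a d hab (Ne.symm hda)
      refine ⟨g, ⟨Subgroup.mem_centralizer_singleton_iff.2 (H.commute' hab ha hb ?_ ?_), h1⟩, h2⟩
      · rw [h1]; exact ha
      · rw [h2]; exact hd)
  have h2 : Subgroup.centralizer ({t} : Set G) ⊓ stabilizer G a ⊓ stabilizer G b = stabilizer G a ⊓ stabilizer G b := by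
    rw [inf_assoc]
    exact inf_eq_right.2 (H.stab_inf_le hab ha hb)
  have h3 : Nat.card ↥(Subgroup.centralizer ({t} : Set G) ⊓ stabilizer G a) ∣ Nat.card (stabilizer G a) :=
    Subgroup.card_dvd_of_le inf_le_right
  have h4 : ({x : Ω | t • x = x} \ {a}).ncard = Nat.card {x : Ω // t • x = x} - 1 := by
    rw [Set.ncard_sdiff_singleton_of_mem (by exact ha)]
    rfl
  rw [h1, h2, h4, H.card_stab hab] at h3
  exact Nat.dvd_of_mul_dvd_mul_right Nat.card_pos h3

theorem two_dvd [Finite G] {a b : Ω} (ha : t • a = a) (hb : t • b = b) :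
    2 ∣ Nat.card ↥(stabilizer G a ⊓ stabilizer G b) := by
  have hmem : t ∈ stabilizer G a ⊓ stabilizer G b := ⟨ha, hb⟩
  have h : orderOf (⟨t, hmem⟩ : ↥(stabilizer G a ⊓ stabilizer G b)) = 2 := by
    rw [Subgroup.orderOf_mk]; exact H.orderOf_eq
  rw [← h]
  exact orderOf_dvd_natCard _

theorem D_le [Finite G] [Finite Ω] {a b : Ω} (hab : a ≠ b) (ha : t • a = a) (hb : t • b = b) :
    Nat.card ↥(stabilizer G a ⊓ stabilizer G b) ≤ 2 * (Nat.card {x : Ω // t • x = x} - 2) := by
  classical
  obtain ⟨c, hc, hca, hcb⟩ := H.exists_third a b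
  set K := stabilizer G a ⊓ stabilizer G b with hK
  have h1 : Nat.card (orbit K c) * Nat.card (stabilizer K c) = Nat.card K := by
    rw [← Nat.card_prod]
    exact Nat.card_congr (orbitProdStabilizerEquivGroup K c)
  have h2 : Nat.card (stabilizer K c) ≤ 2 := by
    have h3 : Nat.card (stabilizer K c) ≤ ({1, t} : Set G).ncard := by
      rw [← Nat.card_coe_set_eq]
      refine Nat.card_le_card_of_injective (fun g => ⟨g.1.1, ?_⟩) ?_
      · by_cases h : (g.1.1 : G) = 1
        · left; exact h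
        · right
          exact H.eq_of_three hab hca.symm hcb.symm ha hb h g.1.2.1 g.1.2.2 g.2
      · intro g g' h
        have h' : (g.1.1 : G) = g'.1.1 := (Subtype.mk.injEq _ _ _ _).mp h
        exact Subtype.ext (Subtype.ext h')
    exact h3.trans (Set.ncard_insert_le _ _ |>.trans (by rw [Set.ncard_singleton]))
  have h3 : Nat.card (orbit K c) ≤ Nat.card {x : Ω // t • x = x} - 2 := by
    have h4 : orbit K c ⊆ {x : Ω | t • x = x} \ {a, b} := by
      rintro x ⟨⟨g, hg⟩, rfl⟩
      refine ⟨?_, ?_⟩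
      · change t • g • c = g • c
        rw [← mul_smul, ← H.commute hab ha hb hg.1 hg.2, mul_smul, hc]
      · rintro (h | h)
        · apply hca
          have h' : g • c = g • a := Eq.trans h hg.1.symm
          exact smul_left_cancel g h'
        · apply hcb
          have h' : g • c = g • b := Eq.trans h hg.2.symm
          exact smul_left_cancel g h'
    have h5 := Set.ncard_le_ncard h4 (Set.toFinite _)
    rw [Set.ncard_sdiff (by rintro x (rfl | rfl); exacts [ha, hb]) (Set.toFinite _), Set.ncard_pair hab] at h5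
    exact h5
  calc Nat.card K = Nat.card (orbit K c) * Nat.card (stabilizer K c) := h1.symm
    _ ≤ (Nat.card {x : Ω // t • x = x} - 2) * 2 := Nat.mul_le_mul h3 h2
    _ = _ := mul_comm _ _

theorem exists_out [FaithfulSMul G Ω] : ∃ c : Ω, t • c ≠ c := by
  by_contra hcon
  push Not at hcon
  exact H.ne (FaithfulSMul.eq_of_smul_eq_smul (α := Ω) fun x => by rw [hcon x, one_smul])

theorem pairs_le [Finite Ω] [FaithfulSMul G Ω] :
    Nat.card {x : Ω // t • x = x} * (Nat.card {x : Ω // t • x = x} - 1) ≤ Nat.card Ω - 1 := by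
  classical
  obtain ⟨c, hc⟩ := H.exists_out
  have hne : ∀ x : {x : Ω // t • x = x}, c ≠ x.1 := fun x h => hc (by rw [h]; exact x.2)
  choose s hs using fun x : {x : Ω // t • x = x} => H.exists_line' c x.1 (hne x)
  let S : {x : Ω // t • x = x} → Type v := fun x => ↥({y : Ω | s x • y = y} \ {c})
  have hcardS : ∀ x, Nat.card (S x) = Nat.card {x : Ω // t • x = x} - 1 := by
    intro x
    change Nat.card ↥({y : Ω | s x • y = y} \ {c}) = _
    rw [Nat.card_coe_set_eq, Set.ncard_sdiff_singleton_of_mem (by exact (hs x).2.2.1)]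
    have h := (hs x).2.2.2.2
    have h' : ({y : Ω | s x • y = y} : Set Ω).ncard = Nat.card {y : Ω // s x • y = y} := rfl
    rw [h', h]
  let f : (Σ x, S x) → {y : Ω // y ≠ c} := fun p => ⟨p.2.1, p.2.2.2⟩
  have hf : Function.Injective f := by
    rintro ⟨x, ⟨y, hy⟩⟩ ⟨x', ⟨y', hy'⟩⟩ h
    have hyy : y = y' := congrArg Subtype.val h
    subst hyy
    have hyc : c ≠ y := Ne.symm hy.2
    have hl : s x = s x' := (hs x').1.eq_of_line (hs x).1 hyc (hs x').2.2.1 hy'.1 (hs x).2.2.1 hy.1
    have hxx : x = x' := by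
      by_contra hne'
      have hne'' : x.1 ≠ x'.1 := fun h => hne' (Subtype.ext h)
      have h3 : s x = t := H.eq_of_line (hs x).1 hne'' x.2 x'.2 (hs x).2.2.2.1 (by rw [hl]; exact (hs x').2.2.2.1)
      apply hc
      rw [← h3]
      exact (hs x).2.2.1
    subst hxx
    rfl
  have h1 := Nat.card_le_card_of_injective f hf
  have h2 : Nat.card {y : Ω // y ≠ c} = Nat.card Ω - 1 := by
    have h2 : ({y : Ω | y ≠ c} : Set Ω) = ({c} : Set Ω)ᶜ := by
      ext x; simp
    have h3 : Nat.card {y : Ω // y ≠ c} = ({y : Ω | y ≠ c} : Set Ω).ncard := rfl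
    rw [h3, h2, Set.ncard_compl, Set.ncard_singleton]
  have : Fintype {x : Ω // t • x = x} := Fintype.ofFinite _
  have : ∀ x, Fintype (S x) := fun x => Fintype.ofFinite _
  rw [h2, Nat.card_sigma, Finset.sum_congr rfl (fun x _ => hcardS x), Finset.sum_const, smul_eq_mul] at h1
  rw [Nat.card_eq_fintype_card]
  rw [Nat.card_eq_fintype_card] at h1
  exact h1

end UT

end Cfsg.Agent.H57.TTDesign
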