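import Mathlib

/-!
# Numerical elimination for S2213 (helper57)

`n` points, lines of `k` points, `D` = order of the two-point stabiliser, `τ` = order of the simple normal subgroup.
-/

set_option autoImplicit false

namespace Cfsg.Agent.H57.TTNum

/-- the numerical data -/
structure Num (n k D g τ : ℕ) : Prop where
  k3 : 2 < k
  pairs : k * (k - 1) ∣ n * (n - 1)
  pred : k - 1 ∣ n - 1
  le : k * (k - 1) ≤ n - 1
  Dle : D ≤ 2 * (k - 2)
  D2 : 2 ∣ D
  g_eq : g = n * (n - 1) * D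
  g_pos : 0 < g
  dvd : τ ∣ g

variable {n k D g τ : ℕ}

namespace Num

variable (N : Num n k D g τ)
include N

theorem seven_le : 7 ≤ n := by
  have h1 := N.k3
  have h2 := N.le
  obtain ⟨j, rfl⟩ : ∃ j, k = j + 3 := ⟨k - 3, by omega⟩
  have h3 : j + 3 - 1 = j + 2 := by omega
  rw [h3] at h2
  have : 6 ≤ (j + 3) * (j + 2) := by nlinarith
  omega

theorem tau_le : τ ≤ n * (n - 1) * (2 * (k - 2)) := by
  calc τ ≤ g := Nat.le_of_dvd N.g_pos N.dvd
    _ = n * (n - 1) * D := N.g_eq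
    _ ≤ _ := Nat.mul_le_mul_left _ N.Dle

theorem six_mul_le : 6 * (k - 2) ≤ n - 1 := by
  refine le_trans ?_ N.le
  have h1 := N.k3
  obtain ⟨j, rfl⟩ : ∃ j, k = j + 3 := ⟨k - 3, by omega⟩
  have h3 : j + 3 - 1 = j + 2 := by omega
  have h4 : j + 3 - 2 = j + 1 := by omega
  rw [h3, h4]
  rcases j with _ | j
  · norm_num
  · nlinarith [Nat.zero_le (j * j), Nat.zero_le j]

theorem sq_le : (k - 2) * (k - 2) ≤ n := by
  have h1 := N.k3
  have h2 := N.le
  have h7 := N.seven_le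
  obtain ⟨j, rfl⟩ : ∃ j, k = j + 3 := ⟨k - 3, by omega⟩
  have h3 : j + 3 - 1 = j + 2 := by omega
  have h4 : j + 3 - 2 = j + 1 := by omega
  rw [h3] at h2
  rw [h4]
  have : (j + 1) * (j + 1) ≤ (j + 3) * (j + 2) := by nlinarith
  omega

theorem not_alt (h : 2 * τ = n.factorial) : False := by
  have h7 := N.seven_le
  have h1 := N.tau_le
  have h2 := N.six_mul_le
  obtain ⟨m, rfl⟩ : ∃ m, n = m + 5 := ⟨n - 5, by omega⟩
  have h3 : m + 5 - 1 = m + 4 := by omega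
  rw [h3] at h1 h2
  have h4 : (m + 5).factorial = (m + 5) * (m + 4) * ((m + 3) * ((m + 2) * (m + 1).factorial)) := by
    rw [Nat.factorial_succ (m + 4), Nat.factorial_succ (m + 3), Nat.factorial_succ (m + 2),
      Nat.factorial_succ (m + 1)]
    ring
  have h5 : 2 ≤ (m + 1).factorial := by
    have : (2 : ℕ).factorial ≤ (m + 1).factorial := Nat.factorial_le (by omega)
    exact this
  have h6 : (m + 5) * (m + 4) * ((m + 3) * ((m + 2) * (m + 1).factorial)) ≤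
      (m + 5) * (m + 4) * (4 * (k - 2)) := by
    rw [← h4, ← h]
    calc 2 * τ ≤ 2 * ((m + 5) * (m + 4) * (2 * (k - 2))) := Nat.mul_le_mul_left _ h1
      _ = _ := by ring
  have h8 : (m + 3) * ((m + 2) * (m + 1).factorial) ≤ 4 * (k - 2) :=
    Nat.le_of_mul_le_mul_left h6 (by positivity)
  have h9 : (m + 3) * ((m + 2) * 2) ≤ (m + 3) * ((m + 2) * (m + 1).factorial) := by gcongr
  nlinarith

/-- `PSL_d(q)` on the points of the projective space -/
theorem not_psl {q d : ℕ} (hq : 2 ≤ q) (hd : 2 ≤ d) (hn : n * (q - 1) = q ^ d - 1)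
    (hτ : Nat.gcd d (q - 1) * ((q - 1) * τ) = ∏ i : Fin d, (q ^ d - q ^ (i : ℕ))) : False := by
  obtain ⟨e, rfl⟩ : ∃ e, d = e + 2 := ⟨d - 2, by omega⟩
  obtain ⟨r, rfl⟩ : ∃ r, q = r + 2 := ⟨q - 2, by omega⟩
  have hr : r + 2 - 1 = r + 1 := by omega
  rw [hr] at hn hτ
  set q := r + 2 with hqdef
  have h7 := N.seven_le
  have hqd : q ^ (e + 2) = q * q ^ (e + 1) := by rw [pow_succ (n := e + 1)]; ring
  have hpow1 : 1 ≤ q ^ (e + 1) := Nat.one_le_pow _ _ (by omega)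
  have hpow : q ≤ q ^ (e + 2) := by rw [hqd]; exact Nat.le_mul_of_pos_right _ (by omega)
  have hn1 : (n - 1) * (r + 1) = q ^ (e + 2) - q := by
    rw [Nat.sub_mul, hn, one_mul]; omega
  rw [Fin.prod_univ_succ, Fin.prod_univ_succ] at hτ
  simp only [Fin.val_zero, pow_zero, Fin.succ_zero_eq_one, Fin.val_one, pow_one, Fin.val_succ] at hτ
  set P : ℕ := ∏ i : Fin e, (q ^ (e + 2) - q ^ ((i : ℕ) + 1 + 1)) with hP
  rw [← hn1, ← hn] at hτ
  have h1 : Nat.gcd (e + 2) (r + 1) * τ = n * (n - 1) * ((r + 1) * P) := by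
    have : (r + 1) * (Nat.gcd (e + 2) (r + 1) * τ) = (r + 1) * (n * (n - 1) * ((r + 1) * P)) := by
      calc (r + 1) * (Nat.gcd (e + 2) (r + 1) * τ) = Nat.gcd (e + 2) (r + 1) * ((r + 1) * τ) := by ring
        _ = _ := by rw [hτ]; ring
    exact Nat.eq_of_mul_eq_mul_left (by omega) this
  have hg1 : Nat.gcd (e + 2) (r + 1) ≤ r + 1 := Nat.le_of_dvd (by omega) (Nat.gcd_dvd_right _ _)
  have hnn : 0 < n * (n - 1) := Nat.mul_pos (by omega) (by omega)
  rcases e with _ | e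
  · -- d = 2
    have hP1 : P = 1 := by rw [hP]; simp
    have hg2 : Nat.gcd (0 + 2) (r + 1) ≤ 2 := Nat.le_of_dvd (by omega) (Nat.gcd_dvd_left _ _)
    rw [hP1, mul_one] at h1
    have h2 : n * (n - 1) * (r + 1) ≤ n * (n - 1) * (2 * (2 * (k - 2))) := by
      calc n * (n - 1) * (r + 1) = Nat.gcd (0 + 2) (r + 1) * τ := h1.symm
        _ ≤ 2 * (n * (n - 1) * (2 * (k - 2))) := Nat.mul_le_mul hg2 N.tau_le
        _ = _ := by ring
    have h3 : r + 1 ≤ 2 * (2 * (k - 2)) := Nat.le_of_mul_le_mul_left h2 hnn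
    have h4 : n - 1 = q := by
      have : (n - 1) * (r + 1) = q * (r + 1) := by
        rw [hn1, hqdef]
        have : (r + 2) ^ (0 + 2) = (r + 2) * (r + 1) + (r + 2) := by ring
        rw [this]; omega
      exact Nat.eq_of_mul_eq_mul_right (by omega) this
    have h5 := N.le
    have h6 := N.k3
    rw [h4] at h5
    obtain ⟨j, rfl⟩ : ∃ j, k = j + 3 := ⟨k - 3, by omega⟩
    have h8 : j + 3 - 1 = j + 2 := by omega
    have h9 : j + 3 - 2 = j + 1 := by omega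
    rw [h8] at h5
    rw [h9] at h3
    nlinarith
  · -- d ≥ 3
    have h2 : (r + 1) * P ≤ (r + 1) * (2 * (k - 2)) := by
      have h3 : n * (n - 1) * ((r + 1) * P) ≤ n * (n - 1) * ((r + 1) * (2 * (k - 2))) := by
        calc n * (n - 1) * ((r + 1) * P) = Nat.gcd (e + 1 + 2) (r + 1) * τ := h1.symm
          _ ≤ (r + 1) * (n * (n - 1) * (2 * (k - 2))) := Nat.mul_le_mul hg1 N.tau_le
          _ = _ := by ring
      exact Nat.le_of_mul_le_mul_left h3 hnn
    have h3 : P ≤ 2 * (k - 2) := Nat.le_of_mul_le_mul_left h2 (by omega)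
    have h4 : q ^ (e + 2) ≤ P := by
      rw [hP, Fin.prod_univ_castSucc]
      have h5 : 0 < ∏ i : Fin e, (q ^ (e + 1 + 2) - q ^ ((i.castSucc : ℕ) + 1 + 1)) := by
        apply Finset.prod_pos
        intro i _
        apply Nat.sub_pos_of_lt
        apply Nat.pow_lt_pow_right (by omega)
        have := i.2
        simp only [Fin.val_castSucc]
        omega
      have h6 : q ^ (e + 1 + 2) - q ^ (((Fin.last e : Fin (e + 1)) : ℕ) + 1 + 1) = q ^ (e + 2) * (r + 1) := by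
        rw [Fin.val_last]
        have h7 : q ^ (e + 1 + 2) = q ^ (e + 2) * (r + 1) + q ^ (e + 2) := by
          rw [show e + 1 + 2 = (e + 2) + 1 by ring, pow_succ, hqdef]; ring
        have h8 : q ^ (e + 1 + 1) = q ^ (e + 2) := rfl
        rw [h7, h8]; omega
      rw [h6]
      calc q ^ (e + 2) = 1 * (q ^ (e + 2) * 1) := by ring
        _ ≤ _ := Nat.mul_le_mul h5 (Nat.mul_le_mul_left _ (by omega))
    have h5 : (n - 1) < 2 * P := by
      have h6 : (n - 1) * (r + 1) < 2 * P * (r + 1) := by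
        rw [hn1]
        have h7 : q ^ (e + 1 + 2) = q ^ (e + 2) * q := by
          rw [show e + 1 + 2 = (e + 2) + 1 by ring, pow_succ]
        have h8 : q ^ (e + 2) * q ≤ P * q := Nat.mul_le_mul_right _ h4
        have h9 : P * q ≤ 2 * P * (r + 1) := by
          rw [hqdef]; nlinarith [Nat.zero_le (P * r)]
        have h10 : q ≤ q ^ (e + 1 + 2) := hpow
        omega
      exact Nat.lt_of_mul_lt_mul_right h6
    have h6 := N.le
    have h8 := N.k3
    obtain ⟨j, rfl⟩ : ∃ j, k = j + 3 := ⟨k - 3, by omega⟩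
    have h9 : j + 3 - 1 = j + 2 := by omega
    have h10 : j + 3 - 2 = j + 1 := by omega
    rw [h9] at h6
    rw [h10] at h3
    nlinarith

/-- `Sp_{2m}(2)` -/
theorem not_sp {m : ℕ} (hm : 3 ≤ m) (hn : n ≤ 2 ^ (2 * m))
    (hτ : 2 ^ (2 * m ^ 2) ≤ τ) : False := by
  have h1 := N.tau_le
  have h2 := N.sq_le
  have h3 : k - 2 ≤ 2 ^ m := by
    by_contra hcon
    push Not at hcon
    have : 2 ^ m * 2 ^ m < (k - 2) * (k - 2) := Nat.mul_lt_mul'' hcon hcon
    have h4 : 2 ^ m * 2 ^ m = 2 ^ (2 * m) := by rw [← pow_add]; congr 1; ring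
    omega
  have h4 : τ ≤ 2 ^ (2 * m) * 2 ^ (2 * m) * (2 * 2 ^ m) := by
    refine h1.trans ?_
    gcongr
    omega
  have h5 : 2 ^ (2 * m) * 2 ^ (2 * m) * (2 * 2 ^ m) = 2 ^ (5 * m + 1) := by
    rw [← pow_succ', ← pow_add, ← pow_add]; congr 1; ring
  rw [h5] at h4
  have h6 : 2 ^ (5 * m + 1) < 2 ^ (2 * m ^ 2) := Nat.pow_lt_pow_right (by norm_num) (by nlinarith)
  omega

end Num

/-- a number-theoretic lemma on the lines in a rank one group -/
theorem cube_le {p e M x : ℕ} (hp : p.Prime) (hM : M = p ^ e) (hx : x ∣ M) (hx2 : 2 ≤ x)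
    (h1 : (x + 1) * x ∣ (M + 1) * M) (hle : (x + 1) * x ≤ M) : x ^ 3 ≤ M ∧ x + 1 ∣ M + 1 := by
  have hMpos : 0 < M := by rw [hM]; exact pow_pos hp.pos _
  obtain ⟨j, hj, rfl⟩ := (Nat.dvd_prime_pow hp).1 (hM ▸ hx)
  have hj0 : j ≠ 0 := by
    rintro rfl
    simp at hx2
  have hpx : p ∣ p ^ j := dvd_pow_self p hj0
  have hcop : Nat.Coprime (p ^ j + 1) M := by
    rw [hM]
    apply Nat.Coprime.pow_right
    rw [Nat.coprime_comm, hp.coprime_iff_not_dvd]
    intro h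
    have := (Nat.dvd_add_right hpx).1 h
    exact hp.one_lt.ne' (Nat.dvd_one.1 this)
  have h2 : p ^ j + 1 ∣ M + 1 := by
    have h3 : p ^ j + 1 ∣ (M + 1) * M := (Dvd.intro _ rfl).trans h1
    exact hcop.dvd_of_dvd_mul_right h3
  refine ⟨?_, h2⟩
  set x := p ^ j with hxdef
  obtain ⟨y, hy⟩ := hx
  have hypos : 0 < y := by
    rcases Nat.eq_zero_or_pos y with h | h
    · rw [h, mul_zero] at hy; omega
    · exact h
  have hxy : x + 1 ≤ y := by
    rw [hy] at hle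
    have : x * (x + 1) ≤ x * y := by rw [mul_comm x (x + 1)]; exact hle
    exact Nat.le_of_mul_le_mul_left this (by omega)
  -- y is a power of p and bigger than x, so x ∣ y
  have hyd : y ∣ p ^ e := by rw [← hM, hy]; exact Dvd.intro_left _ rfl
  obtain ⟨l, hl, rfl⟩ := (Nat.dvd_prime_pow hp).1 hyd
  have hjl : j ≤ l := by
    by_contra hcon
    push Not at hcon
    have := Nat.pow_lt_pow_right hp.one_lt hcon
    omega
  obtain ⟨z, hz⟩ : x ∣ p ^ l := pow_dvd_pow p hjl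
  rw [hz] at hy
  -- x+1 ∣ x*x*z + 1
  have h3 : x + 1 ∣ z + 1 := by
    rw [hy] at h2
    have h4 : x * (x * z) + 1 + (x + 1) * z = (x + 1) * (x * z) + (z + 1) := by ring
    have h5 : x + 1 ∣ (x + 1) * (x * z) + (z + 1) := by
      rw [← h4]
      exact dvd_add h2 (Dvd.intro _ rfl)
    exact (Nat.dvd_add_right (Dvd.intro _ rfl)).1 h5
  have h4 : x ≤ z := by
    have := Nat.le_of_dvd (by omega) h3
    omega
  rw [hy]
  calc x ^ 3 = x * (x * x) := by ring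
    _ ≤ x * (x * z) := by gcongr

namespace Num

variable (N : Num n k D g τ)
include N

theorem line_prime_pow {p e M : ℕ} (hp : p.Prime) (hM : M = p ^ e) (hn : n = M + 1) :
    (k - 1) ^ 3 ≤ M ∧ k ∣ M + 1 ∧ k - 1 ∣ M := by
  have h1 := N.k3
  have h2 := N.pairs
  have h3 := N.pred
  have h4 := N.le
  subst hn
  rw [Nat.add_sub_cancel] at h2 h3 h4
  obtain ⟨x, rfl⟩ : ∃ x, k = x + 1 := ⟨k - 1, by omega⟩
  rw [Nat.add_sub_cancel] at *
  obtain ⟨h5, h6⟩ := cube_le hp hM h3 (by omega) h2 h4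
  exact ⟨h5, h6, h3⟩

theorem not_sz {m : ℕ} (hn : n = (2 ^ (2 * m + 1)) ^ 2 + 1)
    (hτ : τ = (2 ^ (2 * m + 1)) ^ 2 * (2 ^ (2 * m + 1) - 1) * ((2 ^ (2 * m + 1)) ^ 2 + 1)) : False := by
  obtain ⟨h1, h2, h3⟩ := N.line_prime_pow Nat.prime_two (e := (2 * m + 1) * 2) (M := (2 ^ (2 * m + 1)) ^ 2)
    (by rw [← pow_mul]) hn
  have h4 := N.tau_le
  have h5 := N.k3
  have hq0 : 2 ≤ 2 ^ (2 * m + 1) := by
    calc 2 = 2 ^ 1 := rfl
      _ ≤ _ := Nat.pow_le_pow_right (by norm_num) (by omega)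
  have hmod : (2 ^ (2 * m + 1)) ^ 2 % 3 = 1 := by
    rw [← pow_mul, mul_comm, pow_mul, Nat.pow_mod]; norm_num
  set q := 2 ^ (2 * m + 1) with hq
  rw [hn, hτ, Nat.add_sub_cancel] at h4
  have h6 : q - 1 ≤ 2 * (k - 2) := by
    have h7 : (q ^ 2 + 1) * q ^ 2 * (q - 1) ≤ (q ^ 2 + 1) * q ^ 2 * (2 * (k - 2)) := by
      calc (q ^ 2 + 1) * q ^ 2 * (q - 1) = q ^ 2 * (q - 1) * (q ^ 2 + 1) := by ring
        _ ≤ _ := h4
    exact Nat.le_of_mul_le_mul_left h7 (by positivity)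
  obtain ⟨x, rfl⟩ : ∃ x, k = x + 2 := ⟨k - 2, by omega⟩
  have h8 : x + 2 - 1 = x + 1 := by omega
  have h9 : x + 2 - 2 = x := by omega
  rw [h8] at h1
  rw [h9] at h6
  have h10 : q ≤ 2 * x + 1 := by omega
  have h11 : (x + 1) ^ 3 ≤ (2 * x + 1) ^ 2 := h1.trans (Nat.pow_le_pow_left h10 2)
  have h12 : x ≤ 1 := by
    by_contra hcon
    push Not at hcon
    obtain ⟨y, rfl⟩ : ∃ y, x = y + 2 := ⟨x - 2, by omega⟩
    nlinarith [Nat.zero_le (y ^ 3), Nat.zero_le (y ^ 2)]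
  have hx1 : x = 1 := by omega
  subst hx1
  omega

theorem psu_five {q p e : ℕ} (hp : p.Prime) (hqp : q = p ^ e) (hq : 3 ≤ q) (hn : n = q ^ 3 + 1)
    (hτ : Nat.gcd 3 (q + 1) * τ = q ^ 3 * ((q ^ 3 + 1) * (q ^ 2 - 1))) : q = 5 ∧ g = τ := by
  obtain ⟨h1, h2, h3⟩ := N.line_prime_pow hp (e := e * 3) (M := q ^ 3) (by rw [hqp, ← pow_mul]) hn
  have h4 := N.tau_le
  have h5 := N.k3
  have h6 : k - 1 ≤ q := le_of_pow_le_pow_left₀ (by norm_num) (by omega) h1
  have hg3 : Nat.gcd 3 (q + 1) ∣ 3 := Nat.gcd_dvd_left _ _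
  obtain ⟨c, hc⟩ : ∃ c, q ^ 2 = c + 1 := ⟨q ^ 2 - 1, by
    have : 1 ≤ q ^ 2 := Nat.one_le_pow _ _ (by omega)
    omega⟩
  have hkey : ∀ γ, γ = Nat.gcd 3 (q + 1) → q ^ 2 - 1 ≤ γ * (2 * (k - 2)) := by
    rintro γ rfl
    have h7 : (q ^ 3 + 1) * q ^ 3 * (q ^ 2 - 1) ≤ (q ^ 3 + 1) * q ^ 3 * (Nat.gcd 3 (q + 1) * (2 * (k - 2))) := by
      calc (q ^ 3 + 1) * q ^ 3 * (q ^ 2 - 1) = q ^ 3 * ((q ^ 3 + 1) * (q ^ 2 - 1)) := by ring
        _ = Nat.gcd 3 (q + 1) * τ := hτ.symm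
        _ ≤ Nat.gcd 3 (q + 1) * (n * (n - 1) * (2 * (k - 2))) := Nat.mul_le_mul_left _ h4
        _ = _ := by rw [hn, Nat.add_sub_cancel]; ring
    exact Nat.le_of_mul_le_mul_left h7 (by positivity)
  have h8 := hkey _ rfl
  have hgc : Nat.gcd 3 (q + 1) = 1 ∨ Nat.gcd 3 (q + 1) = 3 := (Nat.dvd_prime Nat.prime_three).1 hg3
  have hq5 : q ≤ 5 := by
    by_contra hcon
    push Not at hcon
    obtain ⟨s, rfl⟩ : ∃ s, q = s + 6 := ⟨q - 6, by omega⟩
    have h9 : (s + 6) ^ 2 - 1 = s ^ 2 + 12 * s + 35 := by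
      have : (s + 6) ^ 2 = s ^ 2 + 12 * s + 35 + 1 := by ring
      omega
    rw [h9] at h8
    have h10 : k - 2 ≤ s + 5 := by omega
    rcases hgc with h | h
    · rw [h] at h8; nlinarith
    · rw [h] at h8
      nlinarith
  have h10 : k - 2 ≤ q - 1 := by omega
  have hq5' : q = 5 := by
    interval_cases q
    · exfalso
      norm_num at h8 hgc
      omega
    · exfalso
      norm_num at h8 hgc
      omega
    · rfl
  subst hq5'
  refine ⟨rfl, ?_⟩
  norm_num at hτ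
  have h11 : τ = 126000 := by omega
  have h12 := Nat.le_of_dvd N.g_pos N.dvd
  have h13 := N.g_eq
  have h14 := N.Dle
  rw [hn] at h13
  norm_num at h13
  omega

theorem ree {q e : ℕ} (hqp : q = 3 ^ e) (hn : n = q ^ 3 + 1)
    (hτ : τ = q ^ 3 * (q - 1) * (q ^ 3 + 1)) : g ∣ 2 * τ ∨ g = τ := by
  obtain ⟨h1, h2, h3⟩ := N.line_prime_pow Nat.prime_three (e := e * 3) (M := q ^ 3) (by rw [hqp, ← pow_mul]) hn
  have h5 := N.k3
  have h6 : k - 1 ≤ q := le_of_pow_le_pow_left₀ (by norm_num) (by omega) h1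
  have h7 := N.Dle
  have h8 := N.g_eq
  have hgpos := N.g_pos
  obtain ⟨c, hc⟩ := N.dvd
  rw [hn, Nat.add_sub_cancel] at h8
  have hq2 : 2 ≤ q := by omega
  have hDc : D = (q - 1) * c := by
    have : (q ^ 3 + 1) * q ^ 3 * D = (q ^ 3 + 1) * q ^ 3 * ((q - 1) * c) := by
      rw [← h8, hc, hτ]; ring
    exact Nat.eq_of_mul_eq_mul_left (Nat.mul_pos (Nat.succ_pos _) (pow_pos (by omega) _)) this
  have hc2 : c ≤ 2 := by
    by_contra hcon
    push Not at hcon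
    have : (q - 1) * 3 ≤ (q - 1) * c := Nat.mul_le_mul_left _ hcon
    omega
  have hc0 : c ≠ 0 := by
    rintro rfl
    rw [mul_zero] at hc
    omega
  have : c = 1 ∨ c = 2 := by omega
  rcases this with rfl | rfl
  · right; omega
  · left; rw [hc]; exact ⟨1, by ring⟩

theorem small (h : n ∈ ({6, 8, 11, 12, 15, 22, 23, 24, 28, 176, 276} : Set ℕ)) :
    (n = 15 ∧ τ ≤ 420) ∨ (n = 28 ∧ k = 4 ∧ (D = 2 ∨ D = 4)) ∨ (n = 176 ∧ τ ≤ 369600) ∨
      (n = 276 ∧ τ ≤ 75900 * 30) := by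
  have h1 := N.k3
  have h2 := N.le
  have h3 := N.pred
  have h4 := N.pairs
  have h5 := N.tau_le
  have h6 := N.Dle
  have h7 := N.D2
  have h8 := N.g_eq
  have h9 := N.g_pos
  have hk : k ≤ 17 := by
    by_contra hcon
    push Not at hcon
    have h10 : 18 * 17 ≤ k * (k - 1) := Nat.mul_le_mul (by omega) (by omega)
    simp only [Set.mem_insert_iff, Set.mem_singleton_iff] at h
    omega
  simp only [Set.mem_insert_iff, Set.mem_singleton_iff] at h
  rcases h with rfl | rfl | rfl | rfl | rfl | rfl | rfl | rfl | rfl | rfl | rfl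
  all_goals
    interval_cases k <;> simp_all <;> omega

end Num

end Cfsg.Agent.H57.TTNum
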