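import Cfsg.Agent.KFacts.RgdLieCharP
import Cfsg.Agent.H410.ParRGD
import Cfsg.Agent.Nodes.RGDClass
import Cfsg.Agent.H384.TwoTransRed

/-!
# Proper overgroups of Sylow `p`-subgroups in simple groups of Lie type (helper57)

* `over_sylow` : `Y` simple with `HasRGD p Y`, `H < Y` of index prime to `p`: `H` normalises a `p`-subgroup `V ≠ 1` with
  `C_Y(V) ≤ V`;
* `AS.over_sylow` : the same for the point stabilisers of 2-transitive groups of degree prime to `p`.
-/

set_option autoImplicit false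
set_option linter.unusedSectionVars false

namespace Cfsg.Agent.H57.TTPar

open CoxeterSystem Cfsg.Agent.ChevalleyStructure.CoxeterGeom Cfsg.Agent.Tits.Roots Cfsg.Agent.Tits.Core
  Cfsg.Agent.Tits.Exchange Cfsg.Agent.Nodes.Comb Cfsg.Agent.Nodes.Reps Cfsg.Agent.Nodes.BNOf Cfsg.Agent.Nodes.Bruhat
  Cfsg.Agent.Nodes.StabComb Cfsg.Agent.Nodes.RGDLib Cfsg.Agent.H410.TwoTransRGD Cfsg.Agent.Nodes.LeviDec
  Cfsg.Agent.KFacts.RgdVJ

section rgd

variable {I W Y : Type*} [Fintype I] [DecidableEq I] [Group W] [Group Y] {M : CoxeterMatrix I}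
  {cs : CoxeterSystem M W} {A : I → I → ℤ} {h : IsCartan M A} {p : ℕ} {T : Subgroup Y} {n : I → Y}
  {X : (I → ℤ) → Subgroup Y}

/-- a proper subgroup containing the positive root groups normalises a unipotent radical -/
theorem of_rgd [Finite W] [IsSimpleGroup Y] (R : RGD cs h p T n X) (hG : RGD.Sup X {x | IsRoot cs h x} = ⊤)
    (hc : Subgroup.center Y = ⊥) {H : Subgroup Y} (hU : RGD.Sup X (RGD.Pos cs h) ≤ H) (hH : H ≠ ⊤) :
    ∃ V : Subgroup Y, V ≤ H ∧ V ≠ ⊥ ∧ IsPGroup p V ∧ (∀ g ∈ H, ∀ v ∈ V, g * v * g⁻¹ ∈ V) ∧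
      Subgroup.centralizer (V : Set Y) ≤ V := by
  obtain ⟨s, hs⟩ := exists_not_mem R hG hU hH
  set J := JH X H with hJ
  refine ⟨VJ cs h X J, (VJ_le_U J).trans hU, ?_, ?_, ?_, ?_⟩
  · intro hV
    have h1 : X (sr s) ≤ VJ cs h X J := by
      refine RGD.le_Sup ⟨isRoot_sr cs h s, ?_, s, hs, ?_⟩
      · intro k
        by_cases hk : k = s
        · subst hk; rw [sr_self]; norm_num
        · rw [sr_ne hk]; rfl
      · rw [sr_self]; norm_num
    rw [hV, le_bot_iff] at h1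
    exact X_ne_bot R (isRoot_sr cs h s) h1
  · exact R.isPGroup_of_pos (S := NotJ cs h J) fun _ hx => ⟨hx.1, hx.2.1⟩
  · intro g hg v hv
    obtain ⟨w, hw⟩ := Cfsg.Agent.H410.ParRGD.exists_cell R hG g
    have h1 := cell_mem R hU hw hg
    have h2 : g ∈ PJ cs h T X J := (mem_PJ_iff_cell R).2 ⟨w, h1, hw⟩
    exact (Subgroup.mem_normalizer_iff.1 (PJ_le_normalizer_VJ R J h2) v).1 hv
  · have hJu : J ≠ Set.univ := fun h => hs (h ▸ Set.mem_univ s)
    have h1 := cent_VJ_le R (Cfsg.Agent.KFacts.RgdLieCharP.noCent_of_center hG hc) (conn_of_simple R hG hc) hJu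
    rwa [GG_eq_top_of_gen R hG, inf_top_eq] at h1

end rgd

open MulAction

/-- a proper subgroup of index prime to `p` in a simple group with a root group datum of characteristic `p` -/
theorem over_sylow {Y : Type*} [Group Y] [Finite Y] [IsSimpleGroup Y] (hna : ¬ IsMulCommutative Y) {p : ℕ}
    [Fact p.Prime] (hR : Cfsg.Agent.Nodes.RGDChev.HasRGD p Y) {H : Subgroup Y} (hH : H ≠ ⊤)
    (hp : ¬ p ∣ H.index) : ∃ V : Subgroup Y, V ≤ H ∧ V ≠ ⊥ ∧ IsPGroup p V ∧
      (∀ g ∈ H, ∀ v ∈ V, g * v * g⁻¹ ∈ V) ∧ Subgroup.centralizer (V : Set Y) ≤ V := by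
  have hc : Subgroup.center Y = ⊥ := by
    rcases (inferInstance : (Subgroup.center Y).Normal).eq_bot_or_eq_top with h | h
    · exact h
    · exfalso
      apply hna
      refine ⟨⟨fun a b => ?_⟩⟩
      have h1 : a ∈ Subgroup.center Y := by rw [h]; exact Subgroup.mem_top a
      exact ((Subgroup.mem_center_iff.1 h1) b).symm
  obtain ⟨l, M, A, h, T, n, X, hW, R, hX⟩ := hR
  have : Finite (Y ⧸ H) := inferInstance
  obtain ⟨x, hx⟩ := IsPGroup.nonempty_fixed_point_of_prime_not_dvd_card (R.isPGroup_Upos) (Y ⧸ H) hp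
  obtain ⟨g, rfl⟩ := QuotientGroup.mk_surjective x
  -- `U ≤ g H g⁻¹`
  set H' := H.map (MulAut.conj g).toMonoidHom with hH'
  have mem' : ∀ y, y ∈ H' ↔ g⁻¹ * y * g ∈ H := by
    intro y
    constructor
    · rintro ⟨z, hz, rfl⟩
      have : g⁻¹ * (MulAut.conj g).toMonoidHom z * g = z := by
        change g⁻¹ * (g * z * g⁻¹) * g = z
        group
      rw [this]; exact hz
    · intro hy
      refine ⟨_, hy, ?_⟩
      change g * (g⁻¹ * y * g) * g⁻¹ = y
      group
  have hU : RGD.Sup X (RGD.Pos M.toCoxeterSystem h) ≤ H' := by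
    intro u hu
    rw [mem']
    have h1 : (QuotientGroup.mk (u * g) : Y ⧸ H) = QuotientGroup.mk g := hx ⟨u, hu⟩
    rw [QuotientGroup.eq] at h1
    have h2 := H.inv_mem h1
    have h3 : ((u * g)⁻¹ * g)⁻¹ = g⁻¹ * u * g := by group
    rwa [h3] at h2
  have hH'top : H' ≠ ⊤ := by
    intro htop
    apply hH
    rw [eq_top_iff]
    intro y _
    have h1 : g * y * g⁻¹ ∈ H' := by rw [htop]; exact Subgroup.mem_top _
    rw [mem'] at h1
    have h2 : g⁻¹ * (g * y * g⁻¹) * g = y := by group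
    rwa [h2] at h1
  obtain ⟨V, hVH, hV1, hVp, hVn, hVc⟩ := of_rgd R hX hc hU hH'top
  have memV : ∀ y, y ∈ V.map (MulAut.conj g⁻¹).toMonoidHom ↔ g * y * g⁻¹ ∈ V := by
    intro y
    constructor
    · rintro ⟨z, hz, rfl⟩
      have : g * (MulAut.conj g⁻¹).toMonoidHom z * g⁻¹ = z := by
        change g * (g⁻¹ * z * g⁻¹⁻¹) * g⁻¹ = z
        group
      rw [this]; exact hz
    · intro hy
      refine ⟨_, hy, ?_⟩
      change g⁻¹ * (g * y * g⁻¹) * g⁻¹⁻¹ = y
      group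
  refine ⟨V.map (MulAut.conj g⁻¹).toMonoidHom, ?_, ?_, ?_, ?_, ?_⟩
  · intro y hy
    have h1 := hVH ((memV y).1 hy)
    rw [mem'] at h1
    have h2 : g⁻¹ * (g * y * g⁻¹) * g = y := by group
    rwa [h2] at h1
  · intro hbot
    apply hV1
    rw [eq_bot_iff]
    intro v hv
    have h1 : g⁻¹ * v * g ∈ V.map (MulAut.conj g⁻¹).toMonoidHom := by
      rw [memV]
      have : g * (g⁻¹ * v * g) * g⁻¹ = v := by group
      rwa [this]
    rw [hbot, Subgroup.mem_bot] at h1
    rw [Subgroup.mem_bot]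
    calc v = g * (g⁻¹ * v * g) * g⁻¹ := by group
      _ = 1 := by rw [h1]; group
  · exact hVp.map _
  · intro y hy v hv
    rw [memV] at hv ⊢
    have h1 : g * y * g⁻¹ ∈ H' := by
      rw [mem']
      have h2 : g⁻¹ * (g * y * g⁻¹) * g = y := by group
      rwa [h2]
    have h3 := hVn _ h1 _ hv
    have h4 : g * y * g⁻¹ * (g * v * g⁻¹) * (g * y * g⁻¹)⁻¹ = g * (y * v * y⁻¹) * g⁻¹ := by group
    rwa [h4] at h3
  · intro y hy
    rw [memV]
    apply hVc
    rw [Subgroup.mem_centralizer_iff]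
    intro v hv
    have h1 : g⁻¹ * v * g ∈ V.map (MulAut.conj g⁻¹).toMonoidHom := by
      rw [memV]
      have : g * (g⁻¹ * v * g) * g⁻¹ = v := by group
      rwa [this]
    have h2 := (Subgroup.mem_centralizer_iff.1 hy) _ h1
    calc v * (g * y * g⁻¹) = g * ((g⁻¹ * v * g) * y) * g⁻¹ := by group
      _ = g * (y * (g⁻¹ * v * g)) * g⁻¹ := by rw [h2]
      _ = g * y * g⁻¹ * v := by group

open Cfsg.Agent.H384.TwoTrans

universe u v

/-- the point stabilisers of the 2-transitive groups of degree prime to the characteristic -/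
theorem AS.over_sylow {G : Type u} {Ω : Type v} [Group G] [MulAction G Ω] {T : Subgroup G} (A : AS G Ω T) {p : ℕ}
    (hp : p.Prime) (hR : Cfsg.Agent.Nodes.RGDChev.HasRGD p T) (hn : ¬ p ∣ Nat.card Ω) (a : Ω) :
    ∃ V : Subgroup T, V ≤ stabilizer T a ∧ V ≠ ⊥ ∧ IsPGroup p V ∧
      (∀ g ∈ stabilizer T a, ∀ v ∈ V, g * v * g⁻¹ ∈ V) ∧ Subgroup.centralizer (V : Set T) ≤ V := by
  have := A.finT
  have := A.simple
  have := Fact.mk hp
  refine TTPar.over_sylow A.nonab hR ?_ (by rw [A.index_stabilizer a]; exact hn)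
  intro htop
  have h1 := A.index_stabilizer a
  rw [htop, Subgroup.index_top] at h1
  have := A.five_le
  omega

end Cfsg.Agent.H57.TTPar
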