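import Cfsg.Agent.H57.TTBendNum
import Cfsg.Agent.H57.TTFour
import Cfsg.Agent.H347.Aff.Crit

/-!
# Normal subgroups `PSL₂(2^m)`, `Sz(2^m)`, `PSU₃(2^m)` of point stabilisers (helper57)
-/

set_option autoImplicit false

namespace Cfsg.Agent.H57.TTPtN

open MulAction Cfsg.Agent.H384.TwoTrans Cfsg.Agent.Schreier.Basic Cfsg.Agent.H57.TTBend Cfsg.Agent.H347.Aff
open scoped commutatorElement

universe u v

variable {G : Type u} {Ω : Type v} [Group G] [MulAction G Ω] {T : Subgroup G}

structure PN (G : Type u) (Ω : Type v) [Group G] [MulAction G Ω] (T : Subgroup G) (a : Ω) (N : Subgroup G) : Prop where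
  A : AS G Ω T
  sch : Sch ↥T
  le : N ≤ stabilizer G a
  normal : ∀ g ∈ stabilizer G a, ∀ n ∈ N, g * n * g⁻¹ ∈ N
  bn : BN N

variable {a : Ω} {N : Subgroup G}

theorem PN.finN (P : PN G Ω T a N) : Finite N := by
  have := P.A.finG
  infer_instance

theorem PN.perfect (P : PN G Ω T a N) : ⁅N, N⁆ = N := by
  have := P.finN
  have h := P.bn.perfect
  have h1 := congrArg (Subgroup.map N.subtype) h
  rwa [Subgroup.map_commutator, ← MonoidHom.range_eq_map, Subgroup.range_subtype] at h1

theorem PN.le_T (P : PN G Ω T a N) : N ≤ T := le_T_of_perfect P.A P.sch P.perfect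

theorem PN.ne_bot (P : PN G Ω T a N) : N ≠ ⊥ := by
  have := P.bn.simple
  intro h
  have h1 : Nontrivial N := inferInstance
  rw [h] at h1
  exact not_nontrivial _ h1

/-- a normal subgroup of `G_a` meets `N` trivially or contains it -/
theorem PN.inf_or (P : PN G Ω T a N) {M : Subgroup G} (hM : ∀ g ∈ N, ∀ m ∈ M, g * m * g⁻¹ ∈ M) :
    N ⊓ M = ⊥ ∨ N ≤ M := by
  have := P.bn.simple
  have hn : (M.subgroupOf N).Normal := by
    refine ⟨fun m hm g => ?_⟩
    rw [Subgroup.mem_subgroupOf] at hm ⊢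
    exact hM g g.2 m hm
  rcases hn.eq_bot_or_eq_top with h | h
  · left
    rw [eq_bot_iff]
    intro x hx
    have h1 : (⟨x, hx.1⟩ : N) ∈ M.subgroupOf N := hx.2
    rw [h, Subgroup.mem_bot] at h1
    rw [Subgroup.mem_bot]
    exact congrArg Subtype.val h1
  · right
    rwa [Subgroup.subgroupOf_eq_top] at h

theorem PN.minNA (P : PN G Ω T a N) : MinNA (N.subgroupOf (stabilizer G a)) := by
  have := P.finN
  refine ⟨⟨fun n hn g => ?_⟩, ?_, fun M hM hMN => ?_, fun h => ?_⟩
  · rw [Subgroup.mem_subgroupOf] at hn ⊢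
    exact P.normal g g.2 n hn
  · intro h
    apply P.ne_bot
    rw [eq_bot_iff]
    intro n hn
    have h1 : (⟨n, P.le hn⟩ : stabilizer G a) ∈ N.subgroupOf (stabilizer G a) := hn
    rw [h, Subgroup.mem_bot] at h1
    rw [Subgroup.mem_bot]
    exact congrArg Subtype.val h1
  · have h1 : ∀ g ∈ N, ∀ m ∈ M.map (stabilizer G a).subtype, g * m * g⁻¹ ∈ M.map (stabilizer G a).subtype := by
      rintro g hg _ ⟨m, hm, rfl⟩
      exact ⟨_, hM.conj_mem m hm ⟨g, P.le hg⟩, rfl⟩
    rcases P.inf_or h1 with h2 | h2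
    · left
      rw [eq_bot_iff]
      intro m hm
      have h3 : (m : G) ∈ N ⊓ M.map (stabilizer G a).subtype := ⟨hMN hm, m, hm, rfl⟩
      rw [h2, Subgroup.mem_bot] at h3
      rw [Subgroup.mem_bot]
      exact Subtype.ext h3
    · right
      apply le_antisymm hMN
      intro n hn
      obtain ⟨m, hm, hmn⟩ := h2 hn
      have : m = n := Subtype.ext hmn
      rwa [← this]
  · apply P.bn.nonab
    refine ⟨⟨fun x y => Subtype.ext ?_⟩⟩
    have h1 := h ⟨x, P.le x.2⟩ x.2 ⟨y, P.le y.2⟩ y.2
    have h2 : (x : G) * (y : G) = (y : G) * (x : G) := congrArg Subtype.val h1.eq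
    exact h2

theorem PN.card_subgroupOf (P : PN G Ω T a N) : Nat.card (N.subgroupOf (stabilizer G a)) = Nat.card N :=
  Nat.card_congr (Subgroup.subgroupOfEquivOfLe P.le).toEquiv

theorem card_orbit_dvd_card {X H : Type*} [Group H] [Finite H] [MulAction H X] (x : X) :
    Nat.card (orbit H x) ∣ Nat.card H := by
  rw [Nat.card_coe_set_eq, ← MulAction.index_stabilizer]
  exact Subgroup.index_dvd_card _

theorem PN.exists_orbit (P : PN G Ω T a N) :
    ∃ l, 5 ≤ l ∧ l ∣ Nat.card Ω - 1 ∧ l ∣ Nat.card N := by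
  have := P.A.finG
  have hM := P.minNA
  have := hM.normal
  obtain ⟨b, hb⟩ := P.A.two_ne a
  refine ⟨_, five_le_orbit P.A hb hM, card_orbit_dvd_normal P.A hb _, ?_⟩
  rw [← P.card_subgroupOf]
  exact card_orbit_dvd_card b

theorem PN.card_dvd (P : PN G Ω T a N) : Nat.card N ∣ Nat.card (stabilizer T a) := by
  have := P.A.finT
  have hM := P.minNA
  obtain ⟨f, hf, -⟩ := exists_hom_stabilizer (hM.map_le P.A P.sch)
  rw [← P.card_subgroupOf]
  exact Subgroup.card_dvd_of_injective f hf

/-- the centraliser of `N` in `T_a` -/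
theorem PN.cent (P : PN G Ω T a N) : ∃ K : Subgroup (stabilizer G a), K.Normal ∧
    (∀ k ∈ K, (k : G) ∈ T) ∧ (∀ k ∈ K, ∀ n ∈ N, (k : G) * n = n * k) ∧
    Nat.card (stabilizer T a) ∣ Nat.card K * Nat.card (MulAut N) ∧
    Nat.card N * Nat.card K ∣ Nat.card (stabilizer T a) := by
  have := P.A.finG
  have := P.A.finT
  have := P.finN
  have := P.A.normal
  have hs := P.bn.simple
  -- the action of `T_a` on `N`
  let f : stabilizer T a →* MulAut N :=
    { toFun := fun t =>
        { toFun := fun n => ⟨((t : T) : G) * n * ((t : T) : G)⁻¹, P.normal _ t.2 n n.2⟩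
          invFun := fun n => ⟨((t : T) : G)⁻¹ * n * ((t : T) : G), by
            have h1 : (((t : T) : G))⁻¹ ∈ stabilizer G a := inv_mem (show ((t : T) : G) ∈ stabilizer G a from t.2)
            have h2 := P.normal _ h1 n n.2
            rwa [inv_inv] at h2⟩
          left_inv := fun n => Subtype.ext (by
            change ((t : T) : G)⁻¹ * (((t : T) : G) * n * ((t : T) : G)⁻¹) * ((t : T) : G) = n
            group)
          right_inv := fun n => Subtype.ext (by
            change ((t : T) : G) * (((t : T) : G)⁻¹ * n * ((t : T) : G)) * ((t : T) : G)⁻¹ = n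
            group)
          map_mul' := fun m n => Subtype.ext (by
            change ((t : T) : G) * (m * n) * ((t : T) : G)⁻¹ =
              ((t : T) : G) * m * ((t : T) : G)⁻¹ * (((t : T) : G) * n * ((t : T) : G)⁻¹)
            group) }
      map_one' := by
        ext n
        change (1 : G) * n * (1 : G)⁻¹ = n
        group
      map_mul' := fun s t => by
        ext n
        change (((s : T) : G) * ((t : T) : G)) * n * (((s : T) : G) * ((t : T) : G))⁻¹ =
          ((s : T) : G) * (((t : T) : G) * n * ((t : T) : G)⁻¹) * ((s : T) : G)⁻¹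
        group }
  have hf : ∀ (t : stabilizer T a) (n : N), ((f t n : N) : G) = ((t : T) : G) * n * ((t : T) : G)⁻¹ := fun _ _ => rfl
  let j : stabilizer T a →* stabilizer G a :=
    { toFun := fun t => ⟨((t : T) : G), t.2⟩
      map_one' := rfl
      map_mul' := fun _ _ => rfl }
  have hj : Function.Injective j := fun s t h =>
    Subtype.ext (Subtype.ext (congrArg (fun z : stabilizer G a => (z : G)) h))
  have mem : ∀ k : stabilizer G a, k ∈ f.ker.map j ↔ (k : G) ∈ T ∧ ∀ n ∈ N, (k : G) * n = n * k := by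
    intro k
    constructor
    · rintro ⟨t, ht, rfl⟩
      refine ⟨(t : T).2, fun n hn => ?_⟩
      have h1 := hf t ⟨n, hn⟩
      rw [MonoidHom.mem_ker.1 ht] at h1
      have h2 : n = ((t : T) : G) * n * ((t : T) : G)⁻¹ := h1
      have h3 : n * ((t : T) : G) = ((t : T) : G) * n := by
        conv_lhs => rw [h2]
        group
      exact h3.symm
    · rintro ⟨hk, hc⟩
      refine ⟨⟨⟨(k : G), hk⟩, k.2⟩, ?_, rfl⟩
      change _ = _
      ext n
      rw [hf]
      change (k : G) * n * (k : G)⁻¹ = n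
      rw [hc n n.2, mul_inv_cancel_right]
  have hcard : Nat.card (f.ker.map j) = Nat.card f.ker :=
    (Nat.card_congr (f.ker.equivMapOfInjective j hj).toEquiv).symm
  refine ⟨f.ker.map j, ⟨fun k hk g => ?_⟩, fun k hk => ((mem k).1 hk).1, fun k hk => ((mem k).1 hk).2, ?_, ?_⟩
  · rw [mem] at hk ⊢
    refine ⟨P.A.normal.conj_mem _ hk.1 _, fun n hn => ?_⟩
    have h1 : (g : G)⁻¹ * n * g ∈ N := by
      have := P.normal _ (inv_mem g.2) n hn
      rwa [inv_inv] at this
    have h2 := hk.2 _ h1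
    change (g : G) * k * (g : G)⁻¹ * n = n * ((g : G) * k * (g : G)⁻¹)
    calc (g : G) * k * (g : G)⁻¹ * n = g * (k * ((g : G)⁻¹ * n * g)) * (g : G)⁻¹ := by group
      _ = g * (((g : G)⁻¹ * n * g) * k) * (g : G)⁻¹ := by rw [h2]
      _ = _ := by group
  · rw [hcard]
    have h1 := Subgroup.card_mul_index f.ker
    rw [← h1, Subgroup.index_ker]
    exact Nat.mul_dvd_mul_left _ (Subgroup.card_subgroup_dvd_card _)
  · rw [hcard]
    have hNT := P.le_T
    let i : N →* stabilizer T a :=
      { toFun := fun n => ⟨⟨n, hNT n.2⟩, P.le n.2⟩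
        map_one' := rfl
        map_mul' := fun _ _ => rfl }
    have hi : Function.Injective i := fun s t h => Subtype.ext (congrArg (fun z : stabilizer T a => ((z : T) : G)) h)
    have hcomm : ∀ (n : N) (k : f.ker), Commute (i n) (f.ker.subtype k) := by
      intro n k
      have h1 := ((mem (j k)).1 ⟨k, k.2, rfl⟩).2 n n.2
      apply Subtype.ext
      apply Subtype.ext
      exact h1.symm
    let φ : N × f.ker →* stabilizer T a := MonoidHom.noncommCoprod i f.ker.subtype hcomm
    have hφ : Function.Injective φ := by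
      refine (MonoidHom.noncommCoprod_injective i f.ker.subtype hcomm).2 ⟨hi, f.ker.subtype_injective, ?_⟩
      rw [Subgroup.range_subtype, Subgroup.disjoint_def]
      rintro _ ⟨n, rfl⟩ hn
      have h1 := ((mem (j (i n))).1 ⟨i n, hn, rfl⟩).2
      have h2 : n ∈ Subgroup.center N := by
        rw [Subgroup.mem_center_iff]
        intro m
        exact Subtype.ext (h1 m m.2).symm
      rcases (inferInstance : (Subgroup.center N).Normal).eq_bot_or_eq_top with h3 | h3
      · rw [h3, Subgroup.mem_bot] at h2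
        rw [h2, map_one]
      · exfalso
        apply P.bn.nonab
        refine ⟨⟨fun x y => ?_⟩⟩
        have h4 : x ∈ Subgroup.center N := by rw [h3]; exact Subgroup.mem_top x
        exact (Subgroup.mem_center_iff.1 h4 y).symm
    have h1 := Subgroup.card_dvd_of_injective φ hφ
    rwa [Nat.card_prod] at h1

/-- the orbits of a normal subgroup of `G_a` -/
theorem eq_bot_of_orbits (A : AS G Ω T) {K : Subgroup (stabilizer G a)} (hK : K.Normal)
    (h : ∀ l, l ∣ Nat.card Ω - 1 → l ∣ Nat.card K → l = 1) : K = ⊥ := by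
  have := A.finG
  have := A.faithful
  rw [Subgroup.eq_bot_iff_forall]
  intro k hk
  apply Subtype.ext
  apply FaithfulSMul.eq_of_smul_eq_smul (α := Ω)
  intro c
  change (k : G) • c = (1 : G) • c
  rw [one_smul]
  by_cases hc : c = a
  · rw [hc]
    exact k.2
  · have h2 : Nat.card (orbit K c) = 1 := h _ (card_orbit_dvd_normal A hc K) (card_orbit_dvd_card c)
    have h3 : Subsingleton (orbit K c) := (Nat.card_eq_one_iff_unique.1 h2).1
    have h4 : (⟨(⟨k, hk⟩ : K) • c, mem_orbit c _⟩ : orbit K c) = ⟨c, mem_orbit_self c⟩ := Subsingleton.elim _ _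
    exact congrArg Subtype.val h4

theorem sq_eq_one_of_orbits (A : AS G Ω T) {K : Subgroup (stabilizer G a)} (hK : K.Normal)
    (h : ∀ l, l ∣ Nat.card Ω - 1 → l ∣ Nat.card K → l ≤ 2) {k : stabilizer G a} (hk : k ∈ K) : k * k = 1 := by
  have := A.finG
  have := A.faithful
  apply Subtype.ext
  apply FaithfulSMul.eq_of_smul_eq_smul (α := Ω)
  intro c
  change ((k : G) * (k : G)) • c = (1 : G) • c
  rw [one_smul, mul_smul]
  by_cases hc : c = a
  · have h1 : (k : G) • a = a := k.2
    rw [hc, h1, h1]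
  · have h2 : Nat.card (orbit K c) ≤ 2 := h _ (card_orbit_dvd_normal A hc K) (card_orbit_dvd_card c)
    have hfin : Finite (orbit K c) := Finite.Set.finite_range _
    by_contra hne
    have hne1 : (k : G) • c ≠ c := by
      intro h3
      exact hne (by rw [h3, h3])
    have hne2 : (k : G) • (k : G) • c ≠ (k : G) • c := fun h3 => hne1 (smul_left_cancel _ h3)
    have h3 : ({(⟨c, mem_orbit_self c⟩ : orbit K c), ⟨(⟨k, hk⟩ : K) • c, mem_orbit c _⟩,
        ⟨(⟨k, hk⟩ * ⟨k, hk⟩ : K) • c, mem_orbit c _⟩} : Set (orbit K c)).ncard = 3 := by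
      rw [Set.ncard_eq_three]
      refine ⟨_, _, _, ?_, ?_, ?_, rfl⟩
      · intro h4; exact hne1 (congrArg Subtype.val h4).symm
      · intro h4
        apply hne
        have h5 : c = ((k : G) * (k : G)) • c := congrArg Subtype.val h4
        rw [mul_smul] at h5
        exact h5.symm
      · intro h4
        apply hne2
        have h5 : (k : G) • c = ((k : G) * (k : G)) • c := congrArg Subtype.val h4
        rw [mul_smul] at h5
        exact h5.symm
    have h4 := Set.ncard_le_ncard (Set.subset_univ ({(⟨c, mem_orbit_self c⟩ : orbit K c), ⟨(⟨k, hk⟩ : K) • c, mem_orbit c _⟩,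
        ⟨(⟨k, hk⟩ * ⟨k, hk⟩ : K) • c, mem_orbit c _⟩} : Set (orbit K c))) Set.finite_univ
    rw [h3, Set.ncard_univ] at h4
    omega

/-- the centraliser of `N` in `T_a`, as a subgroup of `G` -/
theorem PN.cent' (P : PN G Ω T a N) : ∃ K : Subgroup G, K ≤ T ∧ (∀ k ∈ K, ∀ n ∈ N, k * n = n * k) ∧
    (∀ x ∈ K, x ∈ N → x = 1) ∧
    Nat.card (stabilizer T a) ∣ Nat.card K * Nat.card (MulAut N) ∧
    Nat.card N * Nat.card K ∣ Nat.card (stabilizer T a) ∧
    ((∀ l, l ∣ Nat.card Ω - 1 → l ∣ Nat.card K → l = 1) → K = ⊥) ∧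
    ((∀ l, l ∣ Nat.card Ω - 1 → l ∣ Nat.card K → l ≤ 2) → ∀ k ∈ K, k * k = 1) := by
  obtain ⟨K, hKn, hKT, hKc, h1, h2⟩ := P.cent
  have hs := P.bn.simple
  have hcard : Nat.card (K.map (stabilizer G a).subtype) = Nat.card K :=
    (Nat.card_congr (K.equivMapOfInjective _ (stabilizer G a).subtype_injective).toEquiv).symm
  refine ⟨K.map (stabilizer G a).subtype, ?_, ?_, ?_, by rwa [hcard], by rwa [hcard], ?_, ?_⟩
  · rintro _ ⟨k, hk, rfl⟩
    exact hKT k hk
  · rintro _ ⟨k, hk, rfl⟩ n hn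
    exact hKc k hk n hn
  · rintro _ ⟨k, hk, rfl⟩ hn
    have h3 : (⟨(k : G), hn⟩ : N) ∈ Subgroup.center N := by
      rw [Subgroup.mem_center_iff]
      intro m
      exact Subtype.ext (hKc k hk m m.2).symm
    rcases (inferInstance : (Subgroup.center N).Normal).eq_bot_or_eq_top with h4 | h4
    · rw [h4, Subgroup.mem_bot] at h3
      exact congrArg Subtype.val h3
    · exfalso
      have := P.finN
      apply P.bn.nonab
      refine ⟨⟨fun x y => ?_⟩⟩
      have h5 : x ∈ Subgroup.center N := by rw [h4]; exact Subgroup.mem_top x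
      exact (Subgroup.mem_center_iff.1 h5 y).symm
  · intro h
    rw [hcard] at h
    rw [eq_bot_of_orbits P.A hKn h, Subgroup.map_bot]
  · intro h
    rw [hcard] at h
    rintro _ ⟨k, hk, rfl⟩
    exact congrArg Subtype.val (sq_eq_one_of_orbits P.A hKn h hk)

/-- products of commuting subgroups -/
theorem card_mul_dvd_of_commute {H : Type*} [Group H] [Finite H] {K S C : Subgroup H} (hK : K ≤ C) (hS : S ≤ C)
    (hc : ∀ k ∈ K, ∀ s ∈ S, k * s = s * k) (hd : ∀ x ∈ K, x ∈ S → x = 1) :
    Nat.card K * Nat.card S ∣ Nat.card C := by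
  have hcomm : ∀ (k : K) (s : S), Commute (Subgroup.inclusion hK k) (Subgroup.inclusion hS s) :=
    fun k s => Subtype.ext (hc k k.2 s s.2)
  let φ : K × S →* C := MonoidHom.noncommCoprod (Subgroup.inclusion hK) (Subgroup.inclusion hS) hcomm
  have hφ : Function.Injective φ := by
    refine (MonoidHom.noncommCoprod_injective _ _ hcomm).2 ⟨Subgroup.inclusion_injective hK,
      Subgroup.inclusion_injective hS, ?_⟩
    rw [Subgroup.disjoint_def]
    rintro _ ⟨k, rfl⟩ ⟨s, hs⟩
    have h1 : (s : H) = k := congrArg Subtype.val hs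
    have h2 := hd k k.2 (h1 ▸ s.2)
    exact Subtype.ext h2
  have h1 := Subgroup.card_dvd_of_injective φ hφ
  rwa [Nat.card_prod] at h1

/-- the centraliser in `T` of an involution of `N` -/
theorem PN.exists_invol (P : PN G Ω T a N) : ∃ (z : T) (K : Subgroup G), orderOf z = 2 ∧
    (z : G) ∈ N ∧
    Nat.card (stabilizer T a) ∣ Nat.card K * Nat.card (MulAut N) ∧
    Nat.card N * Nat.card K ∣ Nat.card (stabilizer T a) ∧
    ∀ S : Subgroup G, S ≤ N → (∀ s ∈ S, s * z = z * s) →
      Nat.card K * Nat.card S ∣ Nat.card (Subgroup.centralizer ({z} : Set T)) := by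
  have := P.A.finG
  have := P.finN
  obtain ⟨m, hm, hB, -⟩ := P.bn.cases
  have h2 : Fact (Nat.Prime 2) := ⟨Nat.prime_two⟩
  obtain ⟨z, hz⟩ := exists_prime_orderOf_dvd_card' (G := N) 2 (dvd_trans (by norm_num) (hB.four_dvd hm))
  obtain ⟨K, hKT, hKc, hKN, h3, h4, -, -⟩ := P.cent'
  refine ⟨⟨z, P.le_T z.2⟩, K, ?_, z.2, h3, h4, fun S hSN hSz => ?_⟩
  · rw [Subgroup.orderOf_mk, Subgroup.orderOf_coe, hz]
  · have hC : (Subgroup.centralizer ({(⟨z, P.le_T z.2⟩ : T)} : Set T)).map T.subtype ≤ _ := le_rfl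
    have hcard : Nat.card ((Subgroup.centralizer ({(⟨z, P.le_T z.2⟩ : T)} : Set T)).map T.subtype) =
        Nat.card (Subgroup.centralizer ({(⟨z, P.le_T z.2⟩ : T)} : Set T)) :=
      (Nat.card_congr (Subgroup.equivMapOfInjective _ _ T.subtype_injective).toEquiv).symm
    rw [← hcard]
    refine card_mul_dvd_of_commute ?_ ?_ (fun k hk s hs => hKc k hk s (hSN hs)) fun x hx hxS => hKN x hx (hSN hxS)
    · intro k hk
      refine ⟨⟨k, hKT hk⟩, ?_, rfl⟩
      rw [SetLike.mem_coe, Subgroup.mem_centralizer_singleton_iff]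
      exact Subtype.ext (hKc k hk z z.2)
    · intro s hs
      refine ⟨⟨s, P.le_T (hSN hs)⟩, ?_, rfl⟩
      rw [SetLike.mem_coe, Subgroup.mem_centralizer_singleton_iff]
      exact Subtype.ext (hSz s hs)

end Cfsg.Agent.H57.TTPtN
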