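import Cfsg.Agent.H57.TTSmall
import Cfsg.Agent.H384.TwoTransRed
import Cfsg.Agent.H347.Aff.Alt

/-!
# S2200: two-point stabilisers with small Sylow 2-subgroups; the alternating row
-/

set_option autoImplicit false

namespace Cfsg.Agent.H57.TTS2200

open MulAction Subgroup H384.TwoTrans TTSmall

universe u v

theorem sm_congr {D D' : Type*} [Group D] [Group D'] [Finite D] [Finite D'] (e : D ≃* D') (h : Sm D) : Sm D' := by
  intro S
  have hs : Function.Surjective e.symm.toMonoidHom := e.symm.surjective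
  have h1 := h (Sylow.mapSurjective hs S)
  rw [Sylow.coe_mapSurjective] at h1
  exact h1.congr ((S : Subgroup D').equivMapOfInjective e.symm.toMonoidHom e.symm.injective).symm

variable {G : Type u} {Ω : Type v} [Group G] [MulAction G Ω] {T : Subgroup G}

/-- all two-point stabilisers have small Sylow 2-subgroups -/
def SmG (G : Type u) (Ω : Type v) [Group G] [MulAction G Ω] : Prop :=
  ∀ a b : Ω, a ≠ b → Sm ↥(stabilizer G a ⊓ stabilizer G b)

theorem SmG.of [Finite G] (h2 : IsMultiplyPretransitive G Ω 2) {a b : Ω} (hab : a ≠ b)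
    (h : Sm ↥(stabilizer G a ⊓ stabilizer G b)) : SmG G Ω := by
  intro a' b' hab'
  obtain ⟨g, hga, hgb⟩ := (is_two_pretransitive_iff.1 h2) hab' hab
  have key : ∀ x : G, x ∈ stabilizer G a' ⊓ stabilizer G b' ↔ g * x * g⁻¹ ∈ stabilizer G a ⊓ stabilizer G b := by
    intro x
    simp only [mem_inf, mem_stabilizer_iff]
    rw [← hga, ← hgb]
    simp only [mul_smul, inv_smul_smul, smul_left_cancel_iff]
  have key2 : ∀ x : G, x ∈ stabilizer G a ⊓ stabilizer G b → g⁻¹ * x * g ∈ stabilizer G a' ⊓ stabilizer G b' := by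
    intro x hx
    rw [key]
    have h1 : g * (g⁻¹ * x * g) * g⁻¹ = x := by group
    rwa [h1]
  let e : ↥(stabilizer G a ⊓ stabilizer G b) ≃* ↥(stabilizer G a' ⊓ stabilizer G b') :=
    { toFun := fun x => ⟨g⁻¹ * x * g, key2 _ x.2⟩
      invFun := fun x => ⟨g * x * g⁻¹, (key _).1 x.2⟩
      left_inv := fun x => Subtype.ext (by change g * (g⁻¹ * x * g) * g⁻¹ = x; group)
      right_inv := fun x => Subtype.ext (by change g⁻¹ * (g * x * g⁻¹) * g = x; group)
      map_mul' := fun x y => Subtype.ext (by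
        change g⁻¹ * (x * y) * g = g⁻¹ * x * g * (g⁻¹ * y * g)
        group) }
  exact sm_congr e h

/-- no elementary abelian group of order 8 in a two-point stabiliser -/
theorem SmG.no3 [Finite G] (h : SmG G Ω) {a b : Ω} (hab : a ≠ b) {x y z : G} (hxa : x • a = a) (hxb : x • b = b)
    (hya : y • a = a) (hyb : y • b = b) (hza : z • a = a) (hzb : z • b = b)
    (hxx : x * x = 1) (hyy : y * y = 1) (hzz : z * z = 1)
    (hxy : x * y = y * x) (hxz : x * z = z * x) (hyz : y * z = z * y) (h1 : x ≠ 1) (h2 : y ≠ 1) (h3 : z ≠ 1)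
    (h4 : x ≠ y) (h5 : x ≠ z) (h6 : y ≠ z) (h7 : x * y ≠ z) : False :=
  (h a b hab).no3 (x := ⟨x, hxa, hxb⟩) (y := ⟨y, hya, hyb⟩) (z := ⟨z, hza, hzb⟩) (Subtype.ext hxx) (Subtype.ext hyy)
    (Subtype.ext hzz) (Subtype.ext hxy) (Subtype.ext hxz) (Subtype.ext hyz) (fun h => h1 (congrArg Subtype.val h))
    (fun h => h2 (congrArg Subtype.val h)) (fun h => h3 (congrArg Subtype.val h))
    (fun h => h4 (congrArg Subtype.val h)) (fun h => h5 (congrArg Subtype.val h))
    (fun h => h6 (congrArg Subtype.val h)) (fun h => h7 (congrArg Subtype.val h))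

/-- not both a quaternion group of order 8 and a four-group in a two-point stabiliser -/
theorem SmG.noQV [Finite G] (h : SmG G Ω) {a b : Ω} (hab : a ≠ b) {x y u v : G} (hxa : x • a = a) (hxb : x • b = b)
    (hya : y • a = a) (hyb : y • b = b) (hua : u • a = a) (hub : u • b = b) (hva : v • a = a) (hvb : v • b = b)
    (hxy : x * x = y * y) (hx : x * x ≠ 1) (hyx : y * x * y⁻¹ = x⁻¹) (huu : u * u = 1) (hvv : v * v = 1)
    (hc : u * v = v * u) (hu : u ≠ 1) (hv : v ≠ 1) (huv : u ≠ v) : False :=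
  (h a b hab).noQV (x := ⟨x, hxa, hxb⟩) (y := ⟨y, hya, hyb⟩) (Subtype.ext hxy)
    (fun h => hx (congrArg Subtype.val h)) (Subtype.ext hyx) (u := ⟨u, hua, hub⟩) (v := ⟨v, hva, hvb⟩)
    (Subtype.ext huu) (Subtype.ext hvv) (Subtype.ext hc) (fun h => hu (congrArg Subtype.val h))
    (fun h => hv (congrArg Subtype.val h)) (fun h => huv (congrArg Subtype.val h))

/-- a 2-element of large order in a two-point stabiliser of `T` -/
theorem SmG.exists_order [Finite G] (h : SmG G Ω) {a b : Ω} (hab : a ≠ b) (T : Subgroup G) {m : ℕ}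
    (hm : 2 ^ m ∣ Nat.card ↥(T ⊓ (stabilizer G a ⊓ stabilizer G b))) :
    ∃ g ∈ T, g • a = a ∧ g • b = b ∧ 2 ^ m ≤ 2 * orderOf g ∧ ∃ k, orderOf g = 2 ^ k := by
  obtain ⟨g, hg, h1, h2⟩ := (h a b hab).exists_order (T.subgroupOf (stabilizer G a ⊓ stabilizer G b)) (m := m) (by
    rw [← Subgroup.inf_subgroupOf_right]
    rwa [Nat.card_congr (Subgroup.subgroupOfEquivOfLe inf_le_right).toEquiv])
  rw [← Subgroup.orderOf_coe] at h1 h2
  exact ⟨g, hg, g.2.1, g.2.2, h1, h2⟩

/-! ### the alternating row -/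

/-- `A₁₀` inside the alternating group of a larger set -/
theorem exists_ten (A : AS G Ω T) (hT : 2 * Nat.card T = (Nat.card Ω).factorial) (h10 : 10 ≤ Nat.card Ω) :
    ∃ (j : Fin 10 ↪ Ω) (ψ : alternatingGroup (Fin 10) →* T), Function.Injective ψ ∧
      ∀ (σ : alternatingGroup (Fin 10)) (i : Fin 10), ψ σ • j i = j ((σ : Equiv.Perm (Fin 10)) i) := by
  classical
  have := A.finΩ
  have := A.faithfulT
  have := Fintype.ofFinite Ω
  have hr := H347.Aff.range_toPermHom_eq (T := T) (Ω := Ω) hT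
  obtain ⟨j⟩ : Nonempty (Fin 10 ↪ Ω) := by
    rw [Function.Embedding.nonempty_iff_card_le, Fintype.card_fin, ← Nat.card_eq_fintype_card]
    exact h10
  let f : Fin 10 ≃ {w : Ω // w ∈ Set.range j} := Equiv.ofInjective j j.injective
  let φ : Equiv.Perm (Fin 10) →* Equiv.Perm Ω := Equiv.Perm.extendDomainHom f
  have hφs : ∀ σ ∈ alternatingGroup (Fin 10), φ σ ∈ (toPermHom T Ω).range := by
    intro σ hσ
    rw [hr, Equiv.Perm.mem_alternatingGroup]
    rw [Equiv.Perm.mem_alternatingGroup] at hσ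
    change Equiv.Perm.sign (σ.extendDomain f) = 1
    rw [Equiv.Perm.sign_extendDomain, hσ]
  have hinj : Function.Injective (toPermHom T Ω) := toPerm_injective
  let E : T ≃* (toPermHom T Ω).range := MonoidHom.ofInjective hinj
  let φ' : alternatingGroup (Fin 10) →* (toPermHom T Ω).range :=
    { toFun := fun σ => ⟨φ σ, hφs _ σ.2⟩
      map_one' := Subtype.ext (map_one φ)
      map_mul' := fun σ τ => Subtype.ext (map_mul φ _ _) }
  refine ⟨j, E.symm.toMonoidHom.comp φ', ?_, ?_⟩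
  · intro σ τ h
    have h1 : φ' σ = φ' τ := E.symm.injective h
    have h2 : φ σ = φ τ := congrArg Subtype.val h1
    exact Subtype.ext (Equiv.Perm.extendDomainHom_injective f h2)
  · intro σ i
    have h1 : (E (E.symm (φ' σ)) : Equiv.Perm Ω) = φ σ := by rw [MulEquiv.apply_symm_apply]; rfl
    have h2 : ((E.symm (φ' σ) : T) • (j i : Ω)) = (E (E.symm (φ' σ)) : Equiv.Perm Ω) (j i) := rfl
    change (E.symm (φ' σ) : T) • (j i : Ω) = _
    rw [h2, h1]
    exact Equiv.Perm.extendDomain_apply_image (σ : Equiv.Perm (Fin 10)) f i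

open Equiv in
/-- three double transpositions -/
def p3 : Fin 3 → Perm (Fin 10) := ![swap 0 1 * swap 2 3, swap 2 3 * swap 4 5, swap 4 5 * swap 6 7]

theorem p3_mem (i : Fin 3) : p3 i ∈ alternatingGroup (Fin 10) := by
  rw [Equiv.Perm.mem_alternatingGroup]
  revert i
  decide

/-- three double transpositions -/
def s3 (i : Fin 3) : alternatingGroup (Fin 10) := ⟨p3 i, p3_mem i⟩

theorem s3_sq (i : Fin 3) : s3 i * s3 i = 1 := Subtype.ext (by
  change p3 i * p3 i = 1
  revert i; decide)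

theorem s3_comm (i k : Fin 3) : s3 i * s3 k = s3 k * s3 i := Subtype.ext (by
  change p3 i * p3 k = p3 k * p3 i
  revert i k; decide)

theorem s3_ne_one (i : Fin 3) : s3 i ≠ 1 := fun h => by
  have h1 : p3 i = 1 := congrArg Subtype.val h
  revert h1
  revert i
  decide

theorem s3_ne {i k : Fin 3} (h : i ≠ k) : s3 i ≠ s3 k := fun h' => by
  have h1 : p3 i = p3 k := congrArg Subtype.val h'
  revert h1 h
  revert i k
  decide

theorem s3_mul_ne : s3 0 * s3 1 ≠ s3 2 := fun h => by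
  have h1 : p3 0 * p3 1 = p3 2 := congrArg Subtype.val h
  revert h1
  decide

theorem s3_fix (i : Fin 3) : p3 i 8 = 8 ∧ p3 i 9 = 9 := by revert i; decide

/-- the alternating row: degree at most 9 -/
theorem alt_lt (A : AS G Ω T) (hS : SmG G Ω) (hT : 2 * Nat.card T = (Nat.card Ω).factorial) :
    Nat.card Ω < 10 := by
  by_contra hcon
  push Not at hcon
  have := A.finG
  obtain ⟨j, ψ, hψ, hj⟩ := exists_ten A hT hcon
  let X : Fin 3 → G := fun i => ψ (s3 i)
  have hmul : ∀ i k, X i * X k = (ψ (s3 i * s3 k) : G) := fun i k => by rw [map_mul]; rfl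
  have hinj : ∀ s t : alternatingGroup (Fin 10), (ψ s : G) = ψ t → s = t := fun s t h => hψ (Subtype.ext h)
  have hone : (ψ 1 : G) = 1 := by rw [map_one]; rfl
  have hfix : ∀ i (k : Fin 10), p3 i k = k → X i • j k = j k := by
    intro i k h
    have h1 := hj (s3 i) k
    change _ = j (p3 i k) at h1
    rw [h] at h1
    exact h1
  have hsq : ∀ i, X i * X i = 1 := by
    intro i
    rw [hmul, ← hone, s3_sq]
  have hcm : ∀ i k, X i * X k = X k * X i := by
    intro i k
    rw [hmul, hmul, s3_comm]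
  have hX1 : ∀ i, X i ≠ 1 := by
    intro i h
    rw [← hone] at h
    exact s3_ne_one i (hinj _ _ h)
  have hXn : ∀ {i k}, i ≠ k → X i ≠ X k := fun hik h => s3_ne hik (hinj _ _ h)
  have hX3 : X 0 * X 1 ≠ X 2 := by
    intro h
    rw [hmul] at h
    exact s3_mul_ne (hinj _ _ h)
  exact hS.no3 (a := j 8) (b := j 9) (fun h => absurd (j.injective h) (by decide)) (x := X 0) (y := X 1) (z := X 2)
    (hfix 0 8 (s3_fix 0).1) (hfix 0 9 (s3_fix 0).2) (hfix 1 8 (s3_fix 1).1) (hfix 1 9 (s3_fix 1).2)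
    (hfix 2 8 (s3_fix 2).1) (hfix 2 9 (s3_fix 2).2) (hsq 0) (hsq 1) (hsq 2) (hcm _ _) (hcm _ _) (hcm _ _) (hX1 0)
    (hX1 1) (hX1 2) (hXn (by decide)) (hXn (by decide)) (hXn (by decide)) hX3

end Cfsg.Agent.H57.TTS2200
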