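import Cfsg.Agent.H57.TTS2200B
import Cfsg.Agent.H384.PrimeDeg
import Cfsg.Agent.GH.Cov.SylowThree
import Cfsg.Agent.TwoGenCore.IsoMEleven
import Cfsg.Agent.S0679
import Cfsg.Agent.S0418
import Cfsg.Agent.ClassicalGeometry.PSL2Basic

/-!
# S2200: the row `M12` on 12 points (the point stabiliser is `M11`, with semidihedral Sylow 2-subgroups)
-/

set_option autoImplicit false

open Cfsg

namespace Cfsg.Agent.H57.TTS2200

open MulAction Subgroup H384.TwoTrans TTSmall

universe u v

/-- a transitive group of degree 11 and order 7920 is `M11` -/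
theorem isM11_of {K α : Type*} [Group K] [Finite K] [Finite α] [MulAction K α] [FaithfulSMul K α]
    [IsPretransitive K α] (hα : Nat.card α = 11) (hK : Nat.card K = 7920) : Spor.IsoM11 K := by
  classical
  have := Fintype.ofFinite α
  have hα' : Fintype.card α = 11 := by rw [← Nat.card_eq_fintype_card, hα]
  let ψ : K ≃* (toPermHom K α).range := MonoidHom.ofInjective (f := toPermHom K α) toPerm_injective
  have hcard : Nat.card (toPermHom K α).range = 7920 := by rw [← hK]; exact (Nat.card_congr ψ.toEquiv).symm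
  have hG2 : IsPretransitive (toPermHom K α).range α := by
    refine ⟨fun x y => ?_⟩
    obtain ⟨g, hg⟩ := exists_smul_eq K x y
    exact ⟨⟨toPermHom K α g, g, rfl⟩, hg⟩
  have hns : ¬ Group.IsSolvable (toPermHom K α).range := by
    intro h
    have h1 : Group.IsSolvable K := Group.isSolvable_of_isSolvable_injective
      (f := ψ.toMonoidHom) ψ.injective
    have h2 := H384.PrimeDeg.card_dvd h1 (p := 11) (by norm_num) hα
    rw [hK] at h2
    revert h2
    decide
  have hna : ¬ alternatingGroup α ≤ (toPermHom K α).range := by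
    intro h
    have h1 := Subgroup.card_dvd_of_le h
    have h2 : 2 * Nat.card (alternatingGroup α) = Nat.factorial 11 := by
      have : Nontrivial α := Fintype.one_lt_card_iff_nontrivial.1 (by omega)
      rw [Nat.card_eq_fintype_card, two_mul_card_alternatingGroup, Fintype.card_perm, hα']
    have h3 : Nat.factorial 11 = 39916800 := by decide
    have h4 := Nat.le_of_dvd Nat.card_pos h1
    omega
  rcases Cfsg.Agent.S0679.result hα' (toPermHom K α).range hns hna with ⟨h4, hst⟩ | ⟨⟨i⟩⟩
  · have h5 := Cfsg.Agent.S0418.result hα' (toPermHom K α).range hst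
    obtain ⟨j⟩ := Cfsg.Agent.TwoGenCore.IsoMEleven.isoM11 h5
    exact ⟨ψ.trans j⟩
  · exfalso
    have h1 := Cfsg.Agent.ClassicalGeometry.PSL2Basic.card_PSL2_odd (ZMod 11) (by rw [ZMod.card]; decide)
    rw [← Nat.card_congr i.toEquiv, hcard, ZMod.card] at h1
    norm_num at h1

/-- a semidihedral group contains a quaternion group and a four-group -/
theorem quasi {S : Type*} [Group S] (h : IsQuasiDihedral S) : ∃ x y u v : S, x * x = y * y ∧ x * x ≠ 1 ∧
    y * x * y⁻¹ = x⁻¹ ∧ u * u = 1 ∧ v * v = 1 ∧ u * v = v * u ∧ u ≠ 1 ∧ v ≠ 1 ∧ u ≠ v := by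
  obtain ⟨n, hn, -, x, y, hx, hy, hyx⟩ := h
  obtain ⟨k, rfl⟩ : ∃ k, n = k + 3 := ⟨n - 3, by omega⟩
  have e1 : k + 3 - 1 = k + 2 := by omega
  rw [e1] at hyx
  obtain ⟨q, hq⟩ : ∃ q, q = 2 ^ k := ⟨_, rfl⟩
  have hq1 : 1 ≤ q := by rw [hq]; exact Nat.one_le_two_pow
  have e2 : 2 ^ (k + 2) = 4 * q := by rw [hq, pow_add]; ring
  have e3 : 2 ^ (k + 3) = 8 * q := by rw [hq, pow_add]; ring
  rw [e2] at hyx
  rw [e3] at hx
  have hyy : y * y = 1 := by
    have := pow_orderOf_eq_one y
    rwa [hy, pow_two] at this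
  have hy1 : y ≠ 1 := by
    rintro rfl
    rw [orderOf_one] at hy
    omega
  have hyi : y⁻¹ = y := inv_eq_of_mul_eq_one_left hyy
  have hx8 : x ^ (8 * q) = 1 := by rw [← hx]; exact pow_orderOf_eq_one x
  have hne : ∀ i, 0 < i → i < 8 * q → x ^ i ≠ 1 := by
    intro i h0 h1 h2
    have h3 := Nat.le_of_dvd h0 (orderOf_dvd_of_pow_eq_one h2)
    omega
  have hpow : ∀ i, y * x ^ i * y⁻¹ = x ^ ((4 * q - 1) * i) := by
    intro i
    rw [← conj_pow, hyx, ← pow_mul]
  -- conjugation of `x ^ (2 q)`, of order 4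
  have h2q : y * x ^ (2 * q) * y⁻¹ = (x ^ (2 * q))⁻¹ := by
    rw [hpow, eq_inv_iff_mul_eq_one, ← pow_add]
    have h1 : (4 * q - 1) * (2 * q) + 2 * q = 8 * q * q := by
      have : (4 * q - 1) * (2 * q) + 2 * q = (4 * q - 1 + 1) * (2 * q) := by ring
      rw [this, Nat.sub_add_cancel (by omega)]; ring
    rw [h1, pow_mul, hx8, one_pow]
  have h4q : y * x ^ (4 * q) * y⁻¹ = x ^ (4 * q) := by
    rw [hpow]
    have h1 : (4 * q - 1) * (4 * q) + 8 * q = 8 * q * (2 * q) + 4 * q := by
      have : (4 * q - 1) * (4 * q) + 8 * q = (4 * q - 1 + 1) * (4 * q) + 4 * q := by ring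
      rw [this, Nat.sub_add_cancel (by omega)]; ring
    have h2 : x ^ ((4 * q - 1) * (4 * q)) * x ^ (8 * q) = x ^ (8 * q * (2 * q)) * x ^ (4 * q) := by
      rw [← pow_add, ← pow_add, h1]
    rwa [hx8, mul_one, pow_mul x (8 * q), hx8, one_pow, one_mul] at h2
  refine ⟨x ^ (2 * q), x * y, x ^ (4 * q), y, ?_, ?_, ?_, ?_, hyy, ?_, ?_, hy1, ?_⟩
  · rw [← pow_add]
    have h1 : x * y * (x * y) = x * (y * x * y⁻¹) := by
      rw [hyi]; group
    rw [h1, hyx, ← pow_succ']
    congr 1
    omega
  · rw [← pow_add]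
    exact hne _ (by omega) (by omega)
  · have h1 : x * y * x ^ (2 * q) * (x * y)⁻¹ = x * (y * x ^ (2 * q) * y⁻¹) * x⁻¹ := by group
    rw [h1, h2q]
    group
  · rw [← pow_add]
    have h1 : 4 * q + 4 * q = 8 * q := by ring
    rw [h1, hx8]
  · rw [mul_inv_eq_iff_eq_mul] at h4q
    exact h4q.symm
  · exact hne _ (by omega) (by omega)
  · intro h
    -- then `y` commutes with `x`
    have h1 : y * x * y⁻¹ = x := by
      rw [← h]; group
    rw [hyx] at h1
    have h2 : x ^ (4 * q - 2) = 1 := by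
      have h3 : x ^ (4 * q - 2) * x = x := by
        rw [← pow_succ]
        have : 4 * q - 2 + 1 = 4 * q - 1 := by omega
        rw [this, h1]
      exact mul_eq_right.1 h3
    exact hne _ (by omega) (by omega) h2

variable {G : Type u} {Ω : Type v} [Group G] [MulAction G Ω] {T : Subgroup G}

theorem m12 (A : AS G Ω T) (hS : SmG G Ω) (hn : Nat.card Ω = 12) (hT : Nat.card T = 95040) : False := by
  have := A.finG
  have := A.finT
  have := A.finΩ
  have := A.nontrivialΩ
  have := A.faithfulT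
  have h2 : Fact (Nat.Prime 2) := ⟨Nat.prime_two⟩
  obtain ⟨a, -, -⟩ := exists_pair_ne Ω
  have hK : Nat.card (stabilizer T a) = 7920 := by
    have h1 := A.card_mul a
    rw [hn, hT] at h1
    omega
  let α := SubMulAction.ofStabilizer T a
  have hα : Nat.card α = 11 := by
    rw [SubMulAction.nat_card_ofStabilizer_eq, hn]
  have hf : FaithfulSMul (stabilizer T a) α := by
    refine ⟨fun {g h} hgh => ?_⟩
    apply Subtype.ext
    apply FaithfulSMul.eq_of_smul_eq_smul (α := Ω)
    intro x
    by_cases hx : x = a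
    · rw [hx, g.2, h.2]
    · exact congrArg Subtype.val (hgh ⟨x, hx⟩)
  have htr : IsPretransitive (stabilizer T a) α := by
    have key : ∀ x y : Ω, x ≠ a → y ≠ a → ∃ g : stabilizer T a, g • x = y := by
      intro x y hx hy
      have h3 := A.card_orbit_dvd (Ne.symm hx)
      rw [hn] at h3
      rcases (Nat.dvd_prime (show Nat.Prime 11 by norm_num)).1 h3 with h4 | h4
      · exfalso
        have h5 : ∀ z : Ω, z ≠ a → ∀ g : stabilizer T a, g • z = z := by
          intro z hz g
          have h6 := A.card_orbit_eq (Ne.symm hz) (Ne.symm hx)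
          rw [h4, Nat.card_eq_one_iff_unique] at h6
          have := h6.1
          exact congrArg Subtype.val (Subsingleton.elim (⟨g • z, mem_orbit _ _⟩ : orbit (stabilizer T a) z)
            ⟨z, mem_orbit_self z⟩)
        have h6 : ∀ g : stabilizer T a, g = 1 := by
          intro g
          apply hf.eq_of_smul_eq_smul
          intro z
          exact Subtype.ext (by rw [one_smul]; exact h5 z.1 z.2 g)
        have h7 : Nat.card (stabilizer T a) = 1 := by
          rw [Nat.card_eq_one_iff_unique]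
          exact ⟨⟨fun g h => by rw [h6 g, h6 h]⟩, ⟨1⟩⟩
        rw [hK] at h7
        omega
      · have h5 : orbit (stabilizer T a) x = {z | z ≠ a} := by
          apply Set.eq_of_subset_of_ncard_le
          · rintro _ ⟨g, rfl⟩ h
            exact hx (smul_left_cancel g (h.trans g.2.symm))
          · rw [← Nat.card_coe_set_eq, ← Nat.card_coe_set_eq, h4]
            exact le_of_eq hα
          · exact Set.toFinite _
        have h6 : y ∈ orbit (stabilizer T a) x := by rw [h5]; exact hy
        exact h6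
    refine ⟨fun x y => ?_⟩
    obtain ⟨g, hg⟩ := key x.1 y.1 x.2 y.2
    exact ⟨g, Subtype.ext hg⟩
  have hM := isM11_of hα hK
  obtain ⟨P⟩ : Nonempty (Sylow 2 (stabilizer T a)) := inferInstance
  have hP := GH.Cov.SylowThree.mEleven hM (by rw [hK]; norm_num) P
  obtain ⟨⟨b, hb⟩, hbP⟩ := P.2.nonempty_fixed_point_of_prime_not_dvd_card α (by rw [hα]; norm_num)
  obtain ⟨x, y, u, v, h1, h2, h3, h4, h5, h6, h7, h8, h9⟩ := quasi hP
  have hfa : ∀ s : ↥(P : Subgroup (stabilizer T a)), (s.1.1.1 : G) • a = a := fun s => s.1.2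
  have hfb : ∀ s : ↥(P : Subgroup (stabilizer T a)), (s.1.1.1 : G) • b = b := fun s => congrArg Subtype.val (hbP s)
  let ι : ↥(P : Subgroup (stabilizer T a)) →* G :=
    (T.subtype.comp (stabilizer T a).subtype).comp (P : Subgroup (stabilizer T a)).subtype
  have hι : Function.Injective ι := fun s t h => Subtype.ext (Subtype.ext (Subtype.ext h))
  refine hS.noQV (Ne.symm hb) (x := ι x) (y := ι y) (u := ι u) (v := ι v) (hfa x) (hfb x) (hfa y) (hfb y) (hfa u)
    (hfb u) (hfa v) (hfb v) ?_ ?_ ?_ ?_ ?_ ?_ ?_ ?_ ?_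
  · rw [← map_mul, ← map_mul, h1]
  · rw [← map_mul]
    exact fun h => h2 (hι (h.trans (map_one ι).symm))
  · rw [← map_inv, ← map_inv, ← map_mul, ← map_mul, h3]
  · rw [← map_mul, h4, map_one]
  · rw [← map_mul, h5, map_one]
  · rw [← map_mul, ← map_mul, h6]
  · exact fun h => h7 (hι (h.trans (map_one ι).symm))
  · exact fun h => h8 (hι (h.trans (map_one ι).symm))
  · exact fun h => h9 (hι h)

end Cfsg.Agent.H57.TTS2200
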