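import Cfsg.Agent.H57.TTL28
import Cfsg.Agent.H57.TTNum
import Cfsg.Agent.H57.TTOut
import Cfsg.Agent.S0243
import Cfsg.Agent.OddHalf.Orders.PSpFi23
import Cfsg.Agent.H438.ConstFixFour
import Cfsg.Agent.H438.SzMax
import Cfsg.Agent.S2127
import Cfsg.Agent.S2602

/-!
# S2213, the almost simple case (helper57)
-/

set_option autoImplicit false

namespace Cfsg.Agent.H57.TTS2213

open Subgroup MulAction Cfsg.Agent.H57.TTDesign Cfsg.Agent.H57.TTNum Cfsg.Agent.H57.TTRee
  Cfsg.Agent.H384.TwoTrans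

universe u v

variable {G : Type u} {Ω : Type v} [Group G] [MulAction G Ω] {t : G} {T : Subgroup G}

/-- the numerical data of the action -/
theorem exists_num [Finite G] [Finite Ω] [FaithfulSMul G Ω] (H : UT G Ω t) :
    ∃ D, Num (Nat.card Ω) (Nat.card {x : Ω // t • x = x}) D (Nat.card G) (Nat.card T) ∧
      Nat.card (centralizer ({t} : Set G)) =
        Nat.card {x : Ω // t • x = x} * (Nat.card {x : Ω // t • x = x} - 1) * D := by
  obtain ⟨a, b, hab, ha, hb⟩ := H.exists_pts
  exact ⟨_, ⟨H.three, H.pairs_dvd, H.pred_dvd, H.pairs_le, H.D_le hab ha hb, H.two_dvd ha hb, H.card_group' hab,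
    Nat.card_pos, Subgroup.card_subgroup_dvd_card T⟩, H.card_centralizer hab ha hb⟩

/-- the lower bound for the order of `Sp_{2m}(2)` -/
theorem sp_ge (m : ℕ) : 2 ^ (2 * m ^ 2) ≤ Cfsg.Agent.OddHalf.Orders.sp m 2 := by
  unfold Cfsg.Agent.OddHalf.Orders.sp
  have key : ∀ m : ℕ, 2 ^ (m ^ 2) ≤ ((List.range m).map fun i => 2 ^ (2 * (i + 1)) - 1).prod := by
    intro m
    induction m with
    | zero => simp
    | succ m ih =>
      rw [List.range_succ, List.map_append, List.prod_append]
      simp only [List.map_cons, List.map_nil, List.prod_cons, List.prod_nil, mul_one]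
      have h1 : 2 ^ ((m + 1) ^ 2) = 2 ^ (m ^ 2) * 2 ^ (2 * m + 1) := by
        rw [← pow_add]; congr 1; ring
      rw [h1]
      apply Nat.mul_le_mul ih
      have h2 : 2 ^ (2 * (m + 1)) = 2 ^ (2 * m + 1) + 2 ^ (2 * m + 1) := by
        rw [← two_mul, ← pow_succ']
        congr 1
      have h3 : 1 ≤ 2 ^ (2 * m + 1) := Nat.one_le_two_pow
      omega
  have h1 : 2 ^ (2 * m ^ 2) = 2 ^ (m ^ 2) * 2 ^ (m ^ 2) := by
    rw [← pow_add]; congr 1; ring
  rw [h1]
  exact Nat.mul_le_mul_left _ (key m)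

theorem exists_prime_pow {F : Type*} [Field F] [Fintype F] {q : ℕ} (hF : Fintype.card F = q ^ 2) :
    ∃ p e, p.Prime ∧ q = p ^ e := by
  obtain ⟨p, hch⟩ := CharP.exists F
  obtain ⟨n, hp, hn⟩ := FiniteField.card F p
  rw [hF] at hn
  have hd : q ∣ p ^ (n : ℕ) := by
    rw [← hn]; exact Dvd.intro_left q (by ring)
  obtain ⟨e, -, he⟩ := (Nat.dvd_prime_pow hp).1 hd
  exact ⟨p, e, hp, he⟩

/-- the almost simple case of S2213 -/
theorem almost [Finite G] [Finite Ω] [FaithfulSMul G Ω] (H : UT G Ω t) (A : AS G Ω T)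
    (hK : Known2 T (Nat.card Ω)) (ohs : Cfsg.Spor.IsoHS T → Nat.card T = 44352000)
    (oco3 : Cfsg.Spor.IsoCo3 T → Nat.card T = 495766656000) :
    ((∀ u v : G, orderOf u = 2 → orderOf v = 2 → IsConj u v) ∧
      ∃ (K : Type) (_ : Field K) (_ : Fintype K), Odd (Fintype.card K) ∧
        Nonempty (↥(Subgroup.centralizer ({t} : Set G)) ≃*
          Matrix.ProjectiveSpecialLinearGroup (Fin 2) K × Multiplicative (ZMod 2))) ∨
    (∃ (F : Type) (_ : Field F) (_ : Fintype F), Fintype.card F = 25 ∧ Nonempty (G ≃* Cfsg.PSU 3 F 5)) := by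
  obtain ⟨D, N, hC⟩ := exists_num (T := T) H
  have hnT := A.normal
  have hfinT := A.finT
  have htop : Nat.card G = Nat.card T → T = ⊤ := fun h => Subgroup.eq_top_of_card_eq T h.symm
  generalize hn : Nat.card Ω = n at hK N
  generalize hk : Nat.card {x : Ω // t • x = x} = k at N hC
  cases hK with
  | alt n hn5 e =>
    exfalso
    obtain ⟨e⟩ := e
    apply N.not_alt
    rw [Nat.card_congr e.toEquiv, Nat.card_eq_fintype_card]
    have : Nontrivial (Fin n) := Fin.nontrivial_iff_two_le.2 (by omega)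
    rw [two_mul_card_alternatingGroup, Fintype.card_perm, Fintype.card_fin]
  | psl F d n hd hd2 e hn' =>
    exfalso
    obtain ⟨e⟩ := e
    refine N.not_psl (q := Fintype.card F) (d := d) Fintype.one_lt_card hd hn' ?_
    rw [Nat.card_congr e.toEquiv]
    exact Cfsg.Agent.S0243.result rfl d hd
  | sp F m n hF hm e hn' =>
    exfalso
    obtain ⟨e⟩ := e
    refine N.not_sp hm ?_ ?_
    · have h1 : 2 ^ (2 * m) = 2 ^ (m - 1) * (2 ^ m + 2 ^ m) := by
        have h2 : 2 ^ m + 2 ^ m = 2 ^ (m + 1) := by rw [pow_succ]; ring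
        rw [h2, ← pow_add]; congr 1; omega
      have h3 : 1 ≤ 2 ^ m := Nat.one_le_two_pow
      rw [h1]
      rcases hn' with h | h
      · rw [h]; apply Nat.mul_le_mul_left; omega
      · rw [h]; apply Nat.mul_le_mul_left; omega
    · have h1 := Cfsg.Agent.OddHalf.Orders.card_psp (F := F) m (by omega)
      rw [hF] at h1
      have h2 : Cfsg.Agent.OddHalf.Orders.spDen 2 = 1 := rfl
      rw [h2, one_mul] at h1
      rw [Nat.card_congr e.toEquiv, h1]
      exact sp_ge m
  | psu F q n hq hF e hn' =>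
    right
    obtain ⟨e⟩ := e
    obtain ⟨p, f, hp, hqp⟩ := exists_prime_pow hF
    have h1 := Cfsg.Agent.H438.ConstFix.psu_card hF (by omega)
    rw [← Nat.card_congr e.toEquiv] at h1
    obtain ⟨hq5, hGT⟩ := N.psu_five hp hqp hq hn' h1
    subst hq5
    have hT := htop hGT
    refine ⟨F, inferInstance, inferInstance, by rw [hF]; norm_num, ⟨?_⟩⟩
    exact ((Subgroup.topEquiv.symm).trans (MulEquiv.subgroupCongr hT.symm)).trans e
  | sz F m n hm hF e hn' =>
    exfalso
    obtain ⟨e⟩ := e
    refine N.not_sz (m := m) (by rw [hn', hF]) ?_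
    rw [Nat.card_congr e.toEquiv]
    exact Cfsg.Agent.H438.SzMax.card_sz hF
  | ree K m n hm hK e hn' =>
    left
    obtain ⟨e⟩ := e
    have h1 := Cfsg.Agent.ChevalleyStructure.ReeCount.card_twistedG2 hK
    rw [← Nat.card_congr e.toEquiv] at h1
    have h2 := N.ree (q := 3 ^ (2 * m + 1)) rfl (by rw [hn', hK]) h1
    have h3 := Cfsg.Agent.S2127.result hm hK
    have h4 := TTOut.AS.card_dvd A e
    rw [h3] at h4
    have hTpos : 0 < Nat.card T := Nat.card_pos
    have hGT : Nat.card G = Nat.card T := by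
      rcases h2 with h2 | h2
      · apply Nat.dvd_antisymm _ (Subgroup.card_subgroup_dvd_card T)
        have h5 : Nat.card G ∣ Nat.gcd (Nat.card T * (2 * m + 1)) (Nat.card T * 2) :=
          Nat.dvd_gcd h4 (by rw [mul_comm]; exact h2)
        rw [Nat.gcd_mul_left] at h5
        have h6 : Nat.gcd (2 * m + 1) 2 = 1 := by
          have : Nat.Coprime (2 * m + 1) 2 := by rw [Nat.coprime_two_right]; exact ⟨m, rfl⟩
          exact this
        rwa [h6, mul_one] at h5
      · exact h2
    have hT := htop hGT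
    let f : G ≃* ↥(Cfsg.Lie.twistedG2 K (3 ^ m)) :=
      ((Subgroup.topEquiv.symm).trans (MulEquiv.subgroupCongr hT.symm)).trans e
    refine ⟨?_, K, inferInstance, inferInstance, by rw [hK]; exact Odd.pow (by decide), ?_⟩
    · intro u v hu hv
      obtain ⟨c, hc⟩ := isConj_iff.1 (ree_conj hm hK (f u) (f v) (by rw [MulEquiv.orderOf_eq]; exact hu)
        (by rw [MulEquiv.orderOf_eq]; exact hv))
      rw [isConj_iff]
      refine ⟨f.symm c, f.injective ?_⟩
      rw [map_mul, map_mul, map_inv, f.apply_symm_apply, hc]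
    · obtain ⟨e'⟩ := ree_cent hm hK (f t) (by rw [MulEquiv.orderOf_eq]; exact H.orderOf_eq)
      exact ⟨(centCongr f t).trans e'⟩
  | psl2_8 F hF e =>
    left
    obtain ⟨e⟩ := e
    obtain ⟨hT, -, -⟩ := TTL28.psl_facts hF e
    have h := N.small (by simp)
    have hg := N.g_eq
    have h2 : Fact (Nat.Prime 2) := ⟨Nat.prime_two⟩
    obtain ⟨φ, hφ, -, hker⟩ := Cfsg.Agent.S2602.result (F := F) (p := 2) (f := 3) (by norm_num) (by rw [hF]; norm_num)
      (by norm_num)
    have hout : Nat.card (Cfsg.Out (Matrix.ProjectiveSpecialLinearGroup (Fin 2) F)) = 3 := by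
      have h1 := Subgroup.card_mul_index φ.ker
      rw [Subgroup.index_ker, MonoidHom.range_eq_top.2 hφ, Subgroup.card_top, hker,
        Nat.card_congr Multiplicative.toAdd, Nat.card_zmod] at h1
      rw [← h1]; norm_num
    have h4 := TTOut.AS.card_dvd A e
    rw [hout, hT] at h4
    have h5 := Nat.le_of_dvd (by norm_num) h4
    obtain ⟨h6, hD⟩ : k = 4 ∧ D = 2 := by
      rcases h with h | h | h | h
      · omega
      · refine ⟨h.2.1, ?_⟩
        rcases h.2.2 with h7 | h7
        · exact h7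
        · rw [h7] at hg; omega
      · omega
      · omega
    subst h6 hD
    exact TTL28.row28 H hF e hg hk hC
  | psl2_9 F hF e => exfalso; have := N.small (by simp); omega
  | psl2_11 F hF e => exfalso; have := N.small (by simp); omega
  | psl4_2 F hF e => exfalso; have := N.small (by simp); omega
  | a7 e =>
    exfalso
    obtain ⟨e⟩ := e
    have h1 : Nat.card T = 2520 := by
      have h2 : 2 * Nat.card (alternatingGroup (Fin 7)) = 5040 := by
        rw [Nat.card_eq_fintype_card, two_mul_card_alternatingGroup, Fintype.card_perm, Fintype.card_fin]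
        rfl
      rw [Nat.card_congr e.toEquiv]
      omega
    have := N.small (by simp)
    omega
  | m11 h => exfalso; have := N.small (by simp); omega
  | m11' h => exfalso; have := N.small (by simp); omega
  | m12 h => exfalso; have := N.small (by simp); omega
  | m22 h => exfalso; have := N.small (by simp); omega
  | m23 h => exfalso; have := N.small (by simp); omega
  | m24 h => exfalso; have := N.small (by simp); omega
  | hs h => exfalso; have := N.small (by simp); have := ohs h; omega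
  | co3 h => exfalso; have := N.small (by simp); have := oco3 h; omega

/-- S2213 from the classification of the 2-transitive groups -/
theorem main [Finite G] [Finite Ω] [FaithfulSMul G Ω] (h2 : MulAction.IsMultiplyPretransitive G Ω 2) (a b : Ω)
    (hab : a ≠ b) (t : G)
    (ht : t ∈ (MulAction.stabilizer G a ⊓ MulAction.stabilizer G b) ∧ t ≠ 1 ∧ 2 < Nat.card {x : Ω // t • x = x})
    (huniq : ∀ s ∈ (MulAction.stabilizer G a ⊓ MulAction.stabilizer G b), s ≠ 1 →
      2 < Nat.card {x : Ω // s • x = x} → s = t)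
    (hK : ∀ T : Subgroup G, AS G Ω T → Known2 T (Nat.card Ω))
    (ohs : ∀ T : Subgroup G, Cfsg.Spor.IsoHS T → Nat.card T = 44352000)
    (oco3 : ∀ T : Subgroup G, Cfsg.Spor.IsoCo3 T → Nat.card T = 495766656000) :
    ((∀ u v : G, orderOf u = 2 → orderOf v = 2 → IsConj u v) ∧
      ∃ (K : Type) (_ : Field K) (_ : Fintype K), Odd (Fintype.card K) ∧
        Nonempty (↥(Subgroup.centralizer ({t} : Set G)) ≃*
          Matrix.ProjectiveSpecialLinearGroup (Fin 2) K × Multiplicative (ZMod 2))) ∨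
    (∃ (F : Type) (_ : Field F) (_ : Fintype F), Fintype.card F = 25 ∧ Nonempty (G ≃* Cfsg.PSU 3 F 5)) ∨
    ((∃ N : Subgroup G, N.Normal ∧ (∀ x y : Ω, ∃ n ∈ N, n • x = y) ∧ ∀ x : Ω, ∀ n ∈ N, n • x = x → n = 1) ∧
      (ConjClasses.mk '' {g : G | orderOf g = 2}).ncard = 2) := by
  have H : UT G Ω t := UT.mk' (fun a b c d hab hcd => two_pts h2 a b c d hab hcd) a b hab t ht huniq
  have h3 : 3 ≤ Nat.card Ω := by
    have h := H.three
    have h' : Nat.card {x : Ω // t • x = x} ≤ Nat.card Ω := Nat.card_le_card_of_injective _ Subtype.val_injective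
    omega
  rcases reduction h2 h3 with ⟨N, hN, -, hcomm, ⟨p, hp, hexp⟩, htr, hsr⟩ | ⟨T, A⟩
  · right; right
    refine ⟨⟨N, hN, htr, hsr⟩, ?_⟩
    have R : TTAffine.Reg G Ω N := ⟨hN, fun x hx y hy => congrArg Subtype.val
      (hcomm.is_comm.comm (⟨x, hx⟩ : N) ⟨y, hy⟩), htr, hsr⟩
    exact TTAffine.classes R hp hexp H
  · rcases almost H A (hK T A) (ohs T) (oco3 T) with h | h
    · exact Or.inl h
    · exact Or.inr (Or.inl h)

end Cfsg.Agent.H57.TTS2213
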