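import Cfsg.Agent.H57.TTS2200A
import Cfsg.Agent.H57.TTS2213
import Cfsg.Agent.H88.ReeTwo

/-!
# S2200: the groups of Ree type, `PΓL₂(8)` on 28 points
-/

set_option autoImplicit false

open Cfsg

namespace Cfsg.Agent.H57.TTS2200

open MulAction Subgroup H384.TwoTrans TTSmall TTDesign TTRee

universe u v

variable {G : Type u} {Ω : Type v} [Group G] [MulAction G Ω] {T : Subgroup G}

/-- `L` acts as a group of Ree type -/
def ReeD (L : Subgroup G) (a b : Ω) : Prop :=
  MulAction.IsMultiplyPretransitive ↥L Ω 2 ∧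
    (∃! t : G, t ∈ L ⊓ MulAction.stabilizer G a ⊓ MulAction.stabilizer G b ∧ t ≠ 1 ∧
      2 < Nat.card {x : Ω // t • x = x}) ∧
    (∀ s t : ↥L, orderOf s = 2 → orderOf t = 2 → IsConj s t) ∧
    (∃ (t : ↥L) (K : Type) (_ : Field K) (_ : Fintype K), orderOf t = 2 ∧ Odd (Fintype.card K) ∧
      Nat.card Ω = Fintype.card K ^ 3 + 1 ∧
      Nonempty (↥(Subgroup.centralizer ({t} : Set ↥L)) ≃*
        Matrix.ProjectiveSpecialLinearGroup (Fin 2) K × Multiplicative (ZMod 2)))

theorem ree_row (A : AS G Ω T) {a b : Ω} (hab : a ≠ b) {K : Type} [Field K] [Fintype K] {m : ℕ}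
    (hK : Fintype.card K = 3 ^ (2 * m + 1)) (e : T ≃* ↥(Cfsg.Lie.twistedG2 K (3 ^ m)))
    (hn : Nat.card Ω = Fintype.card K ^ 3 + 1) : ReeD T a b := by
  have := A.finT
  have := A.finΩ
  obtain ⟨h1, h2, ⟨t, ht, h3⟩, -, h4⟩ := H88.ReeTwo.main A.transitive hK e hn
  refine ⟨h1, ?_, h4 A.simple A.nonab, t, K, inferInstance, inferInstance, ht, ?_, hn, h3⟩
  · obtain ⟨-, -, s, ⟨hs, hs1, hs2⟩, hs3⟩ := h2 a b hab
    refine ⟨s, ⟨⟨⟨s.2, hs.1⟩, hs.2⟩, fun h => hs1 (Subtype.ext h), hs2⟩, ?_⟩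
    rintro r ⟨⟨⟨hrT, hra⟩, hrb⟩, hr1, hr2⟩
    exact congrArg Subtype.val (hs3 ⟨r, hrT⟩ ⟨⟨hra, hrb⟩, fun h => hr1 (congrArg Subtype.val h), hr2⟩)
  · rw [hK]; exact Odd.pow (by decide)

/-- `PΓL₂(8)` on 28 points -/
theorem psl2_8_UT (A : AS G Ω T) (hn : Nat.card Ω = 28) {F : Type*} [Field F] [Fintype F] (hF : Fintype.card F = 8)
    (e : T ≃* Matrix.ProjectiveSpecialLinearGroup (Fin 2) F) {a b : Ω} (hab : a ≠ b) :
    ∃ t : G, t ∈ stabilizer G a ⊓ stabilizer G b ∧ UT G Ω t ∧ Nat.card G = 1512 ∧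
      (∀ s ∈ stabilizer G a ⊓ stabilizer G b, s ≠ 1 → s = t) := by
  have := A.finG
  have := A.finT
  have := A.finΩ
  obtain ⟨hT, hconj, hcent⟩ := TTL28.psl_facts hF e
  have h2 : Fact (Nat.Prime 2) := ⟨Nat.prime_two⟩
  obtain ⟨φ, hφ, -, hker⟩ := Cfsg.Agent.S2602.result (F := F) (p := 2) (f := 3) (by norm_num) (by rw [hF]; norm_num)
    (by norm_num)
  have hout : Nat.card (Cfsg.Out (Matrix.ProjectiveSpecialLinearGroup (Fin 2) F)) = 3 := by
    have h1 := Subgroup.card_mul_index φ.ker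
    rw [Subgroup.index_ker, MonoidHom.range_eq_top.2 hφ, Subgroup.card_top, hker,
      Nat.card_congr Multiplicative.toAdd, Nat.card_zmod] at h1
    rw [← h1]; norm_num
  have h4 := TTOut.AS.card_dvd A e
  rw [hout, hT] at h4
  have h5 := card_group (G := G) hab (fun c d hcd => A.two' a b c d hab hcd)
  rw [hn] at h5
  have h6 := Subgroup.card_subgroup_dvd_card T
  rw [hT] at h6
  obtain ⟨hD, hG⟩ : Nat.card ↥(stabilizer G a ⊓ stabilizer G b) = 2 ∧ Nat.card G = 1512 := by
    have h7 : Nat.card ↥(stabilizer G a ⊓ stabilizer G b) ≤ 2 := by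
      have := Nat.le_of_dvd (by norm_num) h4
      omega
    have h8 : 0 < Nat.card ↥(stabilizer G a ⊓ stabilizer G b) := Nat.card_pos
    generalize Nat.card ↥(stabilizer G a ⊓ stabilizer G b) = D at *
    interval_cases D
    · exfalso
      rw [h5] at h6
      revert h6
      decide
    · exact ⟨rfl, by omega⟩
  -- the involution
  obtain ⟨t, ht1⟩ : ∃ t : ↥(stabilizer G a ⊓ stabilizer G b), t ≠ 1 := by
    have : Nontrivial ↥(stabilizer G a ⊓ stabilizer G b) := by
      rw [← Finite.one_lt_card_iff_nontrivial, hD]; norm_num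
    exact exists_ne 1
  have huniq : ∀ s : ↥(stabilizer G a ⊓ stabilizer G b), s ≠ 1 → s = t := by
    intro s hs
    obtain ⟨x, y, hxy, hu⟩ := Nat.card_eq_two_iff.1 hD
    have h7 : ∀ z : ↥(stabilizer G a ⊓ stabilizer G b), z = x ∨ z = y := by
      intro z
      have : z ∈ ({x, y} : Set ↥(stabilizer G a ⊓ stabilizer G b)) := by rw [hu]; trivial
      simpa using this
    rcases h7 1 with h8 | h8 <;> rcases h7 s with h9 | h9 <;> rcases h7 t with h10 | h10
    all_goals first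
      | exact h9.trans h10.symm
      | exact absurd (h9.trans h8.symm) hs
      | exact absurd (h10.trans h8.symm) ht1
  have htt : (t : G) * t = 1 := by
    have h7 : t ^ 2 = 1 := by rw [← hD]; exact pow_card_eq_one'
    have h8 : ((t ^ 2 : ↥(stabilizer G a ⊓ stabilizer G b)) : G) = 1 := by rw [h7]; rfl
    rwa [pow_two] at h8
  have ht1' : (t : G) ≠ 1 := fun h => ht1 (Subtype.ext h)
  have hord : orderOf (t : G) = 2 := orderOf_two_iff.2 ⟨ht1', htt⟩
  have htT : (t : G) ∈ T := by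
    have hnT := A.normal
    have hidx : T.index = 3 := by
      have := T.card_mul_index
      rw [hT, hG] at this
      omega
    rw [← QuotientGroup.eq_one_iff]
    have h1 : orderOf ((t : G) : G ⧸ T) ∣ 2 := by
      apply orderOf_dvd_of_pow_eq_one
      rw [← QuotientGroup.mk_pow, pow_two, htt, QuotientGroup.mk_one]
    have h2 : orderOf ((t : G) : G ⧸ T) ∣ 3 := by
      rw [← hidx]
      exact orderOf_dvd_natCard _
    have h3 : orderOf ((t : G) : G ⧸ T) ∣ 1 := Nat.dvd_gcd h1 h2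
    rw [← orderOf_eq_one_iff]
    exact Nat.dvd_one.1 h3
  obtain ⟨h8, -⟩ := hcent ⟨t, htT⟩ (by rw [Subgroup.orderOf_mk]; exact hord)
  have h3 : 2 < Nat.card {x : Ω // (t : G) • x = x} := by
    by_contra hcon
    push Not at hcon
    set C := Subgroup.centralizer ({(t : G)} : Set G) with hC
    have hC8 : 8 ≤ Nat.card C := by
      rw [← h8]
      refine Nat.card_le_card_of_injective (fun x => (⟨x.1.1, mem_centralizer_singleton_iff.2
        (congrArg Subtype.val (mem_centralizer_singleton_iff.1 x.2))⟩ : C)) ?_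
      intro x y hxy
      have h9 : (x.1.1 : G) = y.1.1 := congrArg (fun z : C => (z : G)) hxy
      exact Subtype.ext (Subtype.ext h9)
    have hfin : Finite {x : Ω // (t : G) • x = x} := inferInstance
    have hfix : ∀ x : Ω, (t : G) • x = x → x = a ∨ x = b := by
      intro x hx
      by_contra hc
      push Not at hc
      have h9 : ({a, b, x} : Set Ω).ncard = 3 := Set.ncard_eq_three.2 ⟨_, _, _, hab, hc.1.symm, hc.2.symm, rfl⟩
      have h10 : ({a, b, x} : Set Ω) ⊆ {y | (t : G) • y = y} := by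
        rintro y (rfl | rfl | rfl)
        · exact t.2.1
        · exact t.2.2
        · exact hx
      have h11 := Set.ncard_le_ncard h10 (Set.toFinite _)
      rw [h9, ← Nat.card_coe_set_eq] at h11
      exact absurd (h11.trans hcon) (by norm_num)
    have hCt : ∀ g ∈ C, ∀ x : Ω, (t : G) • x = x → (t : G) • g • x = g • x := by
      intro g hg x hx
      rw [hC, mem_centralizer_singleton_iff] at hg
      rw [← mul_smul, ← hg, mul_smul, hx]
    have h9 := card_one C (orbit C a) (b := a) (mem_orbit_self a) (by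
      rintro g hg _ ⟨c, rfl⟩
      exact ⟨⟨g, hg⟩ * c, mul_smul _ _ _⟩) (by
      rintro _ ⟨c, rfl⟩
      exact ⟨c.1, c.2, rfl⟩)
    have h10 : (orbit C a : Set Ω).ncard ≤ 2 := by
      have h11 : (orbit C a : Set Ω) ⊆ {a, b} := by
        rintro _ ⟨c, rfl⟩
        exact hfix _ (hCt c.1 c.2 a t.2.1)
      have h12 := Set.ncard_le_ncard h11 (Set.toFinite _)
      rw [Set.ncard_pair hab] at h12
      exact h12
    have h11 : Nat.card ↥(C ⊓ stabilizer G a) ≤ 2 := by
      rw [← hD]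
      refine Subgroup.card_le_of_le ?_
      rintro g ⟨hg, hga⟩
      refine ⟨hga, ?_⟩
      rcases hfix _ (hCt g hg b t.2.2) with h12 | h12
      · exact absurd (smul_left_cancel g (h12.trans (show g • a = a from hga).symm)) hab.symm
      · exact h12
    have h12 : Nat.card C ≤ 2 * 2 := by
      rw [h9]
      exact Nat.mul_le_mul h10 h11
    omega
  refine ⟨t, t.2, UT.mk' (fun a b c d hab hcd => A.two' a b c d hab hcd) a b hab t ⟨t.2, ht1', h3⟩ ?_, hG, ?_⟩
  · intro s hs hs1 _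
    exact congrArg Subtype.val (huniq ⟨s, hs⟩ (fun h => hs1 (congrArg Subtype.val h)))
  · intro s hs hs1
    exact congrArg Subtype.val (huniq ⟨s, hs⟩ (fun h => hs1 (congrArg Subtype.val h)))

theorem psl2_8_row (A : AS G Ω T) (hn : Nat.card Ω = 28) {F : Type*} [Field F] [Fintype F] (hF : Fintype.card F = 8)
    (e : T ≃* Matrix.ProjectiveSpecialLinearGroup (Fin 2) F) {a b : Ω} (hab : a ≠ b) :
    Subgroup.centralizer ((⊤ : Subgroup G) : Set G) = ⊥ ∧ ReeD (⊤ : Subgroup G) a b := by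
  have := A.finG
  have := A.finT
  have := A.finΩ
  have := A.faithful
  have hnT := A.normal
  obtain ⟨t, ht, H, hG, huniq⟩ := psl2_8_UT A hn hF e hab
  have hT := (TTL28.psl_facts hF e).1
  obtain ⟨D, N, hC⟩ := TTS2213.exists_num (T := T) H
  generalize hk : Nat.card {x : Ω // t • x = x} = k at N hC
  rw [hn] at N
  have h := N.small (by simp)
  have hg := N.g_eq
  obtain ⟨h6, hD⟩ : k = 4 ∧ D = 2 := by
    rcases h with h | h | h | h
    · omega
    · refine ⟨h.2.1, ?_⟩
      rcases h.2.2 with h7 | h7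
      · exact h7
      · rw [h7] at hg; omega
    · omega
    · omega
  subst h6 hD
  obtain ⟨hconj, K, _, _, hKodd, ⟨i⟩⟩ := TTL28.row28 H hF e hG hk hC
  refine ⟨?_, ?_, ⟨t, ⟨⟨⟨mem_top _, ht.1⟩, ht.2⟩, H.ne, H.three⟩, ?_⟩, ?_, ⟨t, mem_top t⟩, K, inferInstance,
    inferInstance, ?_, hKodd, ?_, ?_⟩
  · rw [eq_bot_iff, ← A.cent]
    exact Subgroup.centralizer_le (fun x _ => mem_top x)
  · rw [is_two_pretransitive_iff]
    intro c d c' d' hcd hcd'
    obtain ⟨g, h1, h2⟩ := A.two' c d c' d' hcd hcd'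
    exact ⟨⟨g, mem_top g⟩, h1, h2⟩
  · rintro s ⟨⟨⟨-, hsa⟩, hsb⟩, hs1, -⟩
    exact huniq s ⟨hsa, hsb⟩ hs1
  · intro s r hs hr
    obtain ⟨c, hc⟩ := isConj_iff.1 (hconj s.1 r.1 (by rw [Subgroup.orderOf_coe]; exact hs)
      (by rw [Subgroup.orderOf_coe]; exact hr))
    exact isConj_iff.2 ⟨⟨c, mem_top c⟩, Subtype.ext hc⟩
  · rw [Subgroup.orderOf_mk]; exact H.orderOf_eq
  · have h1 := Cfsg.Agent.ClassicalGeometry.PSL2Basic.card_PSL2_odd (F := K) hKodd
    have h2 := Nat.card_congr i.toEquiv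
    rw [hC, Nat.card_prod, Nat.card_congr Multiplicative.toAdd, Nat.card_zmod] at h2
    have h3 : Fintype.card K * (Fintype.card K ^ 2 - 1) = 24 := by
      rw [← h1, mul_comm]; omega
    have h4 : Fintype.card K ≤ 3 := by
      by_contra hcon
      push Not at hcon
      have h5 : 4 * (4 ^ 2 - 1) ≤ Fintype.card K * (Fintype.card K ^ 2 - 1) := by
        refine Nat.mul_le_mul hcon ?_
        have := Nat.pow_le_pow_left (show 4 ≤ Fintype.card K from hcon) 2
        omega
      omega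
    rw [hn]
    generalize Fintype.card K = q at *
    interval_cases q <;> omega
  · exact ⟨(centCongr (Subgroup.topEquiv (G := G)) ⟨t, mem_top t⟩).trans i⟩

end Cfsg.Agent.H57.TTS2200
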