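import Cfsg.Agent.H57.TTSpFrame
import Cfsg.Agent.H57.TTPtN

/-!
# S2208, the row `Sp_{2m}(2)` (helper57)
-/

set_option autoImplicit false
set_option linter.unusedSectionVars false
set_option linter.unusedSimpArgs false

open Cfsg
open scoped Matrix

namespace Cfsg.Agent.H57.TTSp

open Cfsg.Agent.ClassicalGeometry.SympBasic
open Cfsg.Agent.ClassicalGeometry.SympSiegel
open Cfsg.Agent.ClassicalGeometry.SympAutExists
open Cfsg.Agent.H249.SpTwo
open Cfsg.Agent.H57.TTSpFrame Cfsg.Agent.H57.TTPtN
open Cfsg.Agent.H384.TwoTrans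
open MulAction

universe u v w

variable {G : Type u} {Ω : Type v} [Group G] [MulAction G Ω] {T : Subgroup G}
variable {F : Type w} [Field F] [Fintype F] {m : ℕ} (e : ↥T ≃* PSp m F)

local notation "V" => (Fin m ⊕ Fin m → F)
local notation "Sp" => Matrix.symplecticGroup (Fin m) F
local notation "f" => sympForm m F

theorem tr_sq (hF : Fintype.card F = 2) (v : V) : tr e v * tr e v = 1 := by
  unfold tr
  rw [← map_mul, transv_mul, F_two hF]
  have : (transv v (0 : F)) = 1 := by
    apply ext_smul
    intro x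
    rw [transv_smul, zero_mul, zero_smul, add_zero, one_smul]
  rw [this, map_one]

theorem tr_inv (hF : Fintype.card F = 2) (v : V) : (tr e v)⁻¹ = tr e v :=
  inv_eq_of_mul_eq_one_left (tr_sq e hF v)

theorem tr_conj (u v : V) : tr e u * tr e v * (tr e u)⁻¹ = tr e (v + (f v u) • u) := by
  have h := tau_conj e (transv u 1) v
  rw [transv_smul, one_mul] at h
  exact h

/-- the situation -/
structure Sit (a : Ω) (N : Subgroup G) (Q : V → F) : Prop where
  P : PN G Ω T a N
  hF : Fintype.card F = 2
  hm : 3 ≤ m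
  hQ : ∀ v w, Q (v + w) = Q v + Q w + f v w
  tr : ∀ v, v ≠ 0 → (tr e v • a = a ↔ Q v = 1)

variable {e} {a : Ω} {N : Subgroup G} {Q : (Fin m ⊕ Fin m → F) → F} (S : Sit e a N Q)
include S

theorem Sit.ne {v : V} (h : Q v = 1) : v ≠ 0 := by
  rintro rfl
  rw [Q_zero S.hQ S.hF] at h
  exact zero_ne_one h

theorem Sit.mem {v : V} (h : Q v = 1) : H249.SpTwo.tr e v ∈ stabilizer G a := (S.tr v (S.ne h)).2 h

/-- conjugation by an element of `G_a` -/
theorem Sit.conj {g : G} (hg : g ∈ stabilizer G a) {v w : V}
    (h : H249.SpTwo.tr e v * H249.SpTwo.tr e w ∈ N) {v' w' : V}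
    (hv : g * H249.SpTwo.tr e v * g⁻¹ = H249.SpTwo.tr e v') (hw : g * H249.SpTwo.tr e w * g⁻¹ = H249.SpTwo.tr e w') :
    H249.SpTwo.tr e v' * H249.SpTwo.tr e w' ∈ N := by
  have h1 := S.P.normal g hg _ h
  rw [← hv, ← hw]
  have h2 : g * H249.SpTwo.tr e v * g⁻¹ * (g * H249.SpTwo.tr e w * g⁻¹) =
      g * (H249.SpTwo.tr e v * H249.SpTwo.tr e w) * g⁻¹ := by group
  rw [h2]
  exact h1

theorem Sit.symm {v w : V} (h : H249.SpTwo.tr e v * H249.SpTwo.tr e w ∈ N) :
    H249.SpTwo.tr e w * H249.SpTwo.tr e v ∈ N := by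
  have h1 := inv_mem h
  rwa [mul_inv_rev, tr_inv e S.hF, tr_inv e S.hF] at h1

theorem Sit.trans {v w x : V} (h : H249.SpTwo.tr e v * H249.SpTwo.tr e w ∈ N)
    (h' : H249.SpTwo.tr e w * H249.SpTwo.tr e x ∈ N) :
    H249.SpTwo.tr e v * H249.SpTwo.tr e x ∈ N := by
  have h1 := mul_mem h h'
  have h2 : H249.SpTwo.tr e v * H249.SpTwo.tr e w * (H249.SpTwo.tr e w * H249.SpTwo.tr e x) =
      H249.SpTwo.tr e v * (H249.SpTwo.tr e w * H249.SpTwo.tr e w) * H249.SpTwo.tr e x := by group
  rwa [h2, tr_sq e S.hF, mul_one] at h1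

theorem Sit.conj_tr {u v w : V} (hu : Q u = 1) (h : H249.SpTwo.tr e v * H249.SpTwo.tr e w ∈ N) :
    H249.SpTwo.tr e (v + (f v u) • u) * H249.SpTwo.tr e (w + (f w u) • u) ∈ N :=
  S.conj (S.mem hu) h (tr_conj e u v) (tr_conj e u w)

/-- the basic step -/
theorem Sit.step {p q u : V} (hq : Q q = 1) (hu : Q u = 1)
    (h : H249.SpTwo.tr e p * H249.SpTwo.tr e q ∈ N) (huq : f u q = 1) (hup : f u p = 0) :
    H249.SpTwo.tr e u * H249.SpTwo.tr e q ∈ N := by
  have hpu : f p u = 0 := by rw [f_symm S.hF, hup]
  have hqu : f q u = 1 := by rw [f_symm S.hF, huq]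
  have h1 := S.conj_tr hu h
  rw [hpu, hqu, zero_smul, one_smul, add_zero] at h1
  have h2 := S.trans (S.symm h) h1
  have h3 := S.conj_tr hq h2
  rw [sympForm_self, zero_smul, add_zero, sympForm_add_left, sympForm_self, zero_add, huq, one_smul] at h3
  have h4 : q + u + q = u := by
    rw [add_comm q u, add_assoc, V_add_self S.hF, add_zero]
  rw [h4] at h3
  exact S.symm h3

/-- a pair of distinct related vectors -/
theorem Sit.exists_pair : ∃ v w : V, Q v = 1 ∧ Q w = 1 ∧ v ≠ w ∧
    H249.SpTwo.tr e v * H249.SpTwo.tr e w ∈ N := by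
  have hF := S.hF
  obtain ⟨n, hn, hn1⟩ : ∃ n ∈ N, n ≠ 1 := by
    by_contra hcon
    push Not at hcon
    exact S.P.ne_bot ((Subgroup.eq_bot_iff_forall _).2 hcon)
  obtain ⟨s, hs⟩ := exists_tau e n (S.P.le_T hn)
  -- `s` moves a vector of norm one
  obtain ⟨v, hv, hsv⟩ : ∃ v : V, Q v = 1 ∧ s • v ≠ v := by
    by_contra hcon
    push Not at hcon
    apply hn1
    have h1 : s = 1 := by
      apply ext_smul
      intro x
      rw [one_smul]
      by_cases hx : x = 0
      · rw [hx, smul_zero']
      obtain ⟨x', hx'⟩ : ∃ x', f x x' = 1 := by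
        by_contra hc
        push Not at hc
        apply hx
        apply eq_zero_of_forall_sympForm_right
        intro w
        by_contra h
        exact hc w (f_eq_one hF h)
      obtain ⟨c, g, c2, g2, H⟩ := exists_Fr S.hm hx'
      have h0 : ∃ z0, f x z0 = Q x := by
        rcases F_cases hF (Q x) with h | h
        · exact ⟨0, by rw [sympForm_zero_right, h]⟩
        · exact ⟨x', by rw [hx', h]⟩
      obtain ⟨z0, hz0⟩ := h0
      obtain ⟨z, hz1, hz⟩ : ∃ z, Q z = 1 ∧ f x z = Q x := by
        rcases exists_one S.hQ hF H.eg z0 with h | h | h | h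
        · exact ⟨_, h, hz0⟩
        · exact ⟨_, h, by rw [sympForm_add_right, hz0, H.ve, add_zero]⟩
        · exact ⟨_, h, by rw [sympForm_add_right, hz0, H.vg, add_zero]⟩
        · exact ⟨_, h, by rw [sympForm_add_right, sympForm_add_right, hz0, H.ve, H.vg, add_zero, add_zero]⟩
      have h2 : Q (x + z) = 1 := by
        rw [S.hQ, hz1, hz, add_comm (Q x) 1, add_assoc, F_add_self hF, add_zero]
      have h3 := hcon _ h2
      rw [smul_add', hcon _ hz1] at h3
      exact add_right_cancel h3
    rw [← hs, h1, map_one]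
  refine ⟨s • v, v, ?_, hv, hsv, ?_⟩
  · rw [← S.tr _ (smul_ne_zero' s (S.ne hv)), ← tau_conj, hs]
    have h1 : n ∈ stabilizer G a := S.P.le hn
    exact mul_mem (mul_mem h1 (S.mem hv)) (inv_mem h1)
  · have h1 : H249.SpTwo.tr e (s • v) * H249.SpTwo.tr e v =
        n * (H249.SpTwo.tr e v * n⁻¹ * (H249.SpTwo.tr e v)⁻¹) := by
      rw [← tau_conj, hs, tr_inv e hF]
      group
    rw [h1]
    exact mul_mem hn (S.P.normal _ (S.mem hv) _ (inv_mem hn))

theorem Sit.exists_hyp : ∃ v w : V, Q v = 1 ∧ Q w = 1 ∧ f v w = 1 ∧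
    H249.SpTwo.tr e v * H249.SpTwo.tr e w ∈ N := by
  have hF := S.hF
  obtain ⟨v, w, hv, hw, hvw, h⟩ := S.exists_pair
  rcases F_cases hF (f v w) with h0 | h0
  · obtain ⟨v', w', c, g, -, -, hww, hwv, hcg, hcv, hcw, hgv, hgw⟩ :=
      exists_Fr_perp hF S.hm (S.ne hv) (S.ne hw) hvw h0
    obtain ⟨u, hu, huv, huw⟩ : ∃ u, Q u = 1 ∧ f u v = 0 ∧ f u w = 1 := by
      rcases exists_one S.hQ hF hcg w' with h | h | h | h
      · exact ⟨_, h, hwv, hww⟩
      · exact ⟨_, h, by rw [sympForm_add_left, hwv, hcv, add_zero], by rw [sympForm_add_left, hww, hcw, add_zero]⟩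
      · exact ⟨_, h, by rw [sympForm_add_left, hwv, hgv, add_zero], by rw [sympForm_add_left, hww, hgw, add_zero]⟩
      · exact ⟨_, h, by rw [sympForm_add_left, sympForm_add_left, hwv, hcv, hgv, add_zero, add_zero],
          by rw [sympForm_add_left, sympForm_add_left, hww, hcw, hgw, add_zero, add_zero]⟩
    have h1 := S.step hw hu h huw huv
    exact ⟨u, w, hu, hw, huw, h1⟩
  · exact ⟨v, w, hv, hw, h0, h⟩

theorem Sit.false : False := by
  classical
  have hF := S.hF
  obtain ⟨v, x, hv, hx, hvx, h1⟩ := S.exists_hyp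
  obtain ⟨y, r, w, hy, hr, hw, hyx, hyv, hry, hrx, hrv, hwr, hwy, hwx, hwv⟩ := exists_chain S.hQ hF S.hm hvx hv
  have h2 := S.step hx hy h1 hyx hyv
  have h3 := S.step hy hr (S.symm h2) hry hrx
  have h4 := S.step hr hw (S.symm h3) hwr hwy
  -- the products with `w`
  have hrw := S.symm h4
  have hyw : H249.SpTwo.tr e y * H249.SpTwo.tr e w ∈ N := S.trans (S.symm h3) hrw
  have hxw : H249.SpTwo.tr e x * H249.SpTwo.tr e w ∈ N := S.trans (S.symm h2) hyw
  have hvw : H249.SpTwo.tr e v * H249.SpTwo.tr e w ∈ N := S.trans h1 hxw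
  have hxv : f x v = 1 := by rw [f_symm hF, hvx]
  have hxy : f x y = 1 := by rw [f_symm hF, hyx]
  have hvy : f v y = 0 := by rw [f_symm hF, hyv]
  have hrw' : f r w = 1 := by rw [f_symm hF, hwr]
  have hyw' : f y w = 0 := by rw [f_symm hF, hwy]
  have hxw' : f x w = 0 := by rw [f_symm hF, hwx]
  have hvw' : f v w = 0 := by rw [f_symm hF, hwv]
  have hyr : f y r = 1 := by rw [f_symm hF, hry]
  have hxr : f x r = 0 := by rw [f_symm hF, hrx]
  have hvr : f v r = 0 := by rw [f_symm hF, hrv]
  have h11 : (1 : F) + 1 = 0 := F_two hF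
  -- the action
  let N2 : Subgroup (Matrix.symplecticGroup (Fin m) F) := N.comap (tau e)
  apply S.P.bn.free
  have hN2 : Lib.Involves.Involves N2 (Equiv.Perm (Fin 4)) := by
    let z : Fin 4 → V := ![v + x + y + r, x + y + r, y + r, r]
    have hz0 : z 0 = v + x + y + r := rfl
    have hz1 : z 1 = x + y + r := rfl
    have hz2 : z 2 = y + r := rfl
    have hz3 : z 3 = r := rfl
    have hzw : ∀ j, f (z j) w = 1 := by
      intro j
      fin_cases j
      · change f (v + x + y + r) w = 1
        simp only [sympForm_add_left, hvw', hxw', hyw', hrw', zero_add]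
      · change f (x + y + r) w = 1
        simp only [sympForm_add_left, hxw', hyw', hrw', zero_add]
      · change f (y + r) w = 1
        simp only [sympForm_add_left, hyw', hrw', zero_add]
      · exact hrw'
    let pr : V → Set V := fun z => {z, z + w}
    have hact : ∀ (u : V) (hu : f w u = 0) (z : V) (hz : f z w = 1),
        (transv u (1 : F) * transv w 1 : Matrix.symplecticGroup (Fin m) F) • z = z + (f z u) • u + w ∧
        (transv u (1 : F) * transv w 1 : Matrix.symplecticGroup (Fin m) F) • (z + w) = z + (f z u) • u := by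
      intro u hu z hz
      have e1 : transv w (1 : F) • z = z + w := by rw [transv_smul, one_mul, hz, one_smul]
      have e2 : transv w (1 : F) • (z + w) = z := by
        rw [transv_smul, one_mul, sympForm_add_left, sympForm_self, add_zero, hz, one_smul, add_assoc,
          V_add_self hF, add_zero]
      constructor
      · rw [mul_smul, e1, transv_smul, one_mul, sympForm_add_left, hu, add_zero]
        abel
      · rw [mul_smul, e2, transv_smul, one_mul]
    have hset : ∀ (u : V) (hu : f w u = 0) (z : V) (hz : f z w = 1),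
        (fun y => (transv u (1 : F) * transv w 1 : Matrix.symplecticGroup (Fin m) F) • y) '' (pr z) =
          pr (z + (f z u) • u) := by
      intro u hu z hz
      obtain ⟨e1, e2⟩ := hact u hu z hz
      change _ '' ({z, z + w} : Set V) = ({z + (f z u) • u, z + (f z u) • u + w} : Set V)
      rw [Set.image_pair, e1, e2, Set.pair_comm]
    -- action of `N2` on sets
    let act : MulAction N2 (Set V) :=
      { smul := fun g s => (fun y => (g : Matrix.symplecticGroup (Fin m) F) • y) '' s
        one_smul := fun s => by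
          change (fun y => ((1 : N2) : Matrix.symplecticGroup (Fin m) F) • y) '' s = s
          simp
        mul_smul := fun g h s => by
          change (fun y => ((g * h : N2) : Matrix.symplecticGroup (Fin m) F) • y) '' s =
            (fun y => (g : Matrix.symplecticGroup (Fin m) F) • y) ''
              ((fun y => (h : Matrix.symplecticGroup (Fin m) F) • y) '' s)
          rw [Set.image_image]
          simp only [Subgroup.coe_mul, mul_smul] }
    have c0v : f (z 0) v = 1 := by
      rw [hz0]; simp only [sympForm_add_left, sympForm_self, hxv, hyv, hrv, add_zero, zero_add]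
    have c1v : f (z 1) v = 1 := by
      rw [hz1]; simp only [sympForm_add_left, sympForm_self, hxv, hyv, hrv, add_zero, zero_add]
    have c2v : f (z 2) v = 0 := by
      rw [hz2]; simp only [sympForm_add_left, sympForm_self, hxv, hyv, hrv, add_zero, zero_add]
    have c3v : f (z 3) v = 0 := hrv
    have c0x : f (z 0) x = 0 := by
      rw [hz0]; simp only [sympForm_add_left, sympForm_self, hvx, hyx, hrx, add_zero, zero_add, h11]
    have c1x : f (z 1) x = 1 := by
      rw [hz1]; simp only [sympForm_add_left, sympForm_self, hvx, hyx, hrx, add_zero, zero_add, h11]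
    have c2x : f (z 2) x = 1 := by
      rw [hz2]; simp only [sympForm_add_left, sympForm_self, hvx, hyx, hrx, add_zero, zero_add, h11]
    have c3x : f (z 3) x = 0 := hrx
    have c0y : f (z 0) y = 0 := by
      rw [hz0]; simp only [sympForm_add_left, sympForm_self, hvy, hxy, hry, add_zero, zero_add, h11]
    have c1y : f (z 1) y = 0 := by
      rw [hz1]; simp only [sympForm_add_left, sympForm_self, hvy, hxy, hry, add_zero, zero_add, h11]
    have c2y : f (z 2) y = 1 := by
      rw [hz2]; simp only [sympForm_add_left, sympForm_self, hvy, hxy, hry, add_zero, zero_add, h11]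
    have c3y : f (z 3) y = 1 := hry
    have hinj : Function.Injective (fun j => pr (z j)) := by
      have hfv : ∀ (u : V), f w u = 0 → ∀ i j, pr (z i) = pr (z j) → f (z i) u = f (z j) u := by
        intro u hu i j hij
        have h1 : z i ∈ pr (z j) := by
          rw [← hij]
          exact Set.mem_insert _ _
        rcases h1 with h1 | h1
        · rw [h1]
        · have h2 : z i = z j + w := h1
          rw [h2, sympForm_add_left, hu, add_zero]
      intro i j hij
      have a1 := hfv v hwv i j hij
      have a2 := hfv x hwx i j hij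
      have a3 := hfv y hwy i j hij
      fin_cases i <;> fin_cases j <;> first
        | rfl
        | (exfalso
           simp only [Fin.zero_eta, Fin.mk_one, Fin.reduceFinMk, c0v, c1v, c2v, c3v, c0x, c1x, c2x, c3x, c0y, c1y, c2y,
             c3y, zero_ne_one, one_ne_zero] at a1 a2 a3)
    have hmem : ∀ u : V, H249.SpTwo.tr e u * H249.SpTwo.tr e w ∈ N →
        (transv u (1 : F) * transv w 1 : Matrix.symplecticGroup (Fin m) F) ∈ N2 := by
      intro u hu
      change tau e (transv u 1 * transv w 1) ∈ N
      rw [map_mul]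
      exact hu
    have hgen : ∀ (u : V) (hu : H249.SpTwo.tr e u * H249.SpTwo.tr e w ∈ N) (huw : f w u = 0) (σ : Equiv.Perm (Fin 4)),
        (∀ j, z j + (f (z j) u) • u = z (σ j)) → ∃ g : N2, ∀ j, g • pr (z j) = pr (z (σ j)) := by
      intro u hu huw σ hσ
      refine ⟨⟨_, hmem u hu⟩, fun j => ?_⟩
      change (fun y => (transv u (1 : F) * transv w 1 : Matrix.symplecticGroup (Fin m) F) • y) '' (pr (z j)) = _
      rw [hset u huw (z j) (hzw j), hσ]
    refine TTFour.involves_of_family (X := Set V) (fun j => pr (z j)) hinj fun i => ?_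
    have hvv : ∀ a b : V, a + b + a = b := fun a b => by
      rw [add_comm a b, add_assoc, V_add_self hF, add_zero]
    fin_cases i
    · apply hgen v hvw hwv
      intro j
      fin_cases j
      · change z 0 + (f (z 0) v) • v = z 1
        have h5 : v + x + y + r + v = v + (x + y + r) + v := by abel
        rw [c0v, one_smul, hz0, hz1, h5, hvv]
      · change z 1 + (f (z 1) v) • v = z 0
        rw [c1v, one_smul, hz0, hz1]
        abel
      · change z 2 + (f (z 2) v) • v = z 2
        rw [c2v, zero_smul, add_zero]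
      · change z 3 + (f (z 3) v) • v = z 3
        rw [c3v, zero_smul, add_zero]
    · apply hgen x hxw hwx
      intro j
      fin_cases j
      · change z 0 + (f (z 0) x) • x = z 0
        rw [c0x, zero_smul, add_zero]
      · change z 1 + (f (z 1) x) • x = z 2
        have h5 : x + y + r + x = x + (y + r) + x := by abel
        rw [c1x, one_smul, hz1, hz2, h5, hvv]
      · change z 2 + (f (z 2) x) • x = z 1
        rw [c2x, one_smul, hz1, hz2]
        abel
      · change z 3 + (f (z 3) x) • x = z 3
        rw [c3x, zero_smul, add_zero]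
    · apply hgen y hyw hwy
      intro j
      fin_cases j
      · change z 0 + (f (z 0) y) • y = z 0
        rw [c0y, zero_smul, add_zero]
      · change z 1 + (f (z 1) y) • y = z 1
        rw [c1y, zero_smul, add_zero]
      · change z 2 + (f (z 2) y) • y = z 3
        rw [c2y, one_smul, hz2, hz3, hvv]
      · change z 3 + (f (z 3) y) • y = z 2
        rw [c3y, one_smul, hz2, hz3]
        abel
  let θ : N2 →* N :=
    { toFun := fun g => ⟨tau e g, g.2⟩
      map_one' := Subtype.ext (map_one _)
      map_mul' := fun g h => Subtype.ext (map_mul _ _ _) }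
  have hθ : Function.Injective θ := fun g h hgh =>
    by
    have h5 : tau e (g : Matrix.symplecticGroup (Fin m) F) = tau e (h : Matrix.symplecticGroup (Fin m) F) :=
      congrArg (fun z : N => (z : G)) hgh
    exact Subtype.ext (tau_injective e hF (by have := S.hm; omega) h5)
  exact Lib.Involves.trans (Lib.Involves.of_injective θ hθ) hN2

end Cfsg.Agent.H57.TTSp
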