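import Cfsg.Agent.H57.TTS2208
import Cfsg.Agent.H57.TTSp

/-!
# S2208 from the classification of the 2-transitive groups with non-abelian socle (helper57)
-/

set_option autoImplicit false

namespace Cfsg.Agent.H57.TTS2208

open MulAction Cfsg.Agent.H384.TwoTrans Cfsg.Agent.Schreier.Basic Cfsg.Agent.H57.TTBend Cfsg.Agent.H57.TTPtN

universe u v

variable {G : Type u} {Ω : Type v} [Group G] [MulAction G Ω] {T : Subgroup G} {a : Ω} {N : Subgroup G}

/-- the orders of the sporadic groups of the list -/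
structure Ords (T : Type u) [Group T] : Prop where
  m11 : Cfsg.Spor.IsoM11 T → Nat.card T = 7920
  m12 : Cfsg.Spor.IsoM12 T → Nat.card T = 95040
  m22 : Cfsg.Spor.IsoM22 T → Nat.card T = 443520
  m23 : Cfsg.Spor.IsoM23 T → Nat.card T = 10200960
  m24 : Cfsg.Spor.IsoM24 T → Nat.card T = 244823040
  hs : Cfsg.Spor.IsoHS T → Nat.card T = 44352000
  co3 : Cfsg.Spor.IsoCo3 T → Nat.card T = 495766656000

theorem three_le [Finite Ω] [FaithfulSMul G Ω] (hle : N ≤ stabilizer G a) (hN : N ≠ ⊥) : 3 ≤ Nat.card Ω := by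
  by_contra hlt
  apply hN
  rw [Subgroup.eq_bot_iff_forall]
  intro n hn
  apply FaithfulSMul.eq_of_smul_eq_smul (α := Ω)
  intro b
  rw [one_smul]
  have hna : n • a = a := hle hn
  by_contra hne
  have hba : b ≠ a := by rintro rfl; exact hne hna
  have hnb : n • b ≠ a := fun h => hba (smul_left_cancel n (h.trans hna.symm))
  have h3 : ({a, b, n • b} : Set Ω).ncard = 3 := Set.ncard_eq_three.2 ⟨_, _, _, hba.symm, hnb.symm, Ne.symm hne, rfl⟩
  have h4 := Set.ncard_le_ncard (Set.subset_univ ({a, b, n • b} : Set Ω)) Set.finite_univ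
  rw [h3, Set.ncard_univ] at h4
  omega

/-- the almost simple case -/
theorem almost [Fintype Ω] (P : PN G Ω T a N) (hK : Known2 T (Nat.card Ω)) (ho : Ords T) :
    (Fintype.card Ω = 6 ∧ (Nonempty (G ≃* ↥(alternatingGroup (Fin 6))) ∨ Nonempty (G ≃* Equiv.Perm (Fin 6))) ∧
      ∃ (F : Type) (_ : Field F) (_ : Fintype F), Fintype.card F = 4 ∧
        Nonempty (↥N ≃* Matrix.ProjectiveSpecialLinearGroup (Fin 2) F)) ∨
    (Fintype.card Ω = 11 ∧ (∃ (F : Type) (_ : Field F) (_ : Fintype F), Fintype.card F = 11 ∧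
        Nonempty (G ≃* Matrix.ProjectiveSpecialLinearGroup (Fin 2) F)) ∧
      ∃ (F : Type) (_ : Field F) (_ : Fintype F), Fintype.card F = 4 ∧
        Nonempty (↥N ≃* Matrix.ProjectiveSpecialLinearGroup (Fin 2) F)) := by
  have hcard : Nat.card Ω = Fintype.card Ω := Nat.card_eq_fintype_card
  have hfinT := P.A.finT
  generalize hn : Nat.card Ω = n at hK
  cases hK with
  | alt n hn5 e =>
    obtain ⟨e⟩ := e
    have : Nontrivial (Fin n) := Fin.nontrivial_iff_two_le.2 (by omega)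
    have hT : 2 * Nat.card T = n.factorial := by
      rw [Nat.card_congr e.toEquiv, two_mul_nat_card_alternatingGroup, Nat.card_perm,
        Nat.card_eq_fintype_card (α := Fin _), Fintype.card_fin]
    rcases Nat.lt_or_ge n 7 with h7 | h7
    · rcases Nat.lt_or_ge n 6 with h6 | h6
      · exfalso
        have h5 : n = 5 := by omega
        subst h5
        have h8 : (5 : ℕ).factorial = 120 := rfl
        rw [h8] at hT
        have h1 := P.A.card_mul a
        rw [hn] at h1
        exact PN.small P (κ := 12) (by omega) (by norm_num)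
      · left
        have h6' : n = 6 := by omega
        subst h6'
        have h8 : (6 : ℕ).factorial = 720 := rfl
        rw [h8] at hT
        exact ⟨by omega, symm_six P (by omega) (by omega)⟩
    · exfalso
      exact symm_big P (by omega) (by rw [hT, hn])
  | psl F d n hd hd2 e hn' =>
    exfalso
    obtain ⟨p, hch⟩ := CharP.exists F
    obtain ⟨k, hp, hk⟩ := FiniteField.card F p
    have : Fact p.Prime := ⟨hp⟩
    refine of_rgd P (p := p) (Cfsg.Agent.Nodes.RGDClass.hasRGD_of_PSL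
      ⟨F, inferInstance, inferInstance, hch, d, hd, hd2, e⟩) ?_
    rw [hn]
    intro h
    have hq : p ∣ Fintype.card F := by rw [hk]; exact dvd_pow_self p k.2.ne'
    have h1 : p ∣ Fintype.card F ^ d - 1 := by rw [← hn']; exact h.mul_right _
    have h2 : p ∣ Fintype.card F ^ d := dvd_pow hq (by omega)
    have h3 : 1 ≤ Fintype.card F ^ d := Nat.one_le_pow _ _ Fintype.card_pos
    have h4 := (Nat.dvd_sub_iff_right h3 h2).1 h1
    exact hp.one_lt.ne' (Nat.dvd_one.1 h4)
  | sp F m n hF hm e hn' =>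
    exfalso
    obtain ⟨e⟩ := e
    obtain ⟨Q, hQ, htr, -⟩ := Cfsg.Agent.H249.SpTwo.main e P.A hF hm (by rw [hn]; exact hn') a
    exact TTSp.Sit.false (e := e) (Q := Q) ⟨P, hF, hm, hQ, htr⟩
  | psu F q n hq hF e hn' =>
    exfalso
    obtain ⟨p, hch⟩ := CharP.exists F
    obtain ⟨k, hp, hk⟩ := FiniteField.card F p
    have : Fact p.Prime := ⟨hp⟩
    refine of_rgd P (p := p) (Cfsg.Agent.Nodes.RGDClass.hasRGD_of_PSU
      ⟨F, inferInstance, inferInstance, hch, 3, q, hF, le_rfl, by omega, e⟩) ?_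
    rw [hn, hn']
    intro h
    have hq' : p ∣ q := by
      have : p ∣ q ^ 2 := by rw [← hF, hk]; exact dvd_pow_self p k.2.ne'
      exact hp.dvd_of_dvd_pow this
    have h1 : p ∣ q ^ 3 := dvd_pow hq' (by norm_num)
    have h2 := (Nat.dvd_add_right h1).1 h
    exact hp.one_lt.ne' (Nat.dvd_one.1 h2)
  | sz F m n hm hF e hn' =>
    exfalso
    obtain ⟨e⟩ := e
    have hT : Nat.card T = (2 ^ (2 * m + 1)) ^ 2 * (2 ^ (2 * m + 1) - 1) * ((2 ^ (2 * m + 1)) ^ 2 + 1) := by
      rw [Nat.card_congr e.toEquiv]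
      exact Cfsg.Agent.H438.SzMax.card_sz hF
    refine sz P (m := m) (by rw [hn, hn', hF]) hT ?_
    rw [hT]
    intro h3
    have e2 : 2 ^ (2 * m + 1) % 3 = 2 := by
      rw [pow_succ, pow_mul, Nat.mul_mod, Nat.pow_mod]; norm_num
    generalize 2 ^ (2 * m + 1) = x at h3 e2
    rw [Nat.prime_three.dvd_mul, Nat.prime_three.dvd_mul] at h3
    rcases h3 with (h3 | h3) | h3
    · have := Nat.prime_three.dvd_of_dvd_pow h3
      omega
    · omega
    · have h5 : x ^ 2 % 3 = 1 := by rw [Nat.pow_mod, e2]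
      omega
  | ree K m n hm hK e hn' =>
    exfalso
    obtain ⟨e⟩ := e
    refine ree P (m := m) (by rw [hn, hn', hK]) ?_
    rw [Nat.card_congr e.toEquiv, Cfsg.Agent.ChevalleyStructure.ReeCount.card_twistedG2 hK]
    ring
  | psl2_8 F hF e =>
    exfalso
    obtain ⟨e⟩ := e
    obtain ⟨hT, -, -⟩ := TTL28.psl_facts hF e
    have h1 := P.A.card_mul a
    rw [hn, hT] at h1
    exact PN.small P (κ := 18) (by omega) (by norm_num)
  | psl2_9 F hF e =>
    left
    obtain ⟨e⟩ := e
    have hT : Nat.card T = 360 := by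
      have h1 := Cfsg.Agent.ClassicalGeometry.PSL2Basic.card_PSL2_odd F (by rw [hF]; decide)
      rw [hF] at h1
      rw [Nat.card_congr e.toEquiv]
      omega
    exact ⟨by omega, symm_six P (by omega) hT⟩
  | psl2_11 F hF e =>
    right
    obtain ⟨e⟩ := e
    exact ⟨by omega, psl_eleven P (by omega) hF e⟩
  | psl4_2 F hF e =>
    exfalso
    obtain ⟨e⟩ := e
    refine symm_big P (by omega) ?_
    have h1 := Cfsg.Agent.S0243.result (F := F) hF 4 (by norm_num)
    rw [Fin.prod_univ_four] at h1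
    norm_num at h1
    rw [hn, Nat.card_congr e.toEquiv, h1]
    rfl
  | a7 e =>
    exfalso
    obtain ⟨e⟩ := e
    refine a7 P hn ?_
    have h2 : 2 * Nat.card (alternatingGroup (Fin 7)) = 5040 := by
      rw [Nat.card_eq_fintype_card, two_mul_card_alternatingGroup, Fintype.card_perm, Fintype.card_fin]
      rfl
    rw [Nat.card_congr e.toEquiv]
    omega
  | m11 h => exfalso; exact m11 P hn (ho.m11 h)
  | m11' h => exfalso; exact m11' P hn (ho.m11 h)
  | m12 h => exfalso; exact m12 P hn (ho.m12 h)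
  | m22 h => exfalso; exact m22 P hn (ho.m22 h)
  | m23 h => exfalso; exact m23 P hn (ho.m23 h)
  | m24 h => exfalso; exact m24 P hn (ho.m24 h)
  | hs h => exfalso; exact hs P h hn (ho.hs h)
  | co3 h => exfalso; exact co3 P h hn (ho.co3 h)

theorem main [Finite G] [Fintype Ω] [FaithfulSMul G Ω]
    (h2 : MulAction.IsMultiplyPretransitive G Ω 2) (a : Ω) (N : Subgroup G) (hNle : N ≤ MulAction.stabilizer G a)
    (hNnormal : ∀ g ∈ MulAction.stabilizer G a, ∀ n ∈ N, g * n * g⁻¹ ∈ N) (hN : BN N)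
    (hK : ∀ T : Subgroup G, AS G Ω T → Known2 T (Nat.card Ω)) (hS : ∀ T : Subgroup G, AS G Ω T → Sch ↥T)
    (ho : ∀ T : Subgroup G, Ords T) :
    (Fintype.card Ω = 6 ∧ (Nonempty (G ≃* ↥(alternatingGroup (Fin 6))) ∨ Nonempty (G ≃* Equiv.Perm (Fin 6))) ∧
      ∃ (F : Type) (_ : Field F) (_ : Fintype F), Fintype.card F = 4 ∧
        Nonempty (↥N ≃* Matrix.ProjectiveSpecialLinearGroup (Fin 2) F)) ∨
    (Fintype.card Ω = 11 ∧ (∃ (F : Type) (_ : Field F) (_ : Fintype F), Fintype.card F = 11 ∧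
        Nonempty (G ≃* Matrix.ProjectiveSpecialLinearGroup (Fin 2) F)) ∧
      ∃ (F : Type) (_ : Field F) (_ : Fintype F), Fintype.card F = 4 ∧
        Nonempty (↥N ≃* Matrix.ProjectiveSpecialLinearGroup (Fin 2) F)) ∨
    (∃ R : Subgroup G, R.Normal ∧ (∀ x y : Ω, ∃ r ∈ R, r • x = y) ∧ ∀ x : Ω, ∀ r ∈ R, r • x = x → r = 1) := by
  have hN1 : N ≠ ⊥ := by
    have := hN.simple
    intro h
    have h1 : Nontrivial N := inferInstance
    rw [h] at h1
    exact not_nontrivial _ h1
  rcases reduction h2 (three_le hNle hN1) with ⟨R, hR, -, -, -, htr, hsr⟩ | ⟨T, A⟩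
  · exact Or.inr (Or.inr ⟨R, hR, htr, hsr⟩)
  · rcases almost ⟨A, hS T A, hNle, hNnormal, hN⟩ (hK T A) (ho T) with h | h
    · exact Or.inl h
    · exact Or.inr (Or.inl h)

end Cfsg.Agent.H57.TTS2208
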