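import Cfsg.Agent.H57.TTS2200A
import Cfsg.Agent.H410.ASLie

/-!
# S2200: the row `PSL_d(q)`, `d ≥ 4` even, `q` odd
-/

set_option autoImplicit false

namespace Cfsg.Agent.H57.TTS2200

open Matrix
open scoped LinearAlgebra.Projectivization

section Blk

variable {ι κ : Type*} [Fintype ι] [DecidableEq ι] [Fintype κ] [DecidableEq κ] {μ : Type*} [Fintype μ] [DecidableEq μ]
  {F : Type*} [Field F]

/-- `SL(ι) → SL(μ)`, `ι ⊕ κ ≃ μ` -/
def bl (E : ι ⊕ κ ≃ μ) : SpecialLinearGroup ι F →* SpecialLinearGroup μ F where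
  toFun A := ⟨reindex E E (fromBlocks A.1 0 0 1), by
    rw [det_reindex_self, det_fromBlocks_zero₂₁, A.2, det_one, mul_one]⟩
  map_one' := by
    apply Subtype.ext
    change reindex E E (fromBlocks 1 0 0 1) = 1
    rw [fromBlocks_one, reindex_apply, submatrix_one_equiv]
  map_mul' A B := by
    apply Subtype.ext
    change reindex E E (fromBlocks (A.1 * B.1) 0 0 1) = reindex E E _ * reindex E E _
    rw [reindex_apply, reindex_apply, reindex_apply, submatrix_mul_equiv, fromBlocks_multiply]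
    simp

theorem bl_apply (E : ι ⊕ κ ≃ μ) (A : SpecialLinearGroup ι F) (i j : ι) :
    (bl E A).1 (E (Sum.inl i)) (E (Sum.inl j)) = A.1 i j := by
  change reindex E E _ _ _ = _
  rw [reindex_apply, submatrix_apply, E.symm_apply_apply, E.symm_apply_apply, fromBlocks_apply₁₁]

theorem bl_apply_inr (E : ι ⊕ κ ≃ μ) (A : SpecialLinearGroup ι F) (i : κ) (j : ι) :
    (bl E A).1 (E (Sum.inr i)) (E (Sum.inl j)) = 0 := by
  change reindex E E _ _ _ = _
  rw [reindex_apply, submatrix_apply, E.symm_apply_apply, E.symm_apply_apply, fromBlocks_apply₂₁]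
  rfl

/-- the coordinate points -/
def pt (F : Type*) [Field F] (i : μ) : ℙ F (μ → F) :=
  Projectivization.mk F (Pi.single i 1) (by simp)

omit [Fintype μ] in
theorem pt_injective : Function.Injective (pt F : μ → ℙ F (μ → F)) := by
  intro i j h
  unfold pt at h
  rw [Projectivization.mk_eq_mk_iff'] at h
  obtain ⟨c, hc⟩ := h
  by_contra hij
  have h1 := congrFun hc i
  rw [Pi.smul_apply, Pi.single_eq_same, Pi.single_eq_of_ne hij, smul_zero] at h1
  exact zero_ne_one h1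

theorem bl_pt (E : ι ⊕ κ ≃ μ) (A : SpecialLinearGroup ι F) {i : ι} (h : ∀ j, j ≠ i → A.1 j i = 0) :
    bl E A • pt F (E (Sum.inl i)) = pt F (E (Sum.inl i)) := by
  unfold pt
  rw [Projectivization.smul_mk, Projectivization.mk_eq_mk_iff']
  refine ⟨A.1 i i, ?_⟩
  change _ = (bl E A).1 *ᵥ Pi.single (E (Sum.inl i)) 1
  rw [Matrix.mulVec_single_one]
  funext l
  obtain ⟨l, rfl⟩ := E.surjective l
  rw [Pi.smul_apply, Matrix.col_apply]
  rcases l with j | j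
  · rw [bl_apply]
    by_cases hj : j = i
    · subst hj
      rw [Pi.single_eq_same, smul_eq_mul, mul_one]
    · rw [h j hj, Pi.single_eq_of_ne (fun h1 => hj (Sum.inl_injective (E.injective h1))), smul_zero]
  · rw [bl_apply_inr, Pi.single_eq_of_ne (fun h1 => Sum.inr_ne_inl (E.injective h1)), smul_zero]

/-- the image in `PSL` is trivial only for scalar matrices -/
theorem bl_mk_eq_one (E : ι ⊕ κ ≃ μ) {A : SpecialLinearGroup ι F}
    (h : ((bl E A : SpecialLinearGroup μ F) : ProjectiveSpecialLinearGroup μ F) = 1) (i j : ι) : A.1 i i = A.1 j j := by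
  have h1 : bl E A ∈ Subgroup.center (SpecialLinearGroup μ F) := (QuotientGroup.eq_one_iff _).1 h
  obtain ⟨r, -, hr⟩ := Matrix.SpecialLinearGroup.mem_center_iff.1 h1
  have h2 : ∀ i : ι, A.1 i i = r := by
    intro i
    rw [← bl_apply E A i i, ← hr, scalar_apply, diagonal_apply_eq]
  rw [h2, h2]

end Blk

/-! ### the matrices -/

section Mat

variable {F : Type*} [Field F]

/-- `i` -/
def mx (F : Type*) [Field F] : SpecialLinearGroup (Fin 4) F :=
  ⟨!![1, 0, 0, 0; 0, 1, 0, 0; 0, 0, 0, 1; 0, 0, -1, 0], by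
    simp [det_succ_row_zero, Fin.sum_univ_succ, Fin.succAbove]⟩

/-- `j` -/
def my {α β : F} (h : α ^ 2 + β ^ 2 = -1) : SpecialLinearGroup (Fin 4) F :=
  ⟨!![1, 0, 0, 0; 0, 1, 0, 0; 0, 0, α, β; 0, 0, β, -α], by
    simp [det_succ_row_zero, Fin.sum_univ_succ, Fin.succAbove]
    linear_combination -h⟩

/-- an involution -/
def mt (F : Type*) [Field F] : SpecialLinearGroup (Fin 4) F :=
  ⟨!![-1, 0, 0, 0; 0, 1, 0, 0; 0, 0, -1, 0; 0, 0, 0, 1], by
    simp [det_succ_row_zero, Fin.sum_univ_succ, Fin.succAbove]⟩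

theorem mx_sq {α β : F} (h : α ^ 2 + β ^ 2 = -1) : mx F * mx F = my h * my h := by
  apply Subtype.ext
  change !![1, 0, 0, 0; 0, 1, 0, 0; 0, 0, 0, 1; 0, 0, -1, 0] * !![1, 0, 0, 0; 0, 1, 0, 0; 0, 0, 0, 1; 0, 0, -1, 0] =
    !![1, 0, 0, 0; 0, 1, 0, 0; 0, 0, α, β; 0, 0, β, -α] * !![1, 0, 0, 0; 0, 1, 0, 0; 0, 0, α, β; 0, 0, β, -α]
  ext i j
  fin_cases i <;> fin_cases j <;> simp [Matrix.mul_apply, Fin.sum_univ_succ]
  · linear_combination -h
  · ring
  · ring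
  · linear_combination -h

theorem my_mx {α β : F} (h : α ^ 2 + β ^ 2 = -1) : mx F * my h * mx F = my h := by
  apply Subtype.ext
  change !![1, 0, 0, 0; 0, 1, 0, 0; 0, 0, 0, 1; 0, 0, -1, 0] * !![1, 0, 0, 0; 0, 1, 0, 0; 0, 0, α, β; 0, 0, β, -α] *
    !![1, 0, 0, 0; 0, 1, 0, 0; 0, 0, 0, 1; 0, 0, -1, 0] = !![1, 0, 0, 0; 0, 1, 0, 0; 0, 0, α, β; 0, 0, β, -α]
  ext i j
  fin_cases i <;> fin_cases j <;> simp [Matrix.mul_apply, Fin.sum_univ_succ]

theorem mx_sq_apply : (mx F * mx F).1 = !![1, 0, 0, 0; 0, 1, 0, 0; 0, 0, -1, 0; 0, 0, 0, -1] := by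
  change !![1, 0, 0, 0; 0, 1, 0, 0; 0, 0, 0, 1; 0, 0, -1, 0] * !![1, 0, 0, 0; 0, 1, 0, 0; 0, 0, 0, 1; 0, 0, -1, 0] = _
  ext i j
  fin_cases i <;> fin_cases j <;> simp [Matrix.mul_apply, Fin.sum_univ_succ]

theorem mx_mt : mx F * mx F * mt F = mt F * (mx F * mx F) := by
  apply Subtype.ext
  change (mx F * mx F).1 * (mt F).1 = (mt F).1 * (mx F * mx F).1
  rw [mx_sq_apply]
  change _ * !![-1, 0, 0, 0; 0, 1, 0, 0; 0, 0, -1, 0; 0, 0, 0, 1] = !![-1, 0, 0, 0; 0, 1, 0, 0; 0, 0, -1, 0; 0, 0, 0, 1] * _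
  ext i j
  fin_cases i <;> fin_cases j <;> simp [Matrix.mul_apply, Fin.sum_univ_succ]

theorem mt_sq : mt F * mt F = 1 := by
  apply Subtype.ext
  change !![-1, 0, 0, 0; 0, 1, 0, 0; 0, 0, -1, 0; 0, 0, 0, 1] * !![-1, 0, 0, 0; 0, 1, 0, 0; 0, 0, -1, 0; 0, 0, 0, 1] = 1
  ext i j
  fin_cases i <;> fin_cases j <;> simp [Matrix.mul_apply, Fin.sum_univ_succ]

theorem mx_four : mx F * mx F * (mx F * mx F) = 1 := by
  apply Subtype.ext
  change (mx F * mx F).1 * (mx F * mx F).1 = 1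
  rw [mx_sq_apply]
  ext i j
  fin_cases i <;> fin_cases j <;> simp [Matrix.mul_apply, Fin.sum_univ_succ]

end Mat

universe u v

open MulAction Subgroup H384.TwoTrans TTSmall in
theorem psl_row {G : Type u} {Ω : Type v} [Group G] [MulAction G Ω] {T : Subgroup G} (A : AS G Ω T) (hS : SmG G Ω)
    (F : Type*) [Field F] [Fintype F] {d : ℕ} (hd : 3 ≤ d) (e : T ≃* Matrix.ProjectiveSpecialLinearGroup (Fin d) F)
    (hn : Nat.card Ω * (Fintype.card F - 1) = Fintype.card F ^ d - 1) (hev : Even (Nat.card Ω)) : False := by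
  have := A.finG
  obtain ⟨p, hchar⟩ := CharP.exists F
  obtain ⟨⟨f, hf0⟩, hp, hf⟩ := FiniteField.card F p
  have := Fact.mk hp
  simp only [PNat.mk_coe] at hf
  have hq2 : 2 ≤ Fintype.card F := Fintype.one_lt_card
  have hpF : p ∣ Fintype.card F := by
    rw [hf]; exact dvd_pow_self p (by omega)
  have hpn : ¬ p ∣ Nat.card Ω := by
    intro h
    have h1 : p ∣ Fintype.card F ^ d - 1 := by
      rw [← hn]; exact h.mul_right _
    have h2 : p ∣ Fintype.card F ^ d := hpF.trans (dvd_pow_self _ (by omega))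
    have h3 : 1 ≤ Fintype.card F ^ d := Nat.one_le_pow _ _ (by omega)
    have h4 := (Nat.dvd_sub_iff_right h3 h2).1 h1
    exact hp.one_lt.ne' (Nat.dvd_one.1 h4)
  have hp2 : p ≠ 2 := by
    rintro rfl
    exact hpn hev.two_dvd
  have hqodd : Odd (Fintype.card F) := by
    rw [hf]; exact (hp.odd_of_ne_two hp2).pow
  have hd2 : 2 ∣ d := by
    have h1 : Nat.card Ω = ∑ k ∈ Finset.range d, Fintype.card F ^ k := by
      rw [Nat.geomSum_eq hq2, ← hn, Nat.mul_div_cancel _ (by omega)]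
    have h2 : ((Nat.card Ω : ℕ) : ZMod 2) = 0 := (ZMod.natCast_eq_zero_iff _ _).2 hev.two_dvd
    rw [h1] at h2
    push_cast at h2
    have h3 : ((Fintype.card F : ℕ) : ZMod 2) = 1 := by
      obtain ⟨k, hk⟩ := hqodd
      rw [hk]
      push_cast
      have : (2 : ZMod 2) = 0 := by decide
      rw [this, zero_mul, zero_add]
    rw [h3] at h2
    simp only [one_pow, Finset.sum_const, Finset.card_range, nsmul_eq_mul, mul_one] at h2
    exact (ZMod.natCast_eq_zero_iff _ _).1 h2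
  have hd4 : 4 ≤ d := by omega
  obtain ⟨m, rfl⟩ : ∃ m, d = m + 1 + 1 := ⟨d - 2, by omega⟩
  obtain ⟨e', Φ, hΦ⟩ := H410.ASLie.psl_equiv A e hpn
  let E : Fin 4 ⊕ Fin (m + 1 + 1 - 4) ≃ Fin (m + 1 + 1) := Fintype.equivOfCardEq (by
    rw [Fintype.card_sum, Fintype.card_fin, Fintype.card_fin, Fintype.card_fin]; omega)
  have h20 : (2 : F) ≠ 0 := by
    intro h
    have h1 : ((2 : ℕ) : F) = 0 := by push_cast; exact h
    rw [CharP.cast_eq_zero_iff F p] at h1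
    exact hp2 ((Nat.prime_dvd_prime_iff_eq hp Nat.prime_two).1 h1)
  obtain ⟨α, β, hαβ⟩ : ∃ α β : F, α ^ 2 + β ^ 2 = -1 := by
    obtain ⟨a, b, hab⟩ := ZMod.sq_add_sq p (-1)
    refine ⟨ZMod.castHom (dvd_refl p) F a, ZMod.castHom (dvd_refl p) F b, ?_⟩
    rw [← map_pow, ← map_pow, ← map_add, hab, map_neg, map_one]
  let γ : Matrix.SpecialLinearGroup (Fin 4) F →* T :=
    e'.symm.toMonoidHom.comp ((QuotientGroup.mk' _).comp (bl E))
  let δ : Matrix.SpecialLinearGroup (Fin 4) F →* G := T.subtype.comp γ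
  have hfix : ∀ (s : Matrix.SpecialLinearGroup (Fin 4) F) (i : Fin 4), (∀ j, j ≠ i → s.1 j i = 0) →
      δ s • Φ.symm (pt F (E (Sum.inl i))) = Φ.symm (pt F (E (Sum.inl i))) := by
    intro s i h
    apply Φ.injective
    have h1 : Φ (δ s • Φ.symm (pt F (E (Sum.inl i)))) = e' (γ s) • Φ (Φ.symm (pt F (E (Sum.inl i)))) := hΦ (γ s) _
    rw [h1, Equiv.apply_symm_apply]
    change e' (e'.symm _) • _ = _
    rw [MulEquiv.apply_symm_apply]
    exact bl_pt E s h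
  have hone : ∀ s, δ s = 1 → ∀ i j : Fin 4, s.1 i i = s.1 j j := by
    intro s h
    have h1 : γ s = 1 := Subtype.ext h
    have h2 : ((bl E s : Matrix.SpecialLinearGroup (Fin (m + 1 + 1)) F) :
        Matrix.ProjectiveSpecialLinearGroup (Fin (m + 1 + 1)) F) = 1 := e'.symm.injective (h1.trans (map_one _).symm)
    exact bl_mk_eq_one E h2
  have hneg : (1 : F) ≠ -1 := by
    intro h
    apply h20
    linear_combination h
  have hab : Φ.symm (pt F (E (Sum.inl 0))) ≠ Φ.symm (pt F (E (Sum.inl 1))) := by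
    intro h
    have h1 := Sum.inl_injective (E.injective (pt_injective (Φ.symm.injective h)))
    exact absurd h1 (by decide)
  refine hS.noQV hab (x := δ (mx F)) (y := δ (my hαβ)) (u := δ (mx F * mx F)) (v := δ (mt F))
    (hfix _ 0 ?_) (hfix _ 1 ?_) (hfix _ 0 ?_) (hfix _ 1 ?_) (hfix _ 0 ?_) (hfix _ 1 ?_) (hfix _ 0 ?_) (hfix _ 1 ?_)
    ?_ ?_ ?_ ?_ ?_ ?_ ?_ ?_ ?_
  · change ∀ j, j ≠ 0 → !![1, 0, 0, 0; 0, 1, 0, 0; 0, 0, 0, 1; 0, 0, -1, 0] j 0 = (0 : F)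
    intro j hj
    fin_cases j <;> simp at hj ⊢
  · change ∀ j, j ≠ 1 → !![1, 0, 0, 0; 0, 1, 0, 0; 0, 0, 0, 1; 0, 0, -1, 0] j 1 = (0 : F)
    intro j hj
    fin_cases j <;> simp at hj ⊢
  · change ∀ j, j ≠ 0 → !![1, 0, 0, 0; 0, 1, 0, 0; 0, 0, α, β; 0, 0, β, -α] j 0 = (0 : F)
    intro j hj
    fin_cases j <;> simp at hj ⊢
  · change ∀ j, j ≠ 1 → !![1, 0, 0, 0; 0, 1, 0, 0; 0, 0, α, β; 0, 0, β, -α] j 1 = (0 : F)
    intro j hj
    fin_cases j <;> simp at hj ⊢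
  · rw [mx_sq_apply]
    intro j hj
    fin_cases j <;> simp at hj ⊢
  · rw [mx_sq_apply]
    intro j hj
    fin_cases j <;> simp at hj ⊢
  · change ∀ j, j ≠ 0 → !![-1, 0, 0, 0; 0, 1, 0, 0; 0, 0, -1, 0; 0, 0, 0, 1] j 0 = (0 : F)
    intro j hj
    fin_cases j <;> simp at hj ⊢
  · change ∀ j, j ≠ 1 → !![-1, 0, 0, 0; 0, 1, 0, 0; 0, 0, -1, 0; 0, 0, 0, 1] j 1 = (0 : F)
    intro j hj
    fin_cases j <;> simp at hj ⊢
  · rw [← map_mul, ← map_mul, mx_sq hαβ]
  · rw [← map_mul]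
    intro h
    have h1 := hone _ h 0 2
    rw [mx_sq_apply] at h1
    exact hneg (by simpa using h1)
  · rw [mul_inv_eq_iff_eq_mul, ← map_mul]
    rw [eq_inv_mul_iff_mul_eq, ← map_mul, ← mul_assoc, my_mx]
  · rw [← map_mul, mx_four, map_one]
  · rw [← map_mul, mt_sq, map_one]
  · rw [← map_mul, ← map_mul, mx_mt]
  · intro h
    have h1 := hone _ h 0 2
    rw [mx_sq_apply] at h1
    exact hneg (by simpa using h1)
  · intro h
    have h1 := hone _ h 0 1
    exact hneg (show (-1 : F) = 1 from h1).symm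
  · intro h
    have h0 : δ (mx F * mx F * mt F) = 1 := by rw [map_mul, h, ← map_mul, mt_sq, map_one]
    have h1 := hone _ h0 0 1
    have h2 : (mx F * mx F * mt F).1 = (mx F * mx F).1 * (mt F).1 := rfl
    rw [h2, mx_sq_apply] at h1
    change (_ * !![-1, 0, 0, 0; 0, 1, 0, 0; 0, 0, -1, 0; 0, 0, 0, 1] : Matrix _ _ F) 0 0 =
      (_ * !![-1, 0, 0, 0; 0, 1, 0, 0; 0, 0, -1, 0; 0, 0, 0, 1] : Matrix _ _ F) 1 1 at h1
    simp [Matrix.mul_apply, Fin.sum_univ_succ] at h1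
    exact hneg h1.symm

end Cfsg.Agent.H57.TTS2200
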