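import Cfsg.Agent.KFacts.HS.DFour
import Cfsg.Agent.KFacts.HS.Sheet
import Cfsg.Agent.CTwoTab.Co3

/-!
# Orders of involution centralisers in `HS` and `Co₃` (helper57)
-/

set_option autoImplicit false

namespace Cfsg.Agent.H57.TTSpor

open Subgroup

theorem card_cent_conj {L : Type*} [Group L] (c x : L) :
    Nat.card (centralizer ({c * x * c⁻¹} : Set L)) = Nat.card (centralizer ({x} : Set L)) := by
  have h : centralizer ({c * x * c⁻¹} : Set L) = (centralizer ({x} : Set L)).map (MulAut.conj c).toMonoidHom := by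
    ext y
    constructor
    · intro hy
      rw [mem_centralizer_singleton_iff] at hy
      refine ⟨c⁻¹ * y * c, ?_, ?_⟩
      · rw [SetLike.mem_coe, mem_centralizer_singleton_iff]
        calc c⁻¹ * y * c * x = c⁻¹ * (y * (c * x * c⁻¹)) * c := by group
          _ = c⁻¹ * (c * x * c⁻¹ * y) * c := by rw [hy]
          _ = x * (c⁻¹ * y * c) := by group
      · change c * (c⁻¹ * y * c) * c⁻¹ = y
        group
    · rintro ⟨w, hw, rfl⟩
      rw [SetLike.mem_coe, mem_centralizer_singleton_iff] at hw
      rw [mem_centralizer_singleton_iff]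
      change c * w * c⁻¹ * (c * x * c⁻¹) = c * x * c⁻¹ * (c * w * c⁻¹)
      calc c * w * c⁻¹ * (c * x * c⁻¹) = c * (w * x) * c⁻¹ := by group
        _ = c * (x * w) * c⁻¹ := by rw [hw]
        _ = _ := by group
  rw [h]
  exact (Nat.card_congr ((centralizer ({x} : Set L)).equivMapOfInjective _ (MulAut.conj c).injective).toEquiv).symm

theorem card_cent_equiv {L M : Type*} [Group L] [Group M] (e : L ≃* M) (x : L) :
    Nat.card (centralizer ({e x} : Set M)) = Nat.card (centralizer ({x} : Set L)) := by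
  have h : centralizer ({e x} : Set M) = (centralizer ({x} : Set L)).map e.toMonoidHom := by
    ext y
    constructor
    · intro hy
      rw [mem_centralizer_singleton_iff] at hy
      refine ⟨e.symm y, ?_, e.apply_symm_apply y⟩
      rw [SetLike.mem_coe, mem_centralizer_singleton_iff]
      apply e.injective
      rw [map_mul, map_mul, e.apply_symm_apply, hy]
    · rintro ⟨w, hw, rfl⟩
      rw [SetLike.mem_coe, mem_centralizer_singleton_iff] at hw
      rw [mem_centralizer_singleton_iff]
      change e w * e x = e x * e w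
      rw [← map_mul, ← map_mul, hw]
  rw [h]
  exact (Nat.card_congr ((centralizer ({x} : Set L)).equivMapOfInjective _ e.injective).toEquiv).symm

theorem hs_cent {L : Type*} [Group L] [Finite L] (h : Cfsg.Spor.IsoHS L) {z : L} (hz : orderOf z = 2) :
    Nat.card (centralizer ({z} : Set L)) = 7680 ∨ Nat.card (centralizer ({z} : Set L)) ≤ 2880 := by
  obtain ⟨D⟩ := Cfsg.Agent.KFacts.HS.exists_mod h
  have h1 := Cfsg.Agent.KFacts.HS.DFour.card_C D
  have h2 := Cfsg.Agent.KFacts.HS.Mod.card_centralizer D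
  have hzz : z * z = 1 := by rw [← pow_two, ← hz, pow_orderOf_eq_one]
  have hz1 : z ≠ 1 := by
    rintro rfl
    rw [orderOf_one] at hz
    omega
  have h3 : Nat.card (centralizer ({Cfsg.Agent.KFacts.HS.DFour.zA D} : Set L)) = 7680 := by
    rcases Cfsg.Agent.KFacts.HS.DFour.inv_cases D D.z (Cfsg.Agent.KFacts.HS.Mod.zz D)
      (Cfsg.Agent.KFacts.HS.Mod.z1 D) with ⟨c, hc⟩ | ⟨c, hc⟩
    · rw [← hc, card_cent_conj] at h2
      exact h2
    · rw [← hc, card_cent_conj] at h2
      omega
  rcases Cfsg.Agent.KFacts.HS.DFour.inv_cases D z hzz hz1 with ⟨c, hc⟩ | ⟨c, hc⟩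
  · left; rw [← hc, card_cent_conj]; exact h3
  · right; rw [← hc, card_cent_conj]; exact h1

theorem co3_cent {L : Type*} [Group L] [Finite L] (h : Cfsg.Spor.IsoCo3 L) {z : L} (hz : orderOf z = 2) :
    Nat.card (centralizer ({z} : Set L)) ≤ 2903040 := by
  obtain ⟨e⟩ := h
  obtain ⟨w, D⟩ := Cfsg.Agent.CTwoTab.Co3.exists_data
  have hf := Cfsg.Agent.CTwoTab.Co3.finite_G3
  let e' := e.trans Cfsg.Agent.SporRec.Co3.Model.equivCo3.symm
  have key : ∀ s, orderOf s = 2 →
      Nat.card (centralizer ({s} : Set Cfsg.Agent.SporRec.Co3.Chain.G3)) ≤ 2903040 := by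
    intro s hs
    obtain ⟨g, hg | hg⟩ := D.cls s hs
    · rw [hg, card_cent_conj]
      obtain ⟨π, N⟩ := D.ns
      exact (Cfsg.Agent.CTwoTab.Co3.card_of_NS N).le
    · rw [hg, card_cent_conj]
      obtain ⟨f, hf1, hf2⟩ := D.hom
      have h1 := Subgroup.card_mul_index f.ker
      rw [Subgroup.index_ker, MonoidHom.range_eq_top.2 hf1, Subgroup.card_top, D.card] at h1
      have h2 : Nat.card f.ker ≤ 2 := by
        have h3 : (f.ker : Set (centralizer ({w} : Set Cfsg.Agent.SporRec.Co3.Chain.G3))).ncard ≤ ({(1 : Cfsg.Agent.SporRec.Co3.Chain.G3), w} : Set _).ncard := by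
          refine Set.ncard_le_ncard_of_injOn Subtype.val ?_ (Subtype.val_injective.injOn)
            (Set.toFinite _)
          intro x hx
          rcases hf2 x hx with h4 | h4
          · left; rw [h4]; rfl
          · right; exact h4
        have h4 : ({(1 : Cfsg.Agent.SporRec.Co3.Chain.G3), w} : Set _).ncard ≤ 2 := by
          refine (Set.ncard_insert_le _ _).trans ?_
          rw [Set.ncard_singleton]
        rw [← Nat.card_coe_set_eq] at h3
        exact h3.trans h4
      calc _ = Nat.card f.ker * 95040 := h1.symm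
        _ ≤ 2 * 95040 := Nat.mul_le_mul_right _ h2
        _ ≤ 2903040 := by norm_num
  rw [← card_cent_equiv e']
  exact key _ (by rw [MulEquiv.orderOf_eq]; exact hz)

end Cfsg.Agent.H57.TTSpor
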