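import Cfsg.Agent.H57.TTPtN
import Cfsg.Agent.H57.TTSpor
import Cfsg.Agent.H57.TTPar
import Cfsg.Agent.H57.TTL28
import Cfsg.Agent.H347.Aff.Alt
import Cfsg.Agent.H347.Aff.Main
import Cfsg.Agent.S0679
import Cfsg.Agent.S0243
import Cfsg.Agent.Nodes.RGDClass

/-!
# S2208: rows (helper57)
-/

set_option autoImplicit false

namespace Cfsg.Agent.H57.TTS2208

open MulAction Cfsg.Agent.H384.TwoTrans Cfsg.Agent.Schreier.Basic Cfsg.Agent.H57.TTBend Cfsg.Agent.H347.Aff
  Cfsg.Agent.H57.TTPtN

universe u v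

variable {G : Type u} {Ω : Type v} [Group G] [MulAction G Ω] {T : Subgroup G} {a : Ω} {N : Subgroup G}

/-! ### numerical rows -/

theorem PN.data (P : PN G Ω T a N) {n τ κ : ℕ} (hn : Nat.card Ω = n) (hT : Nat.card T = τ) (hκ : n * κ = τ)
    (h0 : 0 < n) : Nat.card (stabilizer T a) = κ ∧ ∃ m, 2 ≤ m ∧ BC (Nat.card N) m ∧ Nat.card N ∣ κ := by
  have h1 := P.A.card_mul a
  rw [hn, hT, ← hκ] at h1
  have h2 : Nat.card (stabilizer T a) = κ := Nat.eq_of_mul_eq_mul_left h0 h1
  obtain ⟨m, hm, hB, -⟩ := P.bn.cases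
  exact ⟨h2, m, hm, hB, h2 ▸ P.card_dvd⟩

theorem PN.small (P : PN G Ω T a N) {κ : ℕ} (h : Nat.card (stabilizer T a) = κ) (hκ : κ ∣ 72) : False := by
  have := P.finN
  exact P.bn.not_dvd_72 ((P.card_dvd.trans (h ▸ dvd_rfl)).trans hκ)

theorem a7 (P : PN G Ω T a N) (hn : Nat.card Ω = 15) (hT : Nat.card T = 2520) : False := by
  obtain ⟨-, m, hm, hB, hd⟩ := PN.data P hn hT (κ := 168) (by norm_num) (by norm_num)
  exact hB.d168 hm hd

theorem orbit_cases (P : PN G Ω T a N) {n : ℕ} (hn : Nat.card Ω = n + 1) {c : ℕ} (hc : Nat.card N = c) :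
    ∃ l, 5 ≤ l ∧ l ∣ Nat.gcd n c := by
  obtain ⟨l, h5, h1, h2⟩ := P.exists_orbit
  rw [hn, Nat.add_sub_cancel] at h1
  rw [hc] at h2
  exact ⟨l, h5, Nat.dvd_gcd h1 h2⟩

theorem no_orbit (P : PN G Ω T a N) {n : ℕ} (hn : Nat.card Ω = n + 1) {c g : ℕ} (hc : Nat.card N = c)
    (hg : Nat.gcd n c = g) (hg0 : 0 < g) (h5 : g < 5) : False := by
  obtain ⟨l, h1, h2⟩ := orbit_cases P hn hc
  rw [hg] at h2
  have := Nat.le_of_dvd hg0 h2
  omega

theorem m11 (P : PN G Ω T a N) (hn : Nat.card Ω = 11) (hT : Nat.card T = 7920) : False := by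
  obtain ⟨hK, m, hm, hB, hd⟩ := PN.data P hn hT (κ := 720) (by norm_num) (by norm_num)
  have hc := hB.d720 hm hd
  have := P.finN
  have := P.A.finG
  obtain ⟨K, -, -, -, h1, h2, -, h3⟩ := P.cent'
  rw [hK, P.bn.card_mulAut_sixty hc] at h1
  rw [hK, hc] at h2
  have h6 : 6 ∣ Nat.card K := by
    obtain ⟨c, hc⟩ := h1
    exact ⟨c, by omega⟩
  have h12 : Nat.card K ∣ 12 := by
    obtain ⟨c, hc⟩ := h2
    exact ⟨c, Nat.eq_of_mul_eq_mul_left (show 0 < 60 by norm_num) (by rw [← mul_assoc, ← hc])⟩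
  have hsq := h3 fun l hl hlK => by
    rw [hn] at hl
    have h4 : l ∣ Nat.gcd 10 12 := Nat.dvd_gcd hl (hlK.trans h12)
    exact Nat.le_of_dvd (by norm_num) h4
  have hf3 : Fact (Nat.Prime 3) := ⟨Nat.prime_three⟩
  obtain ⟨k, hk⟩ := exists_prime_orderOf_dvd_card' (G := K) 3 (dvd_trans (by norm_num) h6)
  have h5 : k * k = 1 := Subtype.ext (hsq k k.2)
  have h7 : orderOf k ∣ 2 := orderOf_dvd_of_pow_eq_one (by rw [pow_two, h5])
  rw [hk] at h7
  norm_num at h7

theorem m11' (P : PN G Ω T a N) (hn : Nat.card Ω = 12) (hT : Nat.card T = 7920) : False := by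
  obtain ⟨-, m, hm, hB, hd⟩ := PN.data P hn hT (κ := 660) (by norm_num) (by norm_num)
  exact no_orbit P hn (hB.d660 hm hd) (g := 1) (by norm_num) (by norm_num) (by norm_num)

theorem m12 (P : PN G Ω T a N) (hn : Nat.card Ω = 12) (hT : Nat.card T = 95040) : False := by
  obtain ⟨-, m, hm, hB, hd⟩ := PN.data P hn hT (κ := 7920) (by norm_num) (by norm_num)
  exact no_orbit P hn (hB.d7920 hm hd) (g := 1) (by norm_num) (by norm_num) (by norm_num)

theorem m22 (P : PN G Ω T a N) (hn : Nat.card Ω = 22) (hT : Nat.card T = 443520) : False := by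
  obtain ⟨hK, m, hm, hB, hd⟩ := PN.data P hn hT (κ := 20160) (by norm_num) (by norm_num)
  rcases hB.d20160 hm hd with hc | hc
  · exact no_orbit P hn hc (g := 3) (by norm_num) (by norm_num) (by norm_num)
  have := P.finN
  have := P.A.finG
  obtain ⟨K, -, -, -, h1, h2, h3, -⟩ := P.cent'
  rw [hK, P.bn.card_mulAut_504 hc] at h1
  rw [hK, hc] at h2
  have h40 : Nat.card K ∣ 40 := by
    obtain ⟨c, hc⟩ := h2
    exact ⟨c, Nat.eq_of_mul_eq_mul_left (show 0 < 504 by norm_num) (by rw [← mul_assoc, ← hc])⟩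
  have hbot := h3 fun l hl hlK => by
    rw [hn] at hl
    have h4 : l ∣ Nat.gcd 21 40 := Nat.dvd_gcd hl (hlK.trans h40)
    exact Nat.dvd_one.1 h4
  rw [hbot, Subgroup.card_bot] at h1
  norm_num at h1

theorem m23 (P : PN G Ω T a N) (hn : Nat.card Ω = 23) (hT : Nat.card T = 10200960) : False := by
  obtain ⟨hK, m, hm, hB, hd⟩ := PN.data P hn hT (κ := 443520) (by norm_num) (by norm_num)
  rcases hB.d443520 hm hd with hc | hc
  · exact no_orbit P hn hc (g := 2) (by norm_num) (by norm_num) (by norm_num)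
  · exact no_orbit P hn hc (g := 2) (by norm_num) (by norm_num) (by norm_num)

theorem m24 (P : PN G Ω T a N) (hn : Nat.card Ω = 24) (hT : Nat.card T = 244823040) : False := by
  obtain ⟨hK, m, hm, hB, hd⟩ := PN.data P hn hT (κ := 10200960) (by norm_num) (by norm_num)
  rcases hB.d10200960 hm hd with hc | hc
  · exact no_orbit P hn hc (g := 1) (by norm_num) (by norm_num) (by norm_num)
  · exact no_orbit P hn hc (g := 1) (by norm_num) (by norm_num) (by norm_num)

/-- an abelian subgroup of order 4 of `N` containing the involution `z` -/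
theorem exists_four {H : Type*} [Group H] [Finite H] (hc : Nat.card H = 60) {z : H} (hz : orderOf z = 2) :
    ∃ S : Subgroup H, Nat.card S = 4 ∧ ∀ s ∈ S, s * z = z * s := by
  have h2 : Fact (Nat.Prime 2) := ⟨Nat.prime_two⟩
  have hp : IsPGroup 2 (Subgroup.zpowers z) := IsPGroup.of_card (n := 1) (by rw [Nat.card_zpowers, hz, pow_one])
  obtain ⟨S, hS⟩ := hp.exists_le_sylow
  have h4 : Nat.card S = 4 := by
    rw [S.card_eq_multiplicity, hc]
    have : (60 : ℕ).factorization 2 = 2 := by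
      rw [show (60 : ℕ) = 2 ^ 2 * 15 by norm_num, Nat.factorization_mul (by norm_num) (by norm_num),
        Nat.Prime.factorization_pow Nat.prime_two]
      simp [Nat.factorization_eq_zero_of_not_dvd (show ¬ 2 ∣ 15 by norm_num)]
    rw [this]
    norm_num
  refine ⟨S, h4, fun s hs => ?_⟩
  have hz' : z ∈ (S : Subgroup H) := hS (Subgroup.mem_zpowers z)
  have hcomm := (IsPGroup.isMulCommutative_of_card_eq_prime_sq (p := 2) (G := (S : Subgroup H))
    (by rw [h4]; norm_num))
  exact congrArg Subtype.val (hcomm.is_comm.comm ⟨s, hs⟩ ⟨z, hz'⟩)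

theorem hs (P : PN G Ω T a N) (h : Cfsg.Spor.IsoHS T) (hn : Nat.card Ω = 176) (hT : Nat.card T = 44352000) :
    False := by
  obtain ⟨hK, m, hm, hB, hd⟩ := PN.data P hn hT (κ := 252000) (by norm_num) (by norm_num)
  have := P.finN
  have := P.A.finG
  have := P.A.finT
  obtain ⟨z, K, hz, hzN, h1, h2, h3⟩ := P.exists_invol
  have h4 := TTSpor.hs_cent h hz
  have hpos : 0 < Nat.card (Subgroup.centralizer ({z} : Set T)) := Nat.card_pos
  have hzN2 : orderOf (⟨(z : G), hzN⟩ : N) = 2 := by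
    rw [Subgroup.orderOf_mk, Subgroup.orderOf_coe, hz]
  rcases hB.d252000 hm hd with hc | hc
  · rw [hK, P.bn.card_mulAut_sixty hc] at h1
    have h5 : 2100 ∣ Nat.card K := by
      obtain ⟨c, hc⟩ := h1
      exact ⟨c, by omega⟩
    obtain ⟨S, hS4, hS⟩ := exists_four hc hzN2
    have h6 := h3 (S.map N.subtype) (Subgroup.map_subtype_le S) (by
      rintro _ ⟨s, hs, rfl⟩
      exact congrArg Subtype.val (hS s hs))
    have h7 : Nat.card (S.map N.subtype) = 4 := by
      rw [← hS4]
      exact (Nat.card_congr (S.equivMapOfInjective _ N.subtype_injective).toEquiv).symm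
    rw [h7] at h6
    have h8 : 8400 ∣ Nat.card (Subgroup.centralizer ({z} : Set T)) :=
      (show 8400 = 2100 * 4 by norm_num) ▸ (Nat.mul_dvd_mul_right h5 4).trans h6
    have := Nat.le_of_dvd hpos h8
    omega
  · rw [hK, P.bn.card_mulAut_504 hc] at h1
    have h5 : 500 ∣ Nat.card K := by
      obtain ⟨c, hc⟩ := h1
      have : 500 ∣ Nat.card K * 3 := ⟨c, by omega⟩
      exact Nat.Coprime.dvd_of_dvd_mul_right (by norm_num) this
    obtain ⟨F, _, _, hF, ⟨e⟩⟩ := P.bn.psl_of_504 hc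
    obtain ⟨-, -, h6⟩ := TTL28.psl_facts hF e
    obtain ⟨h7, -⟩ := h6 _ hzN2
    have h8 := h3 ((Subgroup.centralizer ({(⟨(z : G), hzN⟩ : N)} : Set N)).map N.subtype)
      (Subgroup.map_subtype_le _) (by
        rintro _ ⟨s, hs, rfl⟩
        rw [SetLike.mem_coe, Subgroup.mem_centralizer_singleton_iff] at hs
        exact congrArg Subtype.val hs)
    have h9 : Nat.card ((Subgroup.centralizer ({(⟨(z : G), hzN⟩ : N)} : Set N)).map N.subtype) = 8 := by
      rw [← h7]
      exact (Nat.card_congr (Subgroup.equivMapOfInjective _ _ N.subtype_injective).toEquiv).symm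
    rw [h9] at h8
    have h10 : 4000 ∣ Nat.card (Subgroup.centralizer ({z} : Set T)) :=
      (show 4000 = 500 * 8 by norm_num) ▸ (Nat.mul_dvd_mul_right h5 8).trans h8
    have := Nat.le_of_dvd hpos h10
    rcases h4 with h4 | h4
    · rw [h4] at h10
      norm_num at h10
    · omega

theorem co3 (P : PN G Ω T a N) (h : Cfsg.Spor.IsoCo3 T) (hn : Nat.card Ω = 276)
    (hT : Nat.card T = 495766656000) : False := by
  obtain ⟨hK, m, hm, hB, hd⟩ := PN.data P hn hT (κ := 1796256000) (by norm_num) (by norm_num)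
  have := P.finN
  have := P.A.finG
  have := P.A.finT
  obtain ⟨z, K, hz, hzN, h1, h2, h3⟩ := P.exists_invol
  have h4 := TTSpor.co3_cent h hz
  have hpos : 0 < Nat.card (Subgroup.centralizer ({z} : Set T)) := Nat.card_pos
  rcases hB.d1796256000 hm hd with hc | hc
  · rw [hK, P.bn.card_mulAut_sixty hc] at h1
    have h5 : 14968800 ∣ Nat.card K := by
      obtain ⟨c, hc⟩ := h1
      exact ⟨c, by omega⟩
    have h6 := h3 ⊥ bot_le (by
      intro s hs
      rw [Subgroup.mem_bot] at hs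
      rw [hs, one_mul, mul_one])
    rw [Subgroup.card_bot, mul_one] at h6
    have := Nat.le_of_dvd hpos (h5.trans h6)
    omega
  · exact no_orbit P hn hc (g := 1) (by norm_num) (by norm_num) (by norm_num)

/-! ### rows of Lie type -/

/-- degree prime to the characteristic -/
theorem of_rgd (P : PN G Ω T a N) {p : ℕ} [Fact p.Prime] (hR : Cfsg.Agent.Nodes.RGDChev.HasRGD p T)
    (hn : ¬ p ∣ Nat.card Ω) : False := by
  have := P.finN
  have := P.bn.simple
  obtain ⟨V, hVa, hV1, hVp, hVn, hVc⟩ := TTPar.AS.over_sylow P.A Fact.out hR hn a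
  have hNT := P.le_T
  -- `V` as a subgroup of `G`
  have hn' : ∀ g ∈ N, ∀ m ∈ V.map T.subtype, g * m * g⁻¹ ∈ V.map T.subtype := by
    rintro g hg _ ⟨m, hm, rfl⟩
    exact ⟨_, hVn ⟨g, hNT hg⟩ (P.le hg) m hm, rfl⟩
  have hVG : ∀ v ∈ V.map T.subtype, v ∈ stabilizer G a := by
    rintro _ ⟨v, hv, rfl⟩
    exact hVa hv
  rcases P.inf_or hn' with h | h
  · -- `N` centralises `V`
    have h1 : ∀ n ∈ N, ∀ v ∈ V.map T.subtype, n * v = v * n := by
      intro n hn v hv
      have h2 : n * v * n⁻¹ * v⁻¹ ∈ N ⊓ V.map T.subtype := by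
        constructor
        · have h3 := P.normal v (hVG v hv) n⁻¹ (inv_mem hn)
          have : n * v * n⁻¹ * v⁻¹ = n * (v * n⁻¹ * v⁻¹) := by group
          rw [this]
          exact mul_mem hn h3
        · exact Subgroup.mul_mem _ (hn' n hn v hv) (Subgroup.inv_mem _ hv)
      rw [h, Subgroup.mem_bot] at h2
      calc n * v = (n * v * n⁻¹ * v⁻¹) * v * n := by group
        _ = v * n := by rw [h2, one_mul]
    apply P.ne_bot
    rw [← h]
    symm
    rw [inf_eq_left]
    intro n hn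
    refine ⟨⟨n, hNT hn⟩, hVc ?_, rfl⟩
    rw [Subgroup.mem_centralizer_iff]
    intro v hv
    exact Subtype.ext (h1 n hn v ⟨v, hv, rfl⟩).symm
  · -- `N` is a `p`-group
    have hp : IsPGroup p N := (hVp.map T.subtype).to_le h
    obtain ⟨m, hm, hB, -⟩ := P.bn.cases
    have hs : Group.IsSolvable N := by
      have := hp.isNilpotent
      infer_instance
    exact P.bn.nonab ⟨⟨IsSimpleGroup.comm_iff_isSolvable.2 hs⟩⟩

theorem sz (P : PN G Ω T a N) {m : ℕ} (hn : Nat.card Ω = (2 ^ (2 * m + 1)) ^ 2 + 1)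
    (hT : Nat.card T = (2 ^ (2 * m + 1)) ^ 2 * (2 ^ (2 * m + 1) - 1) * ((2 ^ (2 * m + 1)) ^ 2 + 1))
    (h3 : ¬ 3 ∣ Nat.card T) : False := by
  have := P.A.finT
  have h1 := P.A.card_mul a
  rw [hn, hT, mul_comm] at h1
  have h2 : Nat.card (stabilizer T a) = (2 ^ (2 * m + 1)) ^ 2 * (2 ^ (2 * m + 1) - 1) :=
    Nat.eq_of_mul_eq_mul_right (Nat.succ_pos _) h1
  obtain ⟨k, hk, hB, -⟩ := P.bn.cases
  refine hB.sz (k := m) (fun h => h3 (h.trans (P.card_dvd.trans (Subgroup.card_subgroup_dvd_card _)))) ?_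
  rw [← h2]
  exact P.card_dvd

theorem ree (P : PN G Ω T a N) {m : ℕ} (hn : Nat.card Ω = (3 ^ (2 * m + 1)) ^ 3 + 1)
    (hT : Nat.card T = (3 ^ (2 * m + 1)) ^ 3 * ((3 ^ (2 * m + 1)) ^ 3 + 1) * (3 ^ (2 * m + 1) - 1)) : False := by
  have := P.A.finT
  have h1 := P.A.card_mul a
  rw [hn, hT] at h1
  have h2 : Nat.card (stabilizer T a) = (3 ^ (2 * m + 1)) ^ 3 * (3 ^ (2 * m + 1) - 1) :=
    Nat.eq_of_mul_eq_mul_left (show 0 < (3 ^ (2 * m + 1)) ^ 3 + 1 from Nat.succ_pos _) (by
      rw [h1]; ring)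
  obtain ⟨k, hk, hB, -⟩ := P.bn.cases
  have h4 : 4 ∣ (3 ^ (2 * m + 1)) ^ 3 * (3 ^ (2 * m + 1) - 1) := by
    rw [← h2]
    exact (hB.four_dvd hk).trans P.card_dvd
  have e1 : (3 : ℕ) ^ (2 * m + 1) % 4 = 3 := by
    rw [pow_succ, pow_mul, Nat.mul_mod, Nat.pow_mod]; norm_num
  have hodd : Nat.Coprime 4 ((3 ^ (2 * m + 1)) ^ 3) := by
    apply Nat.Coprime.pow_right
    exact Nat.Coprime.pow_right _ (by norm_num)
  have h5 := hodd.dvd_of_dvd_mul_left h4
  generalize 3 ^ (2 * m + 1) = x at h5 e1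
  omega

/-! ### alternating groups -/

theorem exists_points {X : Type*} [Finite X] (h : 7 ≤ Nat.card X) (a : X) :
    ∃ f : Fin 7 → X, Function.Injective f ∧ f 6 = a := by
  classical
  have : Fintype X := Fintype.ofFinite X
  rw [Nat.card_eq_fintype_card] at h
  obtain ⟨e⟩ : Nonempty (Fin 7 ↪ X) := Function.Embedding.nonempty_of_card_le (by rwa [Fintype.card_fin])
  refine ⟨fun i => Equiv.swap (e 6) a (e i), (Equiv.injective _).comp e.injective, Equiv.swap_apply_left _ _⟩

theorem symm_big (P : PN G Ω T a N) (h7 : 7 ≤ Nat.card Ω) (hT : 2 * Nat.card T = (Nat.card Ω).factorial) :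
    False := by
  classical
  have := P.A.finΩ
  have := P.A.finG
  have := P.A.finT
  have := P.A.faithfulT
  have : Fintype Ω := Fintype.ofFinite Ω
  have hs := isSimple_stabilizer_alt (by omega) hT a
  have hr := range_toPermHom_eq hT
  have hNT := P.le_T
  -- `N = T_a`
  have hN : ∀ t : T, t • a = a → (t : G) ∈ N := by
    let N' : Subgroup (stabilizer T a) := (N.subgroupOf T).subgroupOf (stabilizer T a)
    have hn : N'.Normal := by
      refine ⟨fun n hn g => ?_⟩
      have h1 : ((n : T) : G) ∈ N := hn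
      exact P.normal ((g : T) : G) g.2 _ h1
    rcases hn.eq_bot_or_eq_top with h | h
    · exfalso
      apply P.ne_bot
      rw [eq_bot_iff]
      intro n hn
      have h1 : (⟨⟨n, hNT hn⟩, P.le hn⟩ : stabilizer T a) ∈ N' := hn
      rw [h, Subgroup.mem_bot] at h1
      rw [Subgroup.mem_bot]
      exact congrArg (fun z : stabilizer T a => ((z : T) : G)) h1
    · intro t ht
      have h1 : (⟨t, ht⟩ : stabilizer T a) ∈ N' := by rw [h]; exact Subgroup.mem_top _
      exact h1
  obtain ⟨f, hf, hfa⟩ := exists_points h7 a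
  apply P.bn.free
  have h47 : 4 ≤ 7 := by norm_num
  let p : Fin 4 → Ω := fun j : Fin 4 => f (Fin.castLE h47 j)
  have hpi : Function.Injective p := hf.comp (Fin.castLE_injective h47)
  refine TTFour.involves_of_family (X := Ω) p hpi fun i => ?_
  have hne : ∀ (j : Fin 4) (k : Fin 7), 4 ≤ (k : ℕ) → p j ≠ f k := by
    intro j k hk h
    have h1 := congrArg Fin.val (hf h)
    have h2 : ((Fin.castLE h47 j : Fin 7) : ℕ) = j := rfl
    have h3 := j.2
    rw [h2] at h1
    omega
  have h45 : f 4 ≠ f 5 := hf.ne (by decide)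
  have hii : p i.castSucc ≠ p i.succ := hpi.ne (Fin.castSucc_lt_succ).ne
  let σ : Equiv.Perm Ω := Equiv.swap (p i.castSucc) (p i.succ) * Equiv.swap (f 4) (f 5)
  have hσ : σ ∈ (toPermHom T Ω).range := by
    rw [hr, Equiv.Perm.mem_alternatingGroup, Equiv.Perm.sign_mul, Equiv.Perm.sign_swap hii,
      Equiv.Perm.sign_swap h45]
    rfl
  obtain ⟨t, ht⟩ := hσ
  have hact : ∀ x, t • x = σ x := fun x => congrArg (fun π : Equiv.Perm Ω => π x) ht
  have hta : t • a = a := by
    rw [hact]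
    have h1 : Equiv.swap (f 4) (f 5) a = a := by
      rw [← hfa]
      exact Equiv.swap_apply_of_ne_of_ne (hf.ne (by decide)) (hf.ne (by decide))
    have h2 : Equiv.swap (p i.castSucc) (p i.succ) a = a := by
      rw [← hfa]
      exact Equiv.swap_apply_of_ne_of_ne (hne _ _ (by decide)).symm (hne _ _ (by decide)).symm
    change Equiv.swap (p i.castSucc) (p i.succ) (Equiv.swap (f 4) (f 5) a) = a
    rw [h1, h2]
  refine ⟨⟨(t : G), hN t hta⟩, fun j => ?_⟩
  change (t : G) • p j = _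
  have h1 : (t : G) • p j = σ (p j) := hact (p j)
  rw [h1]
  change Equiv.swap (p i.castSucc) (p i.succ) (Equiv.swap (f 4) (f 5) (p j)) = _
  rw [Equiv.swap_apply_of_ne_of_ne (hne _ _ (by decide)) (hne _ _ (by decide)), hpi.swap_apply]

/-- the row `A₆` on 6 points -/
theorem symm_six [Fintype Ω] (P : PN G Ω T a N) (h6 : Fintype.card Ω = 6) (hT : Nat.card T = 360) :
    (Nonempty (G ≃* ↥(alternatingGroup (Fin 6))) ∨ Nonempty (G ≃* Equiv.Perm (Fin 6))) ∧
      ∃ (F : Type) (_ : Field F) (_ : Fintype F), Fintype.card F = 4 ∧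
        Nonempty (↥N ≃* Matrix.ProjectiveSpecialLinearGroup (Fin 2) F) := by
  classical
  have := P.A.finG
  have := P.A.finT
  have := P.A.faithfulT
  have := P.A.faithful
  have h6' : Nat.card Ω = 6 := by rw [Nat.card_eq_fintype_card, h6]
  constructor
  · have hr := range_toPermHom_eq (T := T) (Ω := Ω) (by rw [hT, h6']; rfl)
    have hle : alternatingGroup Ω ≤ (toPermHom G Ω).range := by
      rw [← hr]
      rintro _ ⟨t, rfl⟩
      exact ⟨t, rfl⟩
    let e := Fintype.equivFinOfCardEq h6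
    let φ : Equiv.Perm Ω ≃* Equiv.Perm (Fin 6) := e.permCongrHom
    let ψ : G ≃* (toPermHom G Ω).range := MonoidHom.ofInjective (f := toPermHom G Ω) toPerm_injective
    by_cases h : (toPermHom G Ω).range = ⊤
    · right
      exact ⟨ψ.trans ((MulEquiv.subgroupCongr h).trans (Subgroup.topEquiv.trans φ))⟩
    · left
      have h1 : (toPermHom G Ω).range = alternatingGroup Ω := by
        have : Nontrivial Ω := by rw [← Fintype.one_lt_card_iff_nontrivial, h6]; norm_num
        have hidx := alternatingGroup.index_eq_two (α := Ω)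
        have h2 := Subgroup.relIndex_mul_index hle
        rw [hidx] at h2
        have h3 : (toPermHom G Ω).range.index ≠ 1 := fun h' => h (Subgroup.index_eq_one.1 h')
        have h4 : (toPermHom G Ω).range.index ∣ 2 := ⟨_, by rw [mul_comm, h2]⟩
        have h5 := (Nat.dvd_prime Nat.prime_two).1 h4
        rcases h5 with h5 | h5
        · exact absurd h5 h3
        · rw [h5] at h2
          have h6 : (alternatingGroup Ω).relIndex (toPermHom G Ω).range = 1 := by omega
          rw [Subgroup.relIndex_eq_one] at h6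
          exact le_antisymm h6 hle
      exact ⟨ψ.trans ((MulEquiv.subgroupCongr h1).trans (e.altCongrHom))⟩
  · apply P.bn.psl_of_sixty
    obtain ⟨hK, m, hm, hB, hd⟩ := PN.data P h6' hT (κ := 60) (by norm_num) (by norm_num)
    exact hB.d60 hm hd

/-- the row `PSL₂(11)` on 11 points -/
theorem psl_eleven [Fintype Ω] (P : PN G Ω T a N) (h11 : Fintype.card Ω = 11) {F : Type} [Field F] [Fintype F]
    (hF : Fintype.card F = 11) (e : T ≃* Matrix.ProjectiveSpecialLinearGroup (Fin 2) F) :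
    (∃ (F : Type) (_ : Field F) (_ : Fintype F), Fintype.card F = 11 ∧
      Nonempty (G ≃* Matrix.ProjectiveSpecialLinearGroup (Fin 2) F)) ∧
      ∃ (F : Type) (_ : Field F) (_ : Fintype F), Fintype.card F = 4 ∧
        Nonempty (↥N ≃* Matrix.ProjectiveSpecialLinearGroup (Fin 2) F) := by
  classical
  have := P.A.finG
  have := P.A.finT
  have := P.A.faithfulT
  have := P.A.faithful
  have hTc : Nat.card T = 660 := by
    have h1 := Cfsg.Agent.ClassicalGeometry.PSL2Basic.card_PSL2_odd F (by rw [hF]; decide)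
    rw [hF] at h1
    rw [Nat.card_congr e.toEquiv]
    omega
  have hp11 : Fact (Nat.Prime 11) := ⟨by norm_num⟩
  have h1320 : Nat.card G ∣ 1320 := by
    have h1 := TTOut.AS.card_dvd P.A e
    obtain ⟨φ, hφ, -, hker⟩ := Cfsg.Agent.H183.OutPSL.out_two (F := F) (p := 11) (f := 1) le_rfl
      (by rw [hF]; norm_num) (by norm_num)
    have h2 := Subgroup.card_mul_index φ.ker
    rw [Subgroup.index_ker, MonoidHom.range_eq_top.2 hφ, Subgroup.card_top, hker,
      Nat.card_congr Multiplicative.toAdd, Nat.card_zmod] at h2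
    rw [← h2, hTc] at h1
    exact h1
  refine ⟨⟨ZMod 11, inferInstance, inferInstance, ZMod.card 11, ?_⟩, ?_⟩
  · have hG1 : IsPretransitive G Ω := by
      have := P.A.transitive
      refine ⟨fun x y => ?_⟩
      obtain ⟨t, ht⟩ := exists_smul_eq T x y
      exact ⟨t, ht⟩
    let ψ : G ≃* (toPermHom G Ω).range := MonoidHom.ofInjective (f := toPermHom G Ω) toPerm_injective
    have hcard : Nat.card (toPermHom G Ω).range = Nat.card G := (Nat.card_congr ψ.toEquiv).symm
    have hG2 : IsPretransitive (toPermHom G Ω).range Ω := by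
      refine ⟨fun x y => ?_⟩
      obtain ⟨g, hg⟩ := exists_smul_eq G x y
      exact ⟨⟨toPermHom G Ω g, g, rfl⟩, hg⟩
    have hns : ¬ Group.IsSolvable (toPermHom G Ω).range := by
      intro h
      have h1 : Group.IsSolvable T := Group.isSolvable_of_isSolvable_injective
        (f := (ψ.toMonoidHom.comp T.subtype)) (ψ.injective.comp T.subtype_injective)
      have := P.A.simple
      exact P.A.nonab ⟨⟨IsSimpleGroup.comm_iff_isSolvable.2 h1⟩⟩
    have hna : ¬ alternatingGroup Ω ≤ (toPermHom G Ω).range := by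
      intro h
      have h1 := Subgroup.card_dvd_of_le h
      rw [hcard] at h1
      have h2 : 2 * Nat.card (alternatingGroup Ω) = (11 : ℕ).factorial := by
        have : Nontrivial Ω := by rw [← Fintype.one_lt_card_iff_nontrivial, h11]; norm_num
        rw [two_mul_nat_card_alternatingGroup, Nat.card_perm, Nat.card_eq_fintype_card, h11]
      have h3 : (11 : ℕ).factorial = 39916800 := by rfl
      rw [h3] at h2
      have h4 : Nat.card (alternatingGroup Ω) = 19958400 := by omega
      rw [h4] at h1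
      have h5 := Nat.le_of_dvd (by norm_num) (h1.trans h1320)
      omega
    rcases Cfsg.Agent.S0679.result h11 (toPermHom G Ω).range hns hna with ⟨h4, -⟩ | ⟨⟨i⟩⟩
    · exfalso
      have h5 : Nat.card (Fin 4 ↪ Ω) ∣ Nat.card (toPermHom G Ω).range := by
        have h7 : Nonempty (Fin 4 ↪ Ω) := Function.Embedding.nonempty_of_card_le (by
          rw [h11, Fintype.card_fin]; norm_num)
        obtain ⟨x⟩ := h7
        have h8 := @MulAction.index_stabilizer_of_transitive (toPermHom G Ω).range (Fin 4 ↪ Ω) _ _ x h4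
        rw [← h8]
        exact Subgroup.index_dvd_card _
      rw [hcard, Nat.card_eq_fintype_card, Fintype.card_embedding_eq, h11, Fintype.card_fin] at h5
      have h6 := Nat.le_of_dvd (by norm_num) (h5.trans h1320)
      norm_num [Nat.descFactorial] at h6
    · exact ⟨ψ.trans i⟩
  · apply P.bn.psl_of_sixty
    obtain ⟨hK, m, hm, hB, hd⟩ := PN.data P (by rw [Nat.card_eq_fintype_card, h11]) hTc (κ := 60)
      (by norm_num) (by norm_num)
    exact hB.d60 hm hd

end Cfsg.Agent.H57.TTS2208
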