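import Mathlib

/-!
# Groups whose Sylow 2-subgroups are cyclic, generalised quaternion or dihedral

Elementary consequences: a cyclic subgroup of index at most 2 in a Sylow 2-subgroup, no elementary abelian
subgroup of order 8, not both a quaternion group of order 8 and a four-group.
-/

set_option autoImplicit false

namespace Cfsg.Agent.H57.TTSmall

open Subgroup

/-- cyclic, generalised quaternion or dihedral of order at least 4 -/
def Small (S : Type*) [Group S] : Prop :=
  IsCyclic S ∨ (∃ n : ℕ, Nonempty (S ≃* QuaternionGroup (2 ^ (n + 1)))) ∨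
    (∃ n : ℕ, 1 ≤ n ∧ Nonempty (S ≃* DihedralGroup (2 ^ n)))

section

variable {S S' : Type*} [Group S] [Group S']

theorem Small.congr (e : S ≃* S') (h : Small S) : Small S' := by
  rcases h with h | ⟨n, ⟨f⟩⟩ | ⟨n, hn, ⟨f⟩⟩
  · exact Or.inl (isCyclic_of_surjective e e.surjective)
  · exact Or.inr (Or.inl ⟨n, ⟨e.symm.trans f⟩⟩)
  · exact Or.inr (Or.inr ⟨n, hn, ⟨e.symm.trans f⟩⟩)

/-- `⟨c⟩` has index at most 2 -/
def Half (c : S) : Prop := Nat.card S ≤ 2 * orderOf c

theorem Small.exists_half [Finite S] (h : Small S) : ∃ c : S, Half c := by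
  rcases h with h | ⟨n, ⟨f⟩⟩ | ⟨n, hn, ⟨f⟩⟩
  · obtain ⟨g, hg⟩ := h.exists_generator
    refine ⟨g, ?_⟩
    unfold Half
    rw [orderOf_eq_card_of_forall_mem_zpowers hg]
    omega
  · have : NeZero (2 ^ (n + 1)) := ⟨by positivity⟩
    refine ⟨f.symm (QuaternionGroup.a 1), ?_⟩
    unfold Half
    have h1 : orderOf (f.symm (QuaternionGroup.a 1)) =
        orderOf (QuaternionGroup.a 1 : QuaternionGroup (2 ^ (n + 1))) :=
      orderOf_injective f.symm.toMonoidHom f.symm.injective _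
    rw [h1, QuaternionGroup.orderOf_a_one, Nat.card_congr f.toEquiv, Nat.card_eq_fintype_card, QuaternionGroup.card]
    omega
  · have : NeZero (2 ^ n) := ⟨by positivity⟩
    refine ⟨f.symm (DihedralGroup.r 1), ?_⟩
    unfold Half
    have h1 : orderOf (f.symm (DihedralGroup.r 1)) = orderOf (DihedralGroup.r 1 : DihedralGroup (2 ^ n)) :=
      orderOf_injective f.symm.toMonoidHom f.symm.injective _
    rw [h1, DihedralGroup.orderOf_r_one, Nat.card_congr f.toEquiv, DihedralGroup.nat_card]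

theorem Half.mul_mem [Finite S] {c : S} (h : Half c) {u v : S} (hu : u ∉ zpowers c) (hv : v ∉ zpowers c) :
    u * v ∈ zpowers c := by
  have h1 := (zpowers c).card_mul_index
  rw [Nat.card_zpowers] at h1
  have h2 : (zpowers c).index ≤ 2 := by
    by_contra hcon
    push Not at hcon
    have h3 : orderOf c * 3 ≤ orderOf c * (zpowers c).index := Nat.mul_le_mul_left _ hcon
    have h4 := orderOf_pos c
    unfold Half at h
    omega
  have h3 : (zpowers c).index ≠ 1 := by
    intro h4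
    rw [Subgroup.index_eq_one] at h4
    rw [h4] at hu
    exact hu (mem_top _)
  have h4 : (zpowers c).index ≠ 0 := Subgroup.index_ne_zero_of_finite
  have h5 : (zpowers c).index = 2 := by omega
  rw [Subgroup.mul_mem_iff_of_index_two h5]
  exact iff_of_false hu hv

/-- a cyclic group has at most one involution -/
theorem inv_unique {c u v : S} (hu : u ∈ zpowers c) (hv : v ∈ zpowers c) (huu : u * u = 1) (hvv : v * v = 1)
    (hu1 : u ≠ 1) (hv1 : v ≠ 1) : u = v := by
  obtain ⟨i, rfl⟩ := mem_zpowers_iff.1 hu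
  obtain ⟨j, rfl⟩ := mem_zpowers_iff.1 hv
  rw [← zpow_add, ← orderOf_dvd_iff_zpow_eq_one] at huu hvv
  rw [Ne, ← orderOf_dvd_iff_zpow_eq_one] at hu1 hv1
  rw [← mul_inv_eq_one, ← zpow_neg, ← zpow_add, ← orderOf_dvd_iff_zpow_eq_one]
  obtain ⟨a, ha⟩ := huu
  obtain ⟨b, hb⟩ := hvv
  rcases Int.even_or_odd' a with ⟨a', rfl | rfl⟩
  · exact absurd ⟨a', by linarith⟩ hu1
  rcases Int.even_or_odd' b with ⟨b', rfl | rfl⟩
  · exact absurd ⟨b', by linarith⟩ hv1
  exact ⟨a' - b', by linarith⟩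

theorem Small.no3 [Finite S] (h : Small S) {x y z : S} (hxx : x * x = 1) (hyy : y * y = 1) (hzz : z * z = 1)
    (hxy : x * y = y * x) (hxz : x * z = z * x) (hyz : y * z = z * y) (h1 : x ≠ 1) (h2 : y ≠ 1) (h3 : z ≠ 1)
    (h4 : x ≠ y) (h5 : x ≠ z) (h6 : y ≠ z) (h7 : x * y ≠ z) : False := by
  obtain ⟨c, hc⟩ := h.exists_half
  have sq : ∀ {u v : S}, u * v = v * u → u * u = 1 → v * v = 1 → u * v * (u * v) = 1 := by
    intro u v h1 h2 h3
    calc u * v * (u * v) = u * (v * u) * v := by group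
      _ = (u * u) * (v * v) := by rw [← h1]; group
      _ = 1 := by rw [h2, h3, one_mul]
  have ne : ∀ {u v : S}, v * v = 1 → u ≠ v → u * v ≠ 1 := by
    intro u v h1 h2 h3
    exact h2 ((eq_inv_of_mul_eq_one_left h3).trans (eq_inv_of_mul_eq_one_left h1).symm)
  by_cases hx : x ∈ zpowers c
  · by_cases hy : y ∈ zpowers c
    · exact h4 (inv_unique hx hy hxx hyy h1 h2)
    by_cases hz : z ∈ zpowers c
    · exact h5 (inv_unique hx hz hxx hzz h1 h3)
    have h8 := inv_unique hx (hc.mul_mem hy hz) hxx (sq hyz hyy hzz) h1 (ne hzz h6)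
    apply h7
    rw [h8, hyz, mul_assoc, hyy, mul_one]
  · by_cases hy : y ∈ zpowers c
    · by_cases hz : z ∈ zpowers c
      · exact h6 (inv_unique hy hz hyy hzz h2 h3)
      have h8 := inv_unique hy (hc.mul_mem hx hz) hyy (sq hxz hxx hzz) h2 (ne hzz h5)
      apply h7
      rw [h8, ← mul_assoc, hxx, one_mul]
    · by_cases hz : z ∈ zpowers c
      · exact h7 (inv_unique (hc.mul_mem hx hy) hz (sq hxy hxx hyy) hzz (ne hyy h4) h3)
      · have h8 := inv_unique (hc.mul_mem hx hy) (hc.mul_mem hx hz) (sq hxy hxx hyy) (sq hxz hxx hzz) (ne hyy h4)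
          (ne hzz h5)
        exact h6 (mul_left_cancel h8)

theorem no_comm {x y : S} (hx : x * x ≠ 1) (hyx : y * x * y⁻¹ = x⁻¹) (h : x * y = y * x) : False := by
  rw [← h, mul_inv_cancel_right] at hyx
  apply hx
  nth_rw 2 [hyx]
  exact mul_inv_cancel x

theorem Small.noQV [Finite S] (h : Small S) {x y : S} (hxy : x * x = y * y) (hx : x * x ≠ 1)
    (hyx : y * x * y⁻¹ = x⁻¹) {u v : S} (huu : u * u = 1) (hvv : v * v = 1) (hu : u ≠ 1) (hv : v ≠ 1)
    (huv : u ≠ v) : False := by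
  rcases h with h | ⟨n, ⟨f⟩⟩ | ⟨n, hn, ⟨f⟩⟩
  · obtain ⟨g, hg⟩ := h.exists_generator
    exact huv (inv_unique (hg u) (hg v) huu hvv hu hv)
  · have : NeZero (2 ^ (n + 1)) := ⟨by positivity⟩
    have key : ∀ t : S, t * t = 1 → t ≠ 1 → f t ∈ zpowers (QuaternionGroup.a 1 : QuaternionGroup (2 ^ (n + 1))) := by
      intro t htt ht
      have h1 : f t * f t = 1 := by rw [← map_mul, htt, map_one]
      cases hft : f t with
      | a i =>
        refine ⟨i.val, ?_⟩
        change (QuaternionGroup.a 1 : QuaternionGroup (2 ^ (n + 1))) ^ ((i.val : ℕ) : ℤ) = _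
        rw [zpow_natCast, QuaternionGroup.a_one_pow, ZMod.natCast_zmod_val]
      | xa i =>
        exfalso
        rw [hft] at h1
        have h2 := QuaternionGroup.orderOf_xa i
        have h3 : orderOf (QuaternionGroup.xa i : QuaternionGroup (2 ^ (n + 1))) ∣ 2 := by
          rw [orderOf_dvd_iff_pow_eq_one, pow_two]; exact h1
        rw [h2] at h3
        exact absurd (Nat.le_of_dvd (by norm_num) h3) (by norm_num)
    have hm : ∀ t : S, t * t = 1 → f t * f t = 1 := fun t ht => by rw [← map_mul, ht, map_one]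
    have hn1 : ∀ t : S, t ≠ 1 → f t ≠ 1 := fun t ht h => ht (f.injective (h.trans (map_one f).symm))
    exact huv (f.injective (inv_unique (key u huu hu) (key v hvv hv) (hm u huu) (hm v hvv) (hn1 u hu) (hn1 v hv)))
  · have hr : ∀ t : S, t * t ≠ 1 → ∃ i, f t = DihedralGroup.r i := by
      intro t ht
      cases hft : f t with
      | r i => exact ⟨i, rfl⟩
      | sr i =>
        exfalso
        apply ht
        apply f.injective
        rw [map_mul, hft, map_one, DihedralGroup.sr_mul_self]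
    obtain ⟨i, hi⟩ := hr x hx
    obtain ⟨j, hj⟩ := hr y (by rwa [← hxy])
    refine no_comm hx hyx (f.injective ?_)
    rw [map_mul, map_mul, hi, hj, DihedralGroup.r_mul_r, DihedralGroup.r_mul_r, add_comm]

end

/-! ### groups with small Sylow 2-subgroups -/

/-- all Sylow 2-subgroups are small -/
def Sm (D : Type*) [Group D] : Prop := ∀ S : Sylow 2 D, Small ↥(S : Subgroup D)

variable {D : Type*} [Group D]

theorem isPGroup_zpowers_of {x : D} {k : ℕ} (h : x ^ 2 ^ k = 1) : IsPGroup 2 (zpowers x) := by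
  rintro ⟨y, hy⟩
  obtain ⟨i, rfl⟩ := mem_zpowers_iff.1 hy
  refine ⟨k, Subtype.ext ?_⟩
  change (x ^ i) ^ 2 ^ k = 1
  rw [← zpow_natCast, ← zpow_mul, mul_comm, zpow_mul, zpow_natCast, h, one_zpow]

theorem Sm.no3 [Finite D] (h : Sm D) {x y z : D} (hxx : x * x = 1) (hyy : y * y = 1) (hzz : z * z = 1)
    (hxy : x * y = y * x) (hxz : x * z = z * x) (hyz : y * z = z * y) (h1 : x ≠ 1) (h2 : y ≠ 1) (h3 : z ≠ 1)
    (h4 : x ≠ y) (h5 : x ≠ z) (h6 : y ≠ z) (h7 : x * y ≠ z) : False := by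
  have hP : ∀ {t : D}, t * t = 1 → IsPGroup 2 (zpowers t) := fun {t} ht =>
    isPGroup_zpowers_of (k := 1) (by rw [pow_one, pow_two]; exact ht)
  have hn : ∀ {s t : D}, s * t = t * s → zpowers s ≤ normalizer (zpowers t : Set D) := by
    intro s t hst
    rw [zpowers_le]
    apply centralizer_le_normalizer
    rw [mem_centralizer_iff]
    intro w hw
    obtain ⟨i, rfl⟩ := mem_zpowers_iff.1 hw
    exact ((show Commute s t from hst).symm.zpow_left i).eq
  have h8 : IsPGroup 2 ↥(zpowers x ⊔ zpowers y) := (hP hxx).to_sup_of_normal_right' (hP hyy) (hn hxy)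
  have h9 : IsPGroup 2 ↥((zpowers x ⊔ zpowers y) ⊔ zpowers z) :=
    h8.to_sup_of_normal_right' (hP hzz) (sup_le (hn hxz) (hn hyz))
  obtain ⟨S, hS⟩ := h9.exists_le_sylow
  have hx : x ∈ (S : Subgroup D) := hS (mem_sup_left (mem_sup_left (mem_zpowers x)))
  have hy : y ∈ (S : Subgroup D) := hS (mem_sup_left (mem_sup_right (mem_zpowers y)))
  have hz : z ∈ (S : Subgroup D) := hS (mem_sup_right (mem_zpowers z))
  exact (h S).no3 (x := ⟨x, hx⟩) (y := ⟨y, hy⟩) (z := ⟨z, hz⟩) (Subtype.ext hxx) (Subtype.ext hyy) (Subtype.ext hzz)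
    (Subtype.ext hxy) (Subtype.ext hxz) (Subtype.ext hyz) (fun h => h1 (congrArg Subtype.val h))
    (fun h => h2 (congrArg Subtype.val h)) (fun h => h3 (congrArg Subtype.val h))
    (fun h => h4 (congrArg Subtype.val h)) (fun h => h5 (congrArg Subtype.val h))
    (fun h => h6 (congrArg Subtype.val h)) (fun h => h7 (congrArg Subtype.val h))

theorem Sm.noQV [Finite D] (h : Sm D) {x y : D} (hxy : x * x = y * y) (hx : x * x ≠ 1)
    (hyx : y * x * y⁻¹ = x⁻¹) {u v : D} (huu : u * u = 1) (hvv : v * v = 1) (hc : u * v = v * u) (hu : u ≠ 1)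
    (hv : v ≠ 1) (huv : u ≠ v) : False := by
  have hx4 : x * x * (x * x) = 1 := by
    have h1 : y * (x * x) * y⁻¹ = x⁻¹ * x⁻¹ := by
      calc y * (x * x) * y⁻¹ = (y * x * y⁻¹) * (y * x * y⁻¹) := by group
        _ = _ := by rw [hyx]
    rw [hxy] at h1
    have h2 : y * (y * y) * y⁻¹ = y * y := by group
    rw [h2, ← hxy] at h1
    nth_rw 1 [h1]
    group
  have hX : IsPGroup 2 (zpowers x) := isPGroup_zpowers_of (k := 2) (by
    calc x ^ 2 ^ 2 = x * x * (x * x) := by rw [show (2 : ℕ) ^ 2 = 2 + 2 from rfl, pow_add, pow_two]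
      _ = 1 := hx4)
  have hY : IsPGroup 2 (zpowers y) := isPGroup_zpowers_of (k := 2) (by
    calc y ^ 2 ^ 2 = y * y * (y * y) := by rw [show (2 : ℕ) ^ 2 = 2 + 2 from rfl, pow_add, pow_two]
      _ = 1 := by rw [← hxy]; exact hx4)
  have hYX : zpowers y ≤ normalizer (zpowers x : Set D) := by
    rw [zpowers_le, mem_normalizer_iff]
    intro g
    have h1 : ∀ g ∈ zpowers x, y * g * y⁻¹ ∈ zpowers x := by
      intro g hg
      obtain ⟨i, rfl⟩ := mem_zpowers_iff.1 hg
      rw [← conj_zpow, hyx]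
      exact zpow_mem (inv_mem (mem_zpowers x)) i
    refine ⟨h1 g, fun h2 => ?_⟩
    have h3 : y⁻¹ * x * y = x⁻¹ := by
      have h4 : x = y⁻¹ * x⁻¹ * y := by rw [← hyx]; group
      have h5 : x⁻¹ = (y⁻¹ * x⁻¹ * y)⁻¹ := congrArg _ h4
      rw [h5]; group
    obtain ⟨i, hi⟩ := mem_zpowers_iff.1 h2
    have h4 : g = y⁻¹ * (x ^ i) * (y⁻¹)⁻¹ := by rw [hi]; group
    rw [h4, ← conj_zpow, inv_inv, h3]
    exact zpow_mem (inv_mem (mem_zpowers x)) i
  have h8 : IsPGroup 2 ↥(zpowers y ⊔ zpowers x) := hY.to_sup_of_normal_right' hX hYX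
  obtain ⟨S, hS⟩ := h8.exists_le_sylow
  have hU : IsPGroup 2 (zpowers u) := isPGroup_zpowers_of (k := 1) (by rw [pow_one, pow_two]; exact huu)
  have hV : IsPGroup 2 (zpowers v) := isPGroup_zpowers_of (k := 1) (by rw [pow_one, pow_two]; exact hvv)
  have hUV : zpowers u ≤ normalizer (zpowers v : Set D) := by
    rw [zpowers_le]
    apply centralizer_le_normalizer
    rw [mem_centralizer_iff]
    intro w hw
    obtain ⟨i, rfl⟩ := mem_zpowers_iff.1 hw
    exact ((show Commute u v from hc).symm.zpow_left i).eq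
  have h9 : IsPGroup 2 ↥(zpowers u ⊔ zpowers v) := hU.to_sup_of_normal_right' hV hUV
  obtain ⟨P, hP⟩ := h9.exists_le_sylow
  obtain ⟨g, hg⟩ := MulAction.exists_smul_eq D P S
  have hmem : ∀ t ∈ (P : Subgroup D), g * t * g⁻¹ ∈ (S : Subgroup D) := by
    intro t ht
    rw [← hg, Sylow.coe_subgroup_smul]
    exact Subgroup.smul_mem_pointwise_smul t (MulAut.conj g) _ ht
  have hsq : ∀ {t : D}, t * t = 1 → g * t * g⁻¹ * (g * t * g⁻¹) = 1 := by
    intro t ht
    calc g * t * g⁻¹ * (g * t * g⁻¹) = g * (t * t) * g⁻¹ := by group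
      _ = 1 := by rw [ht]; group
  have h1 : ∀ {t : D}, t ≠ 1 → g * t * g⁻¹ ≠ 1 := by
    intro t ht h
    apply ht
    rw [conj_eq_one_iff] at h
    exact h
  exact (h S).noQV (x := ⟨x, hS (mem_sup_right (mem_zpowers x))⟩) (y := ⟨y, hS (mem_sup_left (mem_zpowers y))⟩)
    (Subtype.ext hxy) (fun h => hx (congrArg Subtype.val h)) (Subtype.ext hyx)
    (u := ⟨_, hmem u (hP (mem_sup_left (mem_zpowers u)))⟩) (v := ⟨_, hmem v (hP (mem_sup_right (mem_zpowers v)))⟩)
    (Subtype.ext (hsq huu)) (Subtype.ext (hsq hvv)) (fun h => h1 hu (congrArg Subtype.val h))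
    (fun h => h1 hv (congrArg Subtype.val h)) (fun h => huv (mul_left_cancel (mul_right_cancel (congrArg Subtype.val h))))

/-- a subgroup of order divisible by `2 ^ m` contains a 2-element of order at least `2 ^ (m - 1)` -/
theorem Sm.exists_order [Finite D] (h : Sm D) (K : Subgroup D) {m : ℕ} (hm : 2 ^ m ∣ Nat.card K) :
    ∃ g ∈ K, 2 ^ m ≤ 2 * orderOf g ∧ ∃ k, orderOf g = 2 ^ k := by
  obtain ⟨P, hP⟩ := Sylow.exists_subgroup_card_pow_prime 2 hm
  have hP2 : IsPGroup 2 P := IsPGroup.of_card hP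
  have hPK : IsPGroup 2 ↥(P.map K.subtype) := hP2.map _
  obtain ⟨S, hS⟩ := hPK.exists_le_sylow
  obtain ⟨c, hc⟩ := (h S).exists_half
  have hcard : Nat.card ↥(P.map K.subtype) = 2 ^ m := by
    rw [← hP]
    exact Nat.card_congr (P.equivMapOfInjective K.subtype K.subtype_injective).toEquiv.symm
  set Q := (P.map K.subtype).subgroupOf (S : Subgroup D) with hQ
  have hQc : Nat.card Q = 2 ^ m := by
    rw [← hcard]
    exact Nat.card_congr (Subgroup.subgroupOfEquivOfLe hS).toEquiv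
  have hind : (zpowers c).index ≤ 2 := by
    have h1 := (zpowers c).card_mul_index
    rw [Nat.card_zpowers] at h1
    by_contra hcon
    push Not at hcon
    have h3 : orderOf c * 3 ≤ orderOf c * (zpowers c).index := Nat.mul_le_mul_left _ hcon
    have h4 := orderOf_pos c
    unfold Half at hc
    omega
  have hrel : (zpowers c).relIndex Q ≤ 2 := by
    refine le_trans (Subgroup.relIndex_le_of_le_right (le_top : Q ≤ ⊤) ?_) ?_
    · rw [Subgroup.relIndex_top_right]; exact Subgroup.index_ne_zero_of_finite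
    · rw [Subgroup.relIndex_top_right]; exact hind
  set A := (zpowers c).subgroupOf Q with hA
  have hAc : IsCyclic A := by
    let f : A →* zpowers c :=
      { toFun := fun a => ⟨a.1.1, a.2⟩
        map_one' := rfl
        map_mul' := fun _ _ => rfl }
    refine isCyclic_of_injective f fun a b hab => ?_
    have h1 : (f a : ↥(S : Subgroup D)) = f b := by rw [hab]
    exact Subtype.ext (Subtype.ext h1)
  obtain ⟨a, ha⟩ := hAc.exists_generator
  have hord : orderOf a = Nat.card A := orderOf_eq_card_of_forall_mem_zpowers ha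
  have h1 := A.card_mul_index
  have h2 : A.index ≤ 2 := hrel
  rw [hQc, ← hord] at h1
  have h3 : orderOf (a.1.1.1 : D) = orderOf a := by
    rw [Subgroup.orderOf_coe, Subgroup.orderOf_coe, Subgroup.orderOf_coe]
  refine ⟨a.1.1.1, ?_, ?_, ?_⟩
  · obtain ⟨k, -, hk⟩ := Subgroup.mem_subgroupOf.1 a.1.2
    rw [← hk]
    exact k.2
  · rw [h3, ← h1, mul_comm]
    exact Nat.mul_le_mul_right _ h2
  · rw [h3]
    obtain ⟨k, -, hk⟩ := (Nat.dvd_prime_pow Nat.prime_two).1 (Dvd.intro _ h1)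
    exact ⟨k, hk⟩

end Cfsg.Agent.H57.TTSmall
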