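import Cfsg.Agent.H249.SpTwoExport

/-!
# Frames in the symplectic space over `𝔽₂` with a quadratic form (helper57)
-/

set_option autoImplicit false
set_option linter.unusedSectionVars false

open Cfsg
open scoped Matrix

namespace Cfsg.Agent.H57.TTSpFrame

open Cfsg.Agent.ClassicalGeometry.SympBasic
open Cfsg.Agent.ClassicalGeometry.SympSiegel
open Cfsg.Agent.ClassicalGeometry.SympAutExists
open Cfsg.Agent.H249.SpTwo

universe w

variable {F : Type w} [Field F] [Fintype F] {m : ℕ}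

local notation "V" => (Fin m ⊕ Fin m → F)
local notation "Sp" => Matrix.symplecticGroup (Fin m) F
local notation "f" => sympForm m F

/-- three orthogonal hyperbolic pairs -/
structure Fr (v x e g e2 g2 : V) : Prop where
  vx : f v x = 1
  eg : f e g = 1
  eg2 : f e2 g2 = 1
  ve : f v e = 0
  vg : f v g = 0
  ve2 : f v e2 = 0
  vg2 : f v g2 = 0
  xe : f x e = 0
  xg : f x g = 0
  xe2 : f x e2 = 0
  xg2 : f x g2 = 0
  ee2 : f e e2 = 0
  eg2' : f e g2 = 0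
  ge2 : f g e2 = 0
  gg2 : f g g2 = 0

theorem Fr.swap1 (hF : Fintype.card F = 2) {v x e g e2 g2 : V} (h : Fr v x e g e2 g2) : Fr v x g e e2 g2 :=
  ⟨h.vx, by rw [f_symm hF, h.eg], h.eg2, h.vg, h.ve, h.ve2, h.vg2, h.xg, h.xe, h.xe2, h.xg2, h.ge2, h.gg2, h.ee2,
    h.eg2'⟩

theorem Fr.swap (hF : Fintype.card F = 2) {v x e g e2 g2 : V} (h : Fr v x e g e2 g2) : Fr v x e2 g2 e g :=
  ⟨h.vx, h.eg2, h.eg, h.ve2, h.vg2, h.ve, h.vg, h.xe2, h.xg2, h.xe, h.xg, by rw [f_symm hF, h.ee2],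
    by rw [f_symm hF, h.ge2], by rw [f_symm hF, h.eg2'], by rw [f_symm hF, h.gg2]⟩

theorem Fr.mix (hF : Fintype.card F = 2) {v x e g e2 g2 : V} (h : Fr v x e g e2 g2) :
    Fr v x (e + e2) g e2 (g + g2) := by
  have h1 : f e2 g = 0 := by rw [f_symm hF, h.ge2]
  constructor <;> simp only [sympForm_add_left, sympForm_add_right, h.vx, h.eg, h.eg2, h.ve, h.vg, h.ve2, h.vg2, h.xe,
    h.xg, h.xe2, h.xg2, h.ee2, h.eg2', h.ge2, h.gg2, h1, sympForm_self, add_zero, zero_add, F_two hF]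

theorem form_smul' (s : Sp) (u v : V) : f (s • u) (s • v) = f u v := form_smul s u v

theorem exists_basis (m : ℕ) (F : Type w) [Field F] : ∃ P R : Fin m → (Fin m ⊕ Fin m → F),
    (∀ i, sympForm m F (P i) (R i) = 1) ∧ (∀ i j, i ≠ j → sympForm m F (P i) (R j) = 0) ∧
    (∀ i j, sympForm m F (P i) (P j) = 0) ∧ (∀ i j, sympForm m F (R i) (R j) = 0) ∧
    (∀ i j, i ≠ j → sympForm m F (R i) (P j) = 0) := by
  refine ⟨fun i => Pi.single (Sum.inr i) 1, fun i => Pi.single (Sum.inl i) 1, ?_, ?_, ?_, ?_, ?_⟩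
  · intro i
    rw [sympForm_single_inr_left]
    simp
  · intro i j hij
    rw [sympForm_single_inr_left]
    simp [hij]
  · intro i j
    rw [sympForm_single_inr_left]
    simp
  · intro i j
    rw [sympForm_single_inl_left]
    simp
  · intro i j hij
    rw [sympForm_single_inl_left]
    simp [hij]

/-- a hyperbolic pair is part of a frame -/
theorem exists_Fr (hm : 3 ≤ m) {v x : V} (h : f v x = 1) : ∃ e g e2 g2 : V, Fr v x e g e2 g2 := by
  obtain ⟨i0, i1, i2, h01, h02, h12⟩ : ∃ i0 i1 i2 : Fin m, i0 ≠ i1 ∧ i0 ≠ i2 ∧ i1 ≠ i2 := by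
    refine ⟨⟨0, by omega⟩, ⟨1, by omega⟩, ⟨2, by omega⟩, ?_, ?_, ?_⟩ <;>
      · intro h
        exact absurd (congrArg Fin.val h) (by norm_num)
  obtain ⟨P, R, hPR, hPR', hPP, hRR, hRP⟩ := exists_basis m F
  obtain ⟨s, -, hs1, hs2⟩ := exists_transvGroup_hyperbolic (hPR i0) h
  have e1 : s • P i0 = v := hs1
  have e2 : s • R i0 = x := hs2
  subst e1
  subst e2
  refine ⟨s • P i1, s • R i1, s • P i2, s • R i2, ⟨h, ?_, ?_, ?_, ?_, ?_, ?_, ?_, ?_, ?_, ?_, ?_, ?_, ?_, ?_⟩⟩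
  · rw [form_smul', hPR]
  · rw [form_smul', hPR]
  · rw [form_smul', hPP]
  · rw [form_smul', hPR' _ _ h01]
  · rw [form_smul', hPP]
  · rw [form_smul', hPR' _ _ h02]
  · rw [form_smul', hRP _ _ h01]
  · rw [form_smul', hRR]
  · rw [form_smul', hRP _ _ h02]
  · rw [form_smul', hRR]
  · rw [form_smul', hPP]
  · rw [form_smul', hPR' _ _ h12]
  · rw [form_smul', hRP _ _ h12]
  · rw [form_smul', hRR]

/-- two orthogonal vectors are part of a frame -/
theorem exists_Fr_perp (hF : Fintype.card F = 2) (hm : 3 ≤ m) {v w : V} (hv : v ≠ 0) (hw : w ≠ 0) (hvw : v ≠ w)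
    (h : f v w = 0) : ∃ v' w' e g : V, f v' v = 1 ∧ f v' w = 0 ∧ f w' w = 1 ∧ f w' v = 0 ∧ f e g = 1 ∧
      f e v = 0 ∧ f e w = 0 ∧ f g v = 0 ∧ f g w = 0 := by
  obtain ⟨i0, i1, i2, h01, h02, h12⟩ : ∃ i0 i1 i2 : Fin m, i0 ≠ i1 ∧ i0 ≠ i2 ∧ i1 ≠ i2 := by
    refine ⟨⟨0, by omega⟩, ⟨1, by omega⟩, ⟨2, by omega⟩, ?_, ?_, ?_⟩ <;>
      · intro h
        exact absurd (congrArg Fin.val h) (by norm_num)
  obtain ⟨P, R, hPR, hPR', hPP, hRR, hRP⟩ := exists_basis m F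
  have n0 : ∀ i, P i ≠ 0 := by
    intro i h0
    have := hPR i
    rw [h0, sympForm_zero_left] at this
    exact zero_ne_one this
  have n1 : P i0 ≠ P i1 := by
    intro h0
    have := hPR i0
    rw [h0, hPR' _ _ h01.symm] at this
    exact zero_ne_one this
  obtain ⟨s, rfl, rfl⟩ := exists_perp_pair hF (n0 i0) (n0 i1) n1 (hPP _ _) hv hw hvw h
  have hRP' : ∀ i, f (R i) (P i) = 1 := fun i => by rw [f_symm hF, hPR]
  refine ⟨s • R i0, s • R i1, s • P i2, s • R i2, ?_, ?_, ?_, ?_, ?_, ?_, ?_, ?_, ?_⟩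
  · rw [form_smul', hRP']
  · rw [form_smul', hRP _ _ h01]
  · rw [form_smul', hRP']
  · rw [form_smul', hRP _ _ h01.symm]
  · rw [form_smul', hPR]
  · rw [form_smul', hPP]
  · rw [form_smul', hPP]
  · rw [form_smul', hRP _ _ h02.symm]
  · rw [form_smul', hRP _ _ h12.symm]

variable {Q : (Fin m ⊕ Fin m → F) → F} (hQ : ∀ v w, Q (v + w) = Q v + Q w + sympForm m F v w)
  (hF : Fintype.card F = 2)
include hQ hF

theorem exists_Fr_sing (hm : 3 ≤ m) {v x : V} (h : f v x = 1) : ∃ e g e2 g2 : V, Fr v x e g e2 g2 ∧ Q e = 0 := by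
  obtain ⟨e, g, e2, g2, h⟩ := exists_Fr hm h
  rcases F_cases hF (Q e) with h1 | h1
  · exact ⟨e, g, e2, g2, h, h1⟩
  rcases F_cases hF (Q g) with h2 | h2
  · exact ⟨g, e, e2, g2, h.swap1 hF, h2⟩
  rcases F_cases hF (Q e2) with h3 | h3
  · exact ⟨e2, g2, e, g, h.swap hF, h3⟩
  rcases F_cases hF (Q g2) with h4 | h4
  · exact ⟨g2, e2, e, g, (h.swap hF).swap1 hF, h4⟩
  exact ⟨e + e2, g, e2, g + g2, h.mix hF, by rw [hQ, h1, h3, h.ee2, add_zero, F_two hF]⟩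

theorem Q_zero : Q 0 = 0 := by
  have h := hQ 0 0
  rw [add_zero, sympForm_zero_left, add_zero, F_add_self hF] at h
  exact h

/-- a vector of norm one in a coset -/
theorem exists_one {w1 w2 : V} (h : f w1 w2 = 1) (z : V) :
    Q z = 1 ∨ Q (z + w1) = 1 ∨ Q (z + w2) = 1 ∨ Q (z + w1 + w2) = 1 := by
  by_contra hcon
  push Not at hcon
  obtain ⟨h1, h2, h3, h4⟩ := hcon
  have k1 := (F_cases hF _).resolve_right h1
  have k2 := (F_cases hF _).resolve_right h2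
  have k3 := (F_cases hF _).resolve_right h3
  have k4 := (F_cases hF _).resolve_right h4
  rw [hQ (z + w1) w2, k2, zero_add, sympForm_add_left, h] at k4
  rw [hQ z w2, k1, zero_add] at k3
  rw [← add_assoc, k3, zero_add] at k4
  exact one_ne_zero k4

/-- a chain of type `A₅` -/
theorem exists_chain (hm : 3 ≤ m) {v x : V} (h : f v x = 1) (hv : Q v = 1) :
    ∃ y r w : V, Q y = 1 ∧ Q r = 1 ∧ Q w = 1 ∧ f y x = 1 ∧ f y v = 0 ∧ f r y = 1 ∧ f r x = 0 ∧ f r v = 0 ∧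
      f w r = 1 ∧ f w y = 0 ∧ f w x = 0 ∧ f w v = 0 := by
  obtain ⟨e, g, e2, g2, H, he⟩ := exists_Fr_sing hQ hF hm h
  have s1 : f x v = 1 := by rw [f_symm hF, H.vx]
  have s2 : f g e = 1 := by rw [f_symm hF, H.eg]
  have s3 : f g2 e2 = 1 := by rw [f_symm hF, H.eg2]
  have t1 : f e v = 0 := by rw [f_symm hF, H.ve]
  have t2 : f g v = 0 := by rw [f_symm hF, H.vg]
  have t3 : f e2 v = 0 := by rw [f_symm hF, H.ve2]
  have t4 : f g2 v = 0 := by rw [f_symm hF, H.vg2]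
  have t5 : f e x = 0 := by rw [f_symm hF, H.xe]
  have t6 : f g x = 0 := by rw [f_symm hF, H.xg]
  have t7 : f e2 x = 0 := by rw [f_symm hF, H.xe2]
  have t8 : f g2 x = 0 := by rw [f_symm hF, H.xg2]
  have t9 : f e2 e = 0 := by rw [f_symm hF, H.ee2]
  have t10 : f g2 e = 0 := by rw [f_symm hF, H.eg2']
  have t11 : f e2 g = 0 := by rw [f_symm hF, H.ge2]
  have t12 : f g2 g = 0 := by rw [f_symm hF, H.gg2]
  -- the vector `r`
  obtain ⟨r, hr1, hre, hrv, hrx, hre2, hrg2⟩ : ∃ r : V, Q r = 1 ∧ f r e = 1 ∧ f r v = 0 ∧ f r x = 0 ∧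
      f e2 r = 0 ∧ f g2 r = 0 := by
    rcases F_cases hF (Q g) with h1 | h1
    · refine ⟨g + e, ?_, ?_, ?_, ?_, ?_, ?_⟩
      · rw [hQ, h1, he, s2, add_zero, zero_add]
      all_goals simp only [sympForm_add_left, sympForm_add_right, s2, sympForm_self, t1, t2, t5, t6, t9, t10, t11, t12,
        add_zero]
    · exact ⟨g, h1, s2, t2, t6, t11, t12⟩
  -- the vector `h3`
  obtain ⟨k, hk1, hkv, hkx, hke, hkr⟩ : ∃ k : V, Q k = 1 ∧ f k v = 0 ∧ f k x = 0 ∧ f k e = 0 ∧ f k r = 0 := by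
    rcases F_cases hF (Q e2) with h1 | h1
    · rcases F_cases hF (Q g2) with h2 | h2
      · refine ⟨e2 + g2, ?_, ?_, ?_, ?_, ?_⟩
        · rw [hQ, h1, h2, H.eg2, add_zero, zero_add]
        all_goals simp only [sympForm_add_left, t3, t4, t7, t8, t9, t10, hre2, hrg2, add_zero]
      · exact ⟨g2, h2, t4, t8, t10, hrg2⟩
    · exact ⟨e2, h1, t3, t7, t9, hre2⟩
  have her : f e r = 1 := by rw [f_symm hF, hre]
  have hek : f e k = 0 := by rw [f_symm hF, hke]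
  refine ⟨v + e, r, e + k, ?_, hr1, ?_, ?_, ?_, ?_, hrx, hrv, ?_, ?_, ?_, ?_⟩
  · rw [hQ, hv, he, H.ve, add_zero, add_zero]
  · rw [hQ, he, hk1, hek, add_zero, zero_add]
  all_goals simp only [sympForm_add_left, sympForm_add_right, H.vx, t1, t5, sympForm_self, hre, hrv, hkr, her, hkv, hke,
    hkx, add_zero, zero_add]

end Cfsg.Agent.H57.TTSpFrame
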